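import Mathlib
import Cfsg.Prelude.Def_Local
import Cfsg.Prelude.Def_KGroupFacts
import Cfsg.Agent.Loc.MssSyl
import Cfsg.Agent.Gold.Defs
import Cfsg.Agent.Wr.Pre

/-!
# A standard subgroup with trivial centre and at most two classes of involutions: the configurations
-/

set_option autoImplicit false

namespace Cfsg.Agent.Wz

open Cfsg.Agent.Loc.Mss Cfsg.Agent.Gold Cfsg.Agent.Wr Subgroup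

universe u

/-- `g` has order a power of two. -/
def Two {G : Type*} [Group G] (g : G) : Prop := ∃ n, g ^ 2 ^ n = 1

/-- `w` is conjugate to `a` in `L`. -/
def Cj {G : Type*} [Group G] (L : Subgroup G) (a w : G) : Prop := ∃ l ∈ L, l * a * l⁻¹ = w

/-- A quasisimple subgroup `A` with centre of odd order, a Sylow 2-subgroup `T` with centre `⟨z⟩`, every involution
conjugate to `z` or `β`, and `P` a Sylow 2-subgroup of `C_A(β)`. -/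
structure Lw {G : Type*} [Group G] (A T P : Subgroup G) (z β : G) : Prop where
  qs : IsQuasisimple A
  zodd : ∀ g ∈ A, g ∈ 𝐂[A] → Odd (orderOf g)
  syl : Syl 2 T A
  zz : z * z = 1
  z1 : z ≠ 1
  zD : z ∈ ⁅T, T⁆
  zc : z ∈ 𝐂[T]
  bb : β * β = 1
  b1 : β ≠ 1
  bD : β ∈ ⁅P, P⁆
  PT : P ≤ T
  sylP : Syl 2 P (A ⊓ C1 β)
  bz : β = z ∨ β ∉ 𝐂[T]
  cls : ∀ u ∈ A, u * u = 1 → u ≠ 1 → Cj A z u ∨ Cj A β u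
  idx : ∀ g ∈ 𝐍[A], ∀ g' ∈ 𝐍[A], g ∈ A ⊔ 𝐂[A] ∨ g' ∈ A ⊔ 𝐂[A] ∨ g * g' ∈ A ⊔ 𝐂[A]
  inv : ∀ g ∈ 𝐍[A], g ∉ A ⊔ 𝐂[A] → ∃ l ∈ A, g * l * (g * l) ∈ 𝐂[A]
  cenP : ∀ g ∈ 𝐍[A], g ∈ 𝐂[P] → g ∈ 𝐂[A] ∨ g * z ∈ 𝐂[A] ∨ g * β ∈ 𝐂[A] ∨ g * (β * z) ∈ 𝐂[A]
  genT : T ≤ closure {x | x ∈ T ∧ x * x = 1 ∧ 4 * Nat.card T < Nat.card P * Nat.card (T ⊓ C1 x : Subgroup G)}
  genP : P ≤ closure {x | x ∈ P ∧ x * x = 1 ∧ 4 < Nat.card (P ⊓ C1 x : Subgroup G)}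
  e8 : ∃ W ≤ T, (∀ w ∈ W, w * w = 1) ∧ 8 ≤ Nat.card W

/-- The configuration of the final fusion argument: `L` is the diagonal of `A × t A t`. -/
structure En (G : Type u) [Group G] where
  (X L A T P : Subgroup G)
  (t z β : G)
  lw : Lw A T P z β
  nX : X.Normal
  sX : IsSimpleGroup X
  AX : A ≤ X
  tt : t * t = 1
  comm : ∀ a ∈ A, ∀ b ∈ A, a * (t * b * t) = t * b * t * a
  diag : ∀ g, g ∈ L ↔ ∃ a ∈ A, g = a * (t * a * t)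
  zL : ∀ g ∈ L, g ∈ 𝐂[L] → g = 1
  nL : C1 t ≤ 𝐍[L]
  two : ∀ k ∈ 𝐂[L], k * t = t * k → Two k → k = 1 ∨ k = t
  odd : ∀ k ∈ 𝐂[L], k * t = t * k → Odd (orderOf k) → k ∈ 𝐂[A]
  idxL : ∀ g ∈ C1 t, ∀ g' ∈ C1 t, g ∈ L ⊔ 𝐂[L] ∨ g' ∈ L ⊔ 𝐂[L] ∨ g * g' ∈ L ⊔ 𝐂[L]
  invL : ∀ g ∈ C1 t, g ∉ L ⊔ 𝐂[L] → ∃ l ∈ L, g * l * (g * l) ∈ 𝐂[L]
  cenL : ∀ g ∈ C1 t, (∀ a ∈ T, g * (a * (t * a * t)) = a * (t * a * t) * g) →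
    g ∈ 𝐂[L] ∨ g * (z * (t * z * t)) ∈ 𝐂[L]

namespace En

variable {G : Type u} [Group G] (e : En G)

/-- The second factor. -/
def B : Subgroup G := cj(e.t, e.A)
/-- The Sylow 2-subgroup of the second factor. -/
def T2 : Subgroup G := cj(e.t, e.T)
/-- The subgroup `t P t`. -/
def P2 : Subgroup G := cj(e.t, e.P)
/-- The involution `t z t`. -/
def z2 : G := e.t * e.z * e.t⁻¹
/-- The involution `t β t`. -/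
def β2 : G := e.t * e.β * e.t⁻¹
/-- `T × T2`. -/
def S0 : Subgroup G := e.T ⊔ e.T2
/-- The normaliser of both factors. -/
def N0 : Subgroup G := 𝐍[e.A] ⊓ 𝐍[e.B]
/-- The subgroup permuting the two factors. -/
def Ns : Subgroup G := e.N0 ⊔ zpowers e.t
/-- An element interchanging the two factors. -/
def Sw (s : G) : Prop := cj(s, e.A) = e.B ∧ cj(s, e.B) = e.A
/-- An element of one of the two factors. -/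
def Pure (w : G) : Prop := w ∈ e.A ∨ w ∈ e.B

/-- A Sylow 2-subgroup of `Ns` containing `S0` and `t`. -/
structure Sy (S : Subgroup G) : Prop where
  syl : Syl 2 S e.Ns
  le0 : e.S0 ≤ S
  tS : e.t ∈ S
  infA : S ⊓ e.A = e.T
  infB : S ⊓ e.B = e.T2
  infAB : S ⊓ (e.A ⊔ e.B) = e.S0
  cen : ∀ s ∈ S, s ∈ 𝐂[e.A] → s ∈ 𝐂[e.B] → s = 1
  in0 : ∀ s ∈ S, s ∈ e.A ⊔ 𝐂[e.A] → s ∈ e.B ⊔ 𝐂[e.B] → s ∈ e.S0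
  com : ⁅S ⊓ e.N0, S ⊓ e.N0⁆ ≤ e.S0
  cen0 : ∀ s ∈ S, s ∈ 𝐂[e.S0] → s = 1 ∨ s = e.z ∨ s = e.z2 ∨ s = e.z * e.z2
  sw : ∀ s ∈ S, s ∉ e.N0 → Nat.card (S ⊓ C1 s : Subgroup G) ≤ 4 * Nat.card e.T

end En

/-- `w` is extremal in `S`. -/
def Ext {G : Type*} [Group G] (M S : Subgroup G) (w : G) : Prop := w ∈ S ∧ Syl 2 (S ⊓ C1 w) (M ⊓ C1 w)

/-- Facts on the second class of involutions, in the automorphism group `Γ` of `L`. -/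
structure Bd {Γ : Type*} [Group Γ] (L P B : Subgroup Γ) (z β : Γ) : Prop where
  card : Nat.card B = 4
  sq : ∀ b ∈ B, b * b = 1
  mem : β ∈ B
  le : B ≤ P
  nc : ¬ P ≤ 𝐂[B]
  bz : Cj L β (β * z)
  nB : ∀ φ, Two φ → φ ∈ C1 β → φ ∈ 𝐍[P] → φ ∈ 𝐍[B]
  nb : ∀ Y ≤ L, L ⊓ C1 β ≤ 𝐍[Y] → β ∈ Y → Y ⊓ P ≤ B ∨ ∃ w ∈ Y, Cj L z w
  cb : ∀ φ, Two φ → φ ∈ C1 β → φ ∈ 𝐍[P] → (∀ x ∈ P, x⁻¹ * (φ * x * φ⁻¹) ∈ B) → φ ∈ B ∨ φ * z ∈ B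
  mz : ∃ m ∈ L, m ∈ 𝐂[B] ∧ Cj L z (z * (m * z * m⁻¹))
  odd : ∃ h ∈ L ⊓ C1 β, (orderOf h).Prime ∧ orderOf h ≠ 2 ∧ ¬ orderOf h ∣ Nat.card (L ⊓ C1 z : Subgroup Γ) ∧
    ∃ l ∈ L ⊓ C1 β, Even (orderOf (h * (l * h * l⁻¹)))
  td : B ≤ ⁅P ⊓ 𝐂[B], P ⊓ 𝐂[B]⁆ ∨ ∃ U ≤ P ⊓ 𝐂[B], 16 ≤ Nat.card U ∧
    ∀ φ, Two φ → φ ∈ 𝐂[B] → φ ∈ 𝐍[P ⊓ 𝐂[B]] → φ ∈ 𝐂[U]
  sqU : ∀ u ∈ ⁅P ⊓ 𝐂[B], P ⊓ 𝐂[B]⁆, u * u = 1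
  bU : ∀ φ, Two φ → φ ∈ 𝐂[B] → φ ∈ 𝐍[P ⊓ 𝐂[B]] → ∃ D ≤ P ⊓ 𝐂[B], ⁅P ⊓ 𝐂[B], P ⊓ 𝐂[B]⁆ ≤ D ∧
    (∀ x ∈ P ⊓ 𝐂[B], x⁻¹ * (φ * x * φ⁻¹) ∈ D) ∧ ∀ d ∈ D, d * d = 1 → d ∈ ⁅P ⊓ 𝐂[B], P ⊓ 𝐂[B]⁆
  aff : ∀ f : Γ → Γ, (∀ a ∈ ⁅P ⊓ 𝐂[B], P ⊓ 𝐂[B]⁆, f a ∈ ⁅P ⊓ 𝐂[B], P ⊓ 𝐂[B]⁆) →
    (∀ a ∈ ⁅P ⊓ 𝐂[B], P ⊓ 𝐂[B]⁆, ∀ b ∈ ⁅P ⊓ 𝐂[B], P ⊓ 𝐂[B]⁆, f (a * b) = f a * f b) →
    (∀ a ∈ ⁅P ⊓ 𝐂[B], P ⊓ 𝐂[B]⁆, f a = 1 → a = 1) → ∃ a ∈ ⁅P ⊓ 𝐂[B], P ⊓ 𝐂[B]⁆,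
      ((a = 1 ∨ Cj L β a) ∧ Cj L z (β * f a)) ∨ (Cj L z a ∧ (β * f a = 1 ∨ Cj L β (β * f a)))

/-- Facts used to show that the centraliser of the standard subgroup has Sylow 2-subgroups of order two. -/
structure Tg {Γ : Type*} [Group Γ] (L T P B : Subgroup Γ) (z β y : Γ) : Prop where
  cenD : ∀ g, Odd (orderOf g) → g ∈ 𝐂[⁅T, T⁆] → g = 1
  kap : ∀ φ, φ ∉ L → φ * φ = 1 →
    (∃ f₁ ∈ L, ∃ f₂ ∈ L, ∃ f₃ ∈ L, ∃ k₁ k₂, k₁ ≠ 1 ∧ k₂ ≠ 1 ∧ k₁ ≠ k₂ ∧ k₁ * k₁ = 1 ∧ k₂ * k₂ = 1 ∧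
      k₁ * k₂ = k₂ * k₁ ∧ f₁ * φ * f₁⁻¹ = k₁ * φ ∧ f₂ * φ * f₂⁻¹ = k₂ * φ ∧ f₃ * φ * f₃⁻¹ = k₁ * k₂ * φ) ∨
    ∃ f ∈ L, ∃ j ∈ L, j * φ = φ * j ∧ j * j ≠ 1 ∧ j * j * (j * j) = 1 ∧ f * φ * f⁻¹ = j * j * φ
  yz : y = z ∨ (β = z ∧ y ∈ T ∧ y * y = z ∧ y ∉ 𝐂[T] ∧ T ≤ 𝐍[zpowers y] ∧ y ∈ ⁅T ⊓ C1 y, T ⊓ C1 y⁆)
  nz : ∀ Y ≤ L, L ⊓ C1 z ≤ 𝐍[Y] → z ∈ Y →
    (∀ H : Subgroup Γ, (∀ w ∈ Y, w * w = 1 → w ≠ 1 → L ⊓ C1 w ≤ H) → L ≤ H) ∨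
    ((∀ w ∈ Y, w * z = z * w → w * w = 1 → w = 1 ∨ w = z) ∧
      ∀ φ, Two φ → φ ∈ C1 z → (∀ c ∈ L ⊓ C1 z, c⁻¹ * (φ * c * φ⁻¹) ∈ Y) → φ ∈ zpowers y)
  bd : β = z ∨ Bd L P B z β

/-- The inner automorphisms. -/
abbrev inn (A : Type*) [Group A] : Subgroup (MulAut A) := (MulAut.conj : A →* MulAut A).range

/-- The model: a simple group and facts on its automorphism group. -/
structure Md (A : Type) [Group A] where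
  (T P B : Subgroup (MulAut A))
  z₀ : A
  (β y : MulAut A)
  simple : IsSimpleGroup A
  lw : Lw (inn A) T P (MulAut.conj z₀) β
  tg : Tg (inn A) T P B (MulAut.conj z₀) β y

/-- The standard subgroup `L`, identified with the model by `e`; `μ` is the action of its normaliser. -/
structure Bas {A : Type} [Group A] (m : Md A) (G : Type u) [Group G] where
  L : Subgroup G
  e : A →* G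
  μ : G → MulAut A
  std : IsStandardSubgroup L
  inj : Function.Injective e
  range : e.range = L
  act : ∀ g ∈ 𝐍[L], ∀ a, g * e a * g⁻¹ = e (μ g a)

namespace Bas

variable {A : Type} [Group A] {m : Md A} {G : Type u} [Group G] (b : Bas m G)

/-- The subgroup of `L` corresponding to a group of inner automorphisms. -/
def pre (Y : Subgroup (MulAut A)) : Subgroup G := (Y.comap MulAut.conj).map b.e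
/-- The central involution. -/
def z : G := b.e m.z₀

/-- Commuting involutions `t` of `C(L)` and `u k` of another conjugate of `C(L)`. -/
structure Pair (g t k u : G) : Prop where
  nn : g ∉ 𝐍[b.L]
  tt : t * t = 1
  t1 : t ≠ 1
  tK : t ∈ 𝐂[b.L]
  kk : k * k = 1
  kK : k ∈ 𝐂[b.L]
  kt : k * t = t * k
  uL : u ∈ b.L
  uu : u = b.z ∨ b.μ u = m.β
  mem : u * k ∈ cj(g, 𝐂[b.L])

/-- `⟨t⟩` is a Sylow 2-subgroup of `C(L)` and `t` is conjugate to `t z`. -/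
structure Tw (t : G) : Prop where
  tt : t * t = 1
  t1 : t ≠ 1
  tK : t ∈ 𝐂[b.L]
  two : ∀ k ∈ 𝐂[b.L], k * t = t * k → Two k → k = 1 ∨ k = t
  fus : ∃ g, g * t * g⁻¹ = t * b.z

end Bas

/-- The configuration after factoring out the odd part of `C(t) ⊓ C(L)`. -/
structure Co {A : Type} [Group A] (z₀ : A) (H : Type u) [Group H] where
  ι : A →* H
  t : H
  inj : Function.Injective ι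
  tt : t * t = 1
  tc : ∀ a, ι a * t = t * ι a
  tL : ∀ a, ι a ≠ t
  act : ∀ g, g * t = t * g → ∃ φ : MulAut A, ∀ a, g * ι a * g⁻¹ = ι (φ a)
  two : ∀ g, g * t = t * g → (∀ a, g * ι a = ι a * g) → g = 1 ∨ g = t
  fus : ∃ g, g * t * g⁻¹ = t * ι z₀

namespace Co

variable {A : Type} [Group A] {z₀ : A} {H : Type u} [Group H] (c : Co z₀ H)

/-- One factor of the wreath product. -/
structure Out (K : Subgroup H) : Prop where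
  comm : ∀ a ∈ K, ∀ b ∈ K, a * (c.t * b * c.t) = c.t * b * c.t * a
  onto : ∀ l, ∃ a ∈ K, a * (c.t * a * c.t) = c.ι l
  into : ∀ a ∈ K, ∃ l, a * (c.t * a * c.t) = c.ι l

/-- An involution over `z₀` centralised by `C(z₀)`. -/
structure Zeta (ζ : H) : Prop where
  sq : ζ * ζ = 1
  ph : ph c.t ζ = c.ι z₀
  cen : ∀ a, a * z₀ = z₀ * a → c.ι a * ζ = ζ * c.ι a

open Classical in
/-- The lift of a conjugate of `z₀`. -/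
noncomputable def Z (ζ : H) (w : A) : H :=
  if h : ∃ l, l * z₀ * l⁻¹ = w then c.ι h.choose * ζ * (c.ι h.choose)⁻¹ else 1

/-- The lifts of `a` and `b` to different factors commute. -/
def Good (ζ : H) (a b : A) : Prop :=
  IsConj z₀ a ∧ IsConj z₀ b ∧ c.Z ζ a * (c.t * c.Z ζ b * c.t) = c.t * c.Z ζ b * c.t * c.Z ζ a

/-- The lift is multiplicative on the pair. -/
def Add (ζ : H) (a b : A) : Prop :=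
  IsConj z₀ a ∧ IsConj z₀ b ∧ IsConj z₀ (a * b) ∧ c.Z ζ (a * b) = c.Z ζ a * c.Z ζ b

end Co

/-- The rules satisfied by the relation `Co.Good`. -/
structure Rules {A : Type*} [Group A] (z₀ : A) (Ad Γ : A → A → Prop) : Prop where
  cls : ∀ a b, Γ a b → IsConj z₀ a
  refl : ∀ a, IsConj z₀ a → Γ a a
  symm : ∀ a b, Γ a b → Γ b a
  conj : ∀ a b l, Γ a b → Γ (l * a * l⁻¹) (l * b * l⁻¹)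
  tri : ∀ a b c, Γ a b → Γ a c → Γ b c → Γ a (b * c * b)
  add : ∀ a b c, Γ a b → Γ a c → Ad b c → Γ a (b * c)

/-- Every relation obeying the rules and containing the base pairs holds on a generating set. -/
def Gen {A : Type*} [Group A] (z₀ : A) (Base Ad : A → A → Prop) : Prop :=
  ∀ Γ : A → A → Prop, Rules z₀ Ad Γ → (∀ a b, Base a b → Γ a b) →
    ∃ W : Set A, closure W = ⊤ ∧ ∀ a ∈ W, ∀ b ∈ W, Γ a b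

/-- Two elementary abelian groups generating a group of class two, and an involution `t` centralising them. -/
structure EF {G : Type*} [Group G] (t : G) (E F : Subgroup G) : Prop where
  pE : Pre t E
  pF : Pre t F
  cm : ∀ e ∈ E, ∀ x ∈ F, e * x * e * x ∈ E ⊓ F
  cE : ∀ e ∈ E, ∀ x ∈ F, e * x = x * e → e ∈ F ∨ x ∈ E
  cU : ∀ g, g * t = t * g → g ∈ 𝐂[E ⊓ F] → g ∈ E ⊔ F ∨ g * t ∈ E ⊔ F ∨ (cj(g, F) = E ∧ cj(g, E) = F)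
  neE : ∃ e ∈ E, ∃ x ∈ F, ∃ x' ∈ F, e ∉ F ∧ x ∉ E ∧ x' ∉ E ∧ x * x' ∉ E
  neF : ∃ x ∈ F, ∃ e ∈ E, ∃ e' ∈ E, x ∉ E ∧ e ∉ F ∧ e' ∉ F ∧ e * e' ∉ F

/-- The output of `Wj.exists_ab3`. -/
structure Ab3 {G : Type*} [Group G] (t : G) (V W : Subgroup G) : Prop where
  ab : Ab t V W
  nrm : ∀ n, n * t = t * n → (∀ v ∈ V, n * v * n⁻¹ ∈ V) → ∀ w ∈ W, n * w * n⁻¹ ∈ W
  sq : (∀ w ∈ W, w * w = 1) ∨ ∀ w ∈ W, w * w = ph t w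

/-- The doubles of `E` and `F`. -/
structure DW {G : Type*} [Group G] (t : G) (E F W W' : Subgroup G) : Prop where
  ef : EF t E F
  aE : Ab3 t E W
  aF : Ab3 t F W'
  dE : Dbl t E W
  dF : Dbl t F W'
  memE : ∀ d, d ∈ 𝐂[E] → ph t d ∈ E → ph t d ≠ 1 → d * d = 1 → d ∈ W
  memF : ∀ d, d ∈ 𝐂[F] → ph t d ∈ F → ph t d ≠ 1 → d * d = 1 → d ∈ W'
  onto : ∀ u ∈ E ⊓ F, ∃ d ∈ W ⊓ W', ph t d = u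
  cm : ∀ d ∈ W, ∀ v ∈ W', d * v * d * v ∈ W ⊓ W'

/-- A multiplicative section of `ph t : W → E`. -/
structure Sec {G : Type*} [Group G] (t : G) (E W : Subgroup G) (θ : G → G) : Prop where
  mem : ∀ e ∈ E, θ e ∈ W
  ph : ∀ e ∈ E, ph t (θ e) = e
  mul : ∀ a ∈ E, ∀ b ∈ E, θ (a * b) = θ a * θ b

/-- `g` acts on `W = θ(E) × t θ(E) t` as `1 + ω (x - 1)`. -/
def Act4 {G : Type*} [Group G] (t : G) (E : Subgroup G) (θ : G → G) (g x : G) : Prop :=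
  ∀ p ∈ E, g * θ p * g⁻¹ = θ p * (t * θ (x * p * x⁻¹ * p) * t) ∧
    g * (t * θ p * t) * g⁻¹ = t * θ p * t * θ (x * p * x⁻¹ * p) * (t * θ (x * p * x⁻¹ * p) * t)

/-- The action of `Act4` on pairs. -/
def phi4 {G : Type*} [Group G] (x : G) (v : G × G) : G × G :=
  (v.1 * (x * v.2 * x⁻¹ * v.2), v.2 * (x * v.1 * x⁻¹ * v.1) * (x * v.2 * x⁻¹ * v.2))

/-- Finite data on the second class of involutions; `γ` is an outer automorphism centralising `B`. -/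
structure RawB {A : Type} [Group A] (P B D : Subgroup A) (z β : A) (γ : MulAut A) : Prop where
  card : Nat.card B = 4
  sq : ∀ b ∈ B, b * b = 1
  mem : β ∈ B
  le : B ≤ P
  nc : ¬ P ≤ 𝐂[B]
  nP : P ≤ 𝐍[B]
  fix : ∀ b ∈ B, γ b = b
  bz : IsConj β (β * z)
  nzb : ¬ IsConj z β
  nb : ∀ Y ≤ P, P ≤ 𝐍[Y] → β ∈ Y → Y ≤ B ⊔ zpowers z ∨ ∃ w ∈ Y, IsConj z w
  cb : ∀ p ∈ P, (∀ x ∈ P, x⁻¹ * (p * x * p⁻¹) ∈ B) → p ∈ B ∨ p * z ∈ B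
  cb' : ∀ p ∈ P, ∃ x ∈ P, x⁻¹ * (p * γ x * p⁻¹) ∉ B
  mz : ∃ m ∈ 𝐂[B], IsConj z (z * (m * z * m⁻¹))
  odd : ∃ h ∈ C1 β, (orderOf h).Prime ∧ orderOf h ≠ 2 ∧ ¬ orderOf h ∣ Nat.card (C1 z) ∧
    ∃ l ∈ C1 β, Even (orderOf (h * (l * h * l⁻¹)))
  td : B ≤ ⁅P ⊓ 𝐂[B], P ⊓ 𝐂[B]⁆ ∨ (16 ≤ Nat.card (P ⊓ 𝐂[B] ⊓ 𝐂[P ⊓ 𝐂[B]] : Subgroup A) ∧
    ∀ u ∈ P ⊓ 𝐂[B] ⊓ 𝐂[P ⊓ 𝐂[B]], γ u = u)
  sqU : ∀ u ∈ ⁅P ⊓ 𝐂[B], P ⊓ 𝐂[B]⁆, u * u = 1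
  leD : D ≤ P ⊓ 𝐂[B]
  cD : ⁅P ⊓ 𝐂[B], P ⊓ 𝐂[B]⁆ ≤ D
  gD : ∀ x ∈ P ⊓ 𝐂[B], x⁻¹ * γ x ∈ D
  iD : ∀ d ∈ D, d * d = 1 → d ∈ ⁅P ⊓ 𝐂[B], P ⊓ 𝐂[B]⁆
  aff : ∀ f : A → A, (∀ a ∈ ⁅P ⊓ 𝐂[B], P ⊓ 𝐂[B]⁆, f a ∈ ⁅P ⊓ 𝐂[B], P ⊓ 𝐂[B]⁆) →
    (∀ a ∈ ⁅P ⊓ 𝐂[B], P ⊓ 𝐂[B]⁆, ∀ b ∈ ⁅P ⊓ 𝐂[B], P ⊓ 𝐂[B]⁆, f (a * b) = f a * f b) →
    (∀ a ∈ ⁅P ⊓ 𝐂[B], P ⊓ 𝐂[B]⁆, f a = 1 → a = 1) → ∃ a ∈ ⁅P ⊓ 𝐂[B], P ⊓ 𝐂[B]⁆,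
      ((a = 1 ∨ IsConj β a) ∧ IsConj z (β * f a)) ∨ (IsConj z a ∧ (β * f a = 1 ∨ IsConj β (β * f a)))

/-- Finite data on the simple group; `α` is an involutory outer automorphism normalising `T`, `γ` an outer automorphism
normalising `P` and fixing `β`. -/
structure Raw {A : Type} [Group A] (T P B D : Subgroup A) (z β y : A) (α γ : MulAut A) : Prop where
  simple : IsSimpleGroup A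
  out : Nat.card (Out A) = 2
  syl : Syl 2 T ⊤
  zz : z * z = 1
  z1 : z ≠ 1
  zD : z ∈ ⁅T, T⁆
  zc : z ∈ 𝐂[T]
  bb : β * β = 1
  b1 : β ≠ 1
  bD : β ∈ ⁅P, P⁆
  PT : P ≤ T
  cP : ∀ g, g * z = z * g → (g * β = β * g ↔ g ∈ P ∨ β = z)
  PT' : β = z → P = T
  bz : β = z ∨ β ∉ 𝐂[T]
  cls : ∀ u, u * u = 1 → u ≠ 1 → IsConj z u ∨ IsConj β u
  cenP : ∀ g ∈ 𝐂[P], g = 1 ∨ g = z ∨ g = β ∨ g = β * z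
  genT : T ≤ closure {x | x ∈ T ∧ x * x = 1 ∧ 4 * Nat.card T < Nat.card P * Nat.card (T ⊓ C1 x : Subgroup A)}
  genP : P ≤ closure {x | x ∈ P ∧ x * x = 1 ∧ 4 < Nat.card (P ⊓ C1 x : Subgroup A)}
  e8 : ∃ W ≤ T, (∀ w ∈ W, w * w = 1) ∧ 8 ≤ Nat.card W
  cenD : ∀ g ∈ 𝐂[⁅T, T⁆], g ∈ T
  αα : α * α = 1
  αT : ∀ x ∈ T, α x ∈ T
  γα : γ * α ∈ inn A
  γP : ∀ x ∈ P, γ x ∈ P
  γβ : γ β = β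
  γγ : ∃ p ∈ P, γ * γ = MulAut.conj p
  γn : ∀ p ∈ P, ∃ x ∈ P, p * γ x * p⁻¹ ≠ x
  kap : ∀ p ∈ T, p * α p = 1 →
    (∃ f₁ f₂ f₃ k₁ k₂, k₁ ≠ 1 ∧ k₂ ≠ 1 ∧ k₁ ≠ k₂ ∧ k₁ * k₁ = 1 ∧ k₂ * k₂ = 1 ∧ k₁ * k₂ = k₂ * k₁ ∧
      f₁ * (p * α f₁ * p⁻¹)⁻¹ = k₁ ∧ f₂ * (p * α f₂ * p⁻¹)⁻¹ = k₂ ∧ f₃ * (p * α f₃ * p⁻¹)⁻¹ = k₁ * k₂) ∨
    ∃ f j, p * α j * p⁻¹ = j ∧ j * j ≠ 1 ∧ j * j * (j * j) = 1 ∧ f * (p * α f * p⁻¹)⁻¹ = j * j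
  yz : y = z ∨ (β = z ∧ y ∈ T ∧ y * y = z ∧ y ∉ 𝐂[T] ∧ y ∈ ⁅T ⊓ C1 y, T ⊓ C1 y⁆)
  ny : C1 z ≤ 𝐍[zpowers y]
  nz1 : ∀ Y : Subgroup A, C1 z ≤ 𝐍[Y] → z ∈ Y →
    (∀ H : Subgroup A, (∀ w ∈ Y, w * w = 1 → w ≠ 1 → C1 w ≤ H) → H = ⊤) ∨ Y ⊓ T ≤ zpowers y
  nz2 : ∀ p ∈ T, p ∈ zpowers y ∨ ∃ c ∈ C1 z, c⁻¹ * (p * c * p⁻¹) ∈ T ∧ c⁻¹ * (p * c * p⁻¹) ∉ zpowers y
  nz3 : ∀ p ∈ T, ∃ c ∈ C1 z, c⁻¹ * (p * α c * p⁻¹) ∈ T ∧ c⁻¹ * (p * α c * p⁻¹) ∉ zpowers y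
  perf : ⁅C1 z, C1 z⁆ ≤ ⁅⁅C1 z, C1 z⁆, ⁅C1 z, C1 z⁆⁆
  bd : β = z ∨ RawB P B D z β γ

end Cfsg.Agent.Wz
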