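import Mathlib
import Cfsg.Agent.Wz.Defs
import Cfsg.Agent.GT.Quasisimple
import Cfsg.Agent.GT.PGroupMaxClass

/-! Routine consequences of the structure `Lw`. -/

set_option autoImplicit false
set_option linter.unusedSectionVars false

namespace Cfsg.Agent.Wz

open Cfsg.Agent.Loc.Mss Cfsg.Agent.Gold Cfsg.Agent.Wr Subgroup
open scoped commutatorElement

universe u

variable {G : Type u} [Group G] [Finite G]

namespace EA

omit [Finite G] in
theorem mem_C1 {a g : G} : g ∈ C1 a ↔ g * a = a * g := mem_centralizer_singleton_iff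

omit [Finite G] in
theorem cjm {g x : G} {H : Subgroup G} : g * x * g⁻¹ ∈ cj(g, H) ↔ x ∈ H := by simp [mem_cj, mul_assoc]

omit [Finite G] in
theorem sur (g y : G) : ∃ x, g * x * g⁻¹ = y := ⟨g⁻¹ * y * g, by group⟩

omit [Finite G] in
theorem cj_C1 (g a : G) : cj(g, C1 a) = C1 (g * a * g⁻¹) := ext fun x => by
  obtain ⟨x, rfl⟩ := sur g x
  rw [cjm, mem_C1, mem_C1, conj_mul, conj_mul, mul_left_inj, mul_right_inj]

omit [Finite G] in
theorem cj_Cj {A : Subgroup G} {a w : G} (h : Cj A a w) (g : G) : Cj cj(g, A) (g * a * g⁻¹) (g * w * g⁻¹) := by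
  obtain ⟨l, hl, rfl⟩ := h
  exact ⟨_, conj_mem_cj hl, by group⟩

omit [Finite G] in
theorem two_inv {g : G} (h : g * g = 1) : Two g := ⟨1, by rw [pow_one, pow_two, h]⟩

omit [Finite G] in
theorem pg_two {g : G} (h : Two g) : IsPGroup 2 (zpowers g) :=
  h.elim fun n h => IsPGroup.of_card_dvd_pow (n := n) (by rw [Nat.card_zpowers]; exact orderOf_dvd_of_pow_eq_one h)

omit [Finite G] in
theorem two_mem {T : Subgroup G} (h : IsPGroup 2 T) {g : G} (hg : g ∈ T) : Two g := pg_iff.1 h g hg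

omit [Finite G] in
theorem eq_one_of_odd {g : G} (h : Two g) (ho : Odd (orderOf g)) : g = 1 :=
  h.elim fun _ h => mem_bot.1 (mem_of_pow_mem (Nat.coprime_two_right.2 ho) (mem_bot.2 h))

/-- A power map onto 2-elements that fixes the given 2-element. -/
theorem exists_pow {s : G} (h : Two s) : ∃ m, s ^ m = s ∧ ∀ x : G, Two (x ^ m) := by
  obtain ⟨j, hj⟩ := h
  obtain ⟨k, q, hq, e⟩ := Nat.exists_eq_two_pow_mul_odd (Nat.card_pos (α := G)).ne'
  obtain ⟨n, hn⟩ := Nat.exists_eq_succ_of_ne_zero (Nat.totient_pos.2 (Nat.two_pow_pos j)).ne'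
  refine ⟨q ^ (2 ^ j).totient, ?_, fun x => ⟨k, ?_⟩⟩
  · exact (pow_eq_pow_of_modEq (Nat.ModEq.pow_totient ((Nat.coprime_two_right.2 hq).pow_right j)) hj).trans (pow_one s)
  · rw [← pow_mul, hn, pow_succ, mul_assoc, mul_comm q, ← e, mul_comm, pow_mul, pow_card_eq_one', one_pow]

theorem card_le_two_mul {A H : Subgroup G} (h : ∀ a ∈ A, ∀ b ∈ A, a ∈ H ∨ b ∈ H ∨ a * b ∈ H) :
    Nat.card A ≤ 2 * Nat.card (A ⊓ H : Subgroup G) := by
  by_cases h1 : A ≤ H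
  · rw [inf_eq_left.2 h1]; omega
  obtain ⟨a, ha, a1⟩ := SetLike.not_le_iff_exists.1 h1
  have h2 : H.relIndex A = 2 := relIndex_eq_two_iff.2 ⟨a, ha, fun b hb => by
    by_cases e : b ∈ H
    · exact .inr ⟨e, fun e' => a1 ((mul_mem_cancel_left e).1 e')⟩
    · exact .inl ⟨((h b hb a ha).resolve_left e).resolve_left a1, e⟩⟩
  rw [← (H.subgroupOf A).index_mul_card, ← relIndex, h2, ← inf_subgroupOf_left,
    Nat.card_congr (subgroupOfEquivOfLe inf_le_left).toEquiv]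

omit [Finite G] in
theorem mem_sup_inv {B : Subgroup G} {t : G} (ht : t * t = 1) (hB : t ∈ 𝐍[B]) {g : G} :
    g ∈ B ⊔ zpowers t ↔ g ∈ B ∨ g * t ∈ B := by
  refine ⟨fun h => ?_, fun h => h.elim mem_sup_left fun h => ?_⟩
  · obtain ⟨b, hb, _, ⟨n, rfl⟩, rfl⟩ := (mem_sup_norm (zpowers_le.2 hB)).1 h
    have h2 : t ^ (2 : ℤ) = 1 := by rw [zpow_two, ht]
    obtain ⟨k, rfl | rfl⟩ := Int.even_or_odd' n
    · exact .inl (by simpa [zpow_mul, h2] using hb)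
    · exact .inr (by simpa [zpow_add, zpow_mul, h2, mul_assoc, ht] using hb)
  · simpa [mul_assoc, ht] using mul_mem (mem_sup_left h) (mem_sup_right (mem_zpowers t))

/-- An element of a 2-group of rank at least three has more than four elements in its centraliser. -/
theorem four_lt_cent {R W : Subgroup G} (hR : IsPGroup 2 R) (hW : W ≤ R) (h2 : ∀ w ∈ W, w * w = 1)
    (h8 : 8 ≤ Nat.card W) {g : G} (hg : g ∈ R) : 4 < Nat.card (R ⊓ C1 g : Subgroup G) := by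
  by_contra hc
  have h1 : Nat.card (centralizer {(⟨g, hg⟩ : R)}) ≤ 4 := by
    rw [← card_map_of_injective R.subtype_injective]
    refine (card_le_of_le ?_).trans (not_lt.1 hc)
    rintro _ ⟨x, hx, rfl⟩
    exact ⟨x.2, mem_C1.2 (congrArg Subtype.val (mem_centralizer_singleton_iff.1 hx))⟩
  obtain ⟨m, a, b, hM⟩ := GT.PG.exists_maxTwo_of_card_centralizer_le hR
    (by have := card_le_of_le hW; omega) h1
  have h5 : ∀ y : R, y ∈ zpowers a → (y : G) ∈ zpowers (a : G) := fun y ⟨k, hk⟩ => ⟨k, congrArg Subtype.val hk⟩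
  have h3 := card_le_two_mul (A := W) (H := zpowers (a : G)) fun x hx y hy => by
    have := mul_mem_iff_of_index_two hM.index_eq (a := ⟨x, hW hx⟩) (b := ⟨y, hW hy⟩)
    have k1 := h5 ⟨x, hW hx⟩
    have k2 := h5 ⟨y, hW hy⟩
    have k3 := h5 (⟨x, hW hx⟩ * ⟨y, hW hy⟩)
    tauto
  have : IsCyclic (W ⊓ zpowers (a : G) : Subgroup G) := isCyclic_of_le inf_le_right
  have h4 : Nat.card (W ⊓ zpowers (a : G) : Subgroup G) ≤ 2 := Nat.le_of_dvd two_pos (by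
    rw [← IsCyclic.exponent_eq_card]
    exact Monoid.exponent_dvd_of_forall_pow_eq_one fun x => Subtype.ext ((pow_two (x : G)).trans (h2 _ x.2.1)))
  omega

end EA

open EA

namespace Lw

variable {A T P : Subgroup G} {z β : G} (h : Lw A T P z β)
include h

theorem cj (g : G) : Lw cj(g, A) cj(g, T) cj(g, P) (g * z * g⁻¹) (g * β * g⁻¹) where
  qs := h.qs.map_of_injective (cj_inj g)
  zodd := fun x hx hc => by
    obtain ⟨x, rfl⟩ := sur g x
    rw [← cj_cent, cjm] at hc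
    exact ((MulAut.conj g).orderOf_eq x).symm ▸ h.zodd x (cjm.1 hx) hc
  syl := h.syl.cj g
  zz := by rw [conj_mul, h.zz, mul_one, mul_inv_cancel]
  z1 := fun e => h.z1 (by simpa using e)
  zD := cj_comm T T g ▸ conj_mem_cj h.zD
  zc := cj_cent T g ▸ conj_mem_cj h.zc
  bb := by rw [conj_mul, h.bb, mul_one, mul_inv_cancel]
  b1 := fun e => h.b1 (by simpa using e)
  bD := cj_comm P P g ▸ conj_mem_cj h.bD
  PT := cj_mono g h.PT
  sylP := by rw [← cj_C1, ← cj_inf]; exact h.sylP.cj g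
  bz := h.bz.imp (fun e => by rw [e]) fun k e => k (by rwa [← cj_cent, cjm] at e)
  cls := fun u hu h2 h1 => by
    obtain ⟨u, rfl⟩ := sur g u
    exact (h.cls u (cjm.1 hu) (by simpa [conj_mul] using h2) fun e => h1 (by simp [e])).imp (cj_Cj · g) (cj_Cj · g)
  idx := fun x hx y hy => by
    obtain ⟨x, rfl⟩ := sur g x
    obtain ⟨y, rfl⟩ := sur g y
    rw [← cj_norm, cjm] at hx hy
    rw [← cj_cent, ← cj_sup, conj_mul, cjm, cjm, cjm]
    exact h.idx x hx y hy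
  inv := fun x hx hn => by
    obtain ⟨x, rfl⟩ := sur g x
    rw [← cj_norm, cjm] at hx
    rw [← cj_cent, ← cj_sup, cjm] at hn
    obtain ⟨l, hl, k⟩ := h.inv x hx hn
    exact ⟨_, conj_mem_cj hl, by rwa [← cj_cent, conj_mul, conj_mul, cjm]⟩
  cenP := fun x hx hc => by
    obtain ⟨x, rfl⟩ := sur g x
    rw [← cj_norm, cjm] at hx
    rw [← cj_cent, cjm] at hc
    rw [← cj_cent, conj_mul, conj_mul, conj_mul, conj_mul, cjm, cjm, cjm, cjm]
    exact h.cenP x hx hc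
  genT := map_le_iff_le_comap.2 (h.genT.trans ((closure_le _).2 fun x hx => subset_closure
    (show g * x * g⁻¹ ∈ _ from ⟨conj_mem_cj hx.1, by rw [conj_mul, hx.2.1, mul_one, mul_inv_cancel], by
      rw [← cj_C1, ← cj_inf, card_cj, card_cj, card_cj]; exact hx.2.2⟩)))
  genP := map_le_iff_le_comap.2 (h.genP.trans ((closure_le _).2 fun x hx => subset_closure
    (show g * x * g⁻¹ ∈ _ from ⟨conj_mem_cj hx.1, by rw [conj_mul, hx.2.1, mul_one, mul_inv_cancel], by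
      rw [← cj_C1, ← cj_inf, card_cj]; exact hx.2.2⟩)))
  e8 := by
    obtain ⟨W, h1, h2, h3⟩ := h.e8
    refine ⟨_, cj_mono g h1, ?_, by rwa [card_cj]⟩
    rintro _ ⟨w, hw, rfl⟩
    rw [← map_mul, h2 w hw, map_one]

theorem zT : z ∈ T := comm_le_left le_normalizer h.zD
theorem bP : β ∈ P := comm_le_left le_normalizer h.bD
theorem zP : z ∈ P := h.sylP.le_of_norm' (pg_two (two_inv h.zz))
  (zpowers_le.2 ⟨h.syl.le h.zT, mem_C1.2 (mem_cent.1 h.zc _ (h.PT h.bP)).symm⟩)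
  (zpowers_le.2 (cent_le_norm _ (cent_anti h.PT h.zc))) (mem_zpowers z)
theorem PC : P ≤ C1 β := h.sylP.le.trans inf_le_right
theorem two_eq {a : G} (ha : a ∈ A) (h2 : Two a) (hc : a ∈ 𝐂[A]) : a = 1 := eq_one_of_odd h2 (h.zodd a ha hc)
theorem cenT {g : G} (hg : g ∈ 𝐍[A]) (hc : g ∈ 𝐂[T]) : g ∈ 𝐂[A] ∨ g * z ∈ 𝐂[A] := by
  rcases h.cenP g hg (cent_anti h.PT hc) with k | k | k | k
  · exact .inl k
  · exact .inr k
  · rcases h.bz with rfl | e
    exacts [.inr k, (e ((mul_mem_cancel_left hc).1 (cent_anti h.syl.le k))).elim]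
  · rcases h.bz with rfl | e
    · exact .inl (by rwa [h.zz, mul_one] at k)
    · exact (e ((mul_mem_cancel_right h.zc).1 ((mul_mem_cancel_left hc).1 (cent_anti h.syl.le k)))).elim
theorem eq_of {w u : G} (hw : w ∈ T) (hu : u ∈ T) (h2 : u * u = 1) (hc : w * u ∈ 𝐂[A]) : w = u :=
  (eq_inv_of_mul_eq_one_left (h.two_eq (h.syl.le (mul_mem hw hu)) (two_mem h.syl.pg (mul_mem hw hu)) hc)).trans
    (inv_eq_of_mul_eq_one_right h2)
theorem eq_z {w : G} (hw : w ∈ T) (hc : w ∈ 𝐂[T]) : w = 1 ∨ w = z :=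
  (h.cenT (le_normalizer (h.syl.le hw)) hc).imp (h.two_eq (h.syl.le hw) (two_mem h.syl.pg hw)) (h.eq_of hw h.zT h.zz)
theorem eq_zP {w : G} (hw : w ∈ P) (hc : w ∈ 𝐂[P]) : w = 1 ∨ w = z ∨ w = β ∨ w = β * z :=
  have hw' := h.PT hw
  have hb := h.PT h.bP
  (h.cenP w (le_normalizer (h.syl.le hw')) hc).imp (h.two_eq (h.syl.le hw') (two_mem h.syl.pg hw'))
    (Or.imp (h.eq_of hw' h.zT h.zz) (Or.imp (h.eq_of hw' hb h.bb) (h.eq_of hw' (mul_mem hb h.zT) (by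
      rw [mul_assoc, ← mul_assoc z, ← mem_cent.1 h.zc β hb, mul_assoc, h.zz, mul_one, h.bb]))))
theorem four_lt : 4 < Nat.card P := by
  have h1 := GT.PG.sq_dvd_index_center h.sylP.pg fun k =>
    h.b1 (mem_bot.1 (comm_eq_bot_iff.2 (le_centralizer P) ▸ h.bD))
  have h2 : 1 < Nat.card (center P) := one_lt_card_iff_ne_bot _ |>.2 fun e =>
    h.b1 (congrArg Subtype.val (mem_bot.1 (e ▸ mem_center_iff.2 fun x => Subtype.ext (h.PC x.2 β rfl).symm :
      (⟨β, h.bP⟩ : P) ∈ ⊥)))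
  have h3 := Nat.le_of_dvd (Nat.pos_of_ne_zero index_ne_zero_of_finite) h1
  rw [← (center P).card_mul_index]
  nlinarith
theorem card_lt (hb : β ≠ z) : Nat.card P < Nat.card T := lt_of_not_ge fun k =>
  h.bz.resolve_left hb (mem_cent.2 fun _ ha => mem_C1.1 (h.PC (eq_of_le_of_card_ge h.PT k ▸ ha)))
theorem P_eq (hb : β = z) : P = T :=
  (h.sylP.eq_of_le h.syl.pg h.PT (le_inf h.syl.le fun a ha => mem_C1.2 (hb ▸ mem_cent.1 h.zc a ha))).symm
theorem perf : ⁅A, A⁆ = A := h.qs.commutator_eq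
theorem ncl {a : G} (ha : a ∈ A) (hc : a ∉ 𝐂[A]) {H : Subgroup G} (hH : ∀ l ∈ A, l * a * l⁻¹ ∈ H) : A ≤ H :=
  ((h.qs.le_or_inf_le_centralizer (le_norm_ncl A (zpowers a))).resolve_right fun k =>
    hc (k ⟨le_ncl _ _ (mem_zpowers a), ha⟩)).trans (ncl_le_iff.2 fun l hl => by
      rw [MonoidHom.map_zpowers]; exact zpowers_le.2 (hH l hl))
theorem cent_of_comm {g : G} (hg : ∀ a ∈ A, g * a * g⁻¹ * a⁻¹ ∈ 𝐂[A]) (hn : g ∈ 𝐍[A]) : g ∈ 𝐂[A] :=
  GT.perfect_le_centralizer h.perf (X := closure {g}) (commutator_comm A _ ▸ comm_closure_le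
    (fun _ e => e ▸ norm_cent le_rfl hn) fun _ e a ha => by
      rw [e, ← commutatorElement_inv]; exact inv_mem (hg a ha)) (subset_closure rfl)
theorem inner_two {s : G} (hs : s ∈ A ⊔ 𝐂[A]) (h2 : Two s) : ∃ a ∈ A, Two a ∧ a⁻¹ * s ∈ 𝐂[A] := by
  obtain ⟨m, h3, h4⟩ := exists_pow h2
  obtain ⟨a, ha, c, hc, rfl⟩ := (mem_sup_norm (cent_le_norm A)).1 hs
  refine ⟨a ^ m, pow_mem ha m, h4 a, ?_⟩
  rw [← h3, (show Commute a c from mem_cent.1 hc a ha).mul_pow, inv_mul_cancel_left]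
  exact pow_mem hc m
theorem inner_T {s : G} (hs : s ∈ A ⊔ 𝐂[A]) (h2 : Two s) (hn : s ∈ 𝐍[T]) : ∃ a ∈ T, a⁻¹ * s ∈ 𝐂[A] := by
  obtain ⟨a, ha, h3, hc⟩ := h.inner_two hs h2
  exact ⟨a, h.syl.le_of_norm' (pg_two h3) (zpowers_le.2 ha) (zpowers_le.2 (inv_mem_iff.1
    ((mul_mem_cancel_right hn).1 (cent_le_norm _ (cent_anti h.syl.le hc))))) (mem_zpowers a), hc⟩
theorem inner_P {s : G} (hs : s ∈ A ⊔ 𝐂[A]) (h2 : Two s) (hn : s ∈ 𝐍[P]) (hb : s ∈ C1 β) :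
    ∃ a ∈ P, a⁻¹ * s ∈ 𝐂[A] := by
  obtain ⟨a, ha, h3, hc⟩ := h.inner_two hs h2
  have l := h.PT.trans h.syl.le
  exact ⟨a, h.sylP.le_of_norm' (pg_two h3) (zpowers_le.2 (mem_inf.2 ⟨ha, inv_mem_iff.1 ((mul_mem_cancel_right hb).1
    (mem_C1.2 (mem_cent.1 hc β (l h.bP)).symm))⟩)) (zpowers_le.2 (inv_mem_iff.1
    ((mul_mem_cancel_right hn).1 (cent_le_norm _ (cent_anti l hc))))) (mem_zpowers a), hc⟩
theorem not_conj (hb : β ≠ z) {g : G} (hg : g ∈ 𝐍[A]) : g * z * g⁻¹ ≠ β := fun e => by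
  obtain ⟨k, -, hk⟩ := h.sylP.conj_le (pg_cj h.syl.pg g) (le_inf (cj_le_of_norm h.syl.le hg) (by
    rw [← e, ← cj_C1]
    exact cj_mono g fun a ha => mem_C1.2 (mem_cent.1 h.zc a ha)))
  have := card_le_of_le hk
  rw [card_cj, card_cj] at this
  exact (h.card_lt hb).not_ge this
theorem four {g : G} (h2 : g * g = 1) (hn : g ∈ 𝐍[T]) (hg : g ∉ T) : 4 ≤ Nat.card (T ⊓ C1 g : Subgroup G) := by
  obtain ⟨W, h1, h3, h4⟩ := h.e8
  have k1 := four_lt_cent (pg_sup' h.syl.pg (pg_two (two_inv h2)) (zpowers_le.2 hn)) (h1.trans le_sup_left) h3 h4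
    (mem_sup_right (mem_zpowers g))
  have k2 := card_le_two_mul (A := (T ⊔ zpowers g) ⊓ C1 g) (H := T) fun a ha b hb =>
    ((mem_sup_inv h2 hn).1 ha.1).imp_right fun k => ((mem_sup_inv h2 hn).1 hb.1).imp_right fun k' => by
      have := mul_mem k (conj_mem_of_norm hn k')
      rwa [mul_assoc g, mul_inv_cancel_right, mul_assoc, ← mul_assoc g, h2, one_mul] at this
  have k3 : Nat.card ((T ⊔ zpowers g) ⊓ C1 g ⊓ T : Subgroup G) ≤ Nat.card (T ⊓ C1 g : Subgroup G) :=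
    card_le_of_le fun _ k => ⟨k.2, k.1.2⟩
  obtain ⟨n, e⟩ := IsPGroup.iff_card.1 (h.syl.pg.to_inf_left (K := C1 g))
  rw [e] at k3 ⊢
  rcases n with _ | _ | n
  · omega
  · omega
  · rw [pow_succ, pow_succ]
    have := Nat.two_pow_pos n
    omega
theorem comm_inner {g g' : G} (hg : g ∈ 𝐍[A]) (hg' : g' ∈ 𝐍[A]) : g * g' * g⁻¹ * g'⁻¹ ∈ A ⊔ 𝐂[A] := by
  have n : 𝐍[A] ≤ 𝐍[A ⊔ 𝐂[A]] := norm_sup le_rfl (norm_cent le_rfl)
  by_cases k : g ∈ A ⊔ 𝐂[A]
  · simpa [mul_assoc] using mul_mem k (conj_mem_of_norm (n hg') (inv_mem k))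
  by_cases k' : g' ∈ A ⊔ 𝐂[A]
  · exact mul_mem (conj_mem_of_norm (n hg) k') (inv_mem k')
  rw [mul_assoc]
  exact mul_mem (((h.idx g hg g' hg').resolve_left k).resolve_left k')
    (((h.idx _ (inv_mem hg) _ (inv_mem hg')).resolve_left fun e => k (inv_mem_iff.1 e)).resolve_left
      fun e => k' (inv_mem_iff.1 e))

end Lw

end Cfsg.Agent.Wz
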