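import Mathlib
import Cfsg.Agent.Wz.EA1
import Cfsg.Agent.GT.PiGroups
import Cfsg.Agent.StdB.Gen

/-! Routine consequences of the structure `En`. -/

set_option autoImplicit false
set_option linter.unusedSectionVars false

namespace Cfsg.Agent.Wz

open Cfsg.Agent.Loc.Mss Cfsg.Agent.Gold Cfsg.Agent.Wr Subgroup

universe u

variable {G : Type u} [Group G] [Finite G]

open EA

namespace En

variable (e : En G)

theorem ti : e.t⁻¹ = e.t := inv_eq_of_mul_eq_one_right e.tt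
theorem tl (g : G) : e.t * (e.t * g) = g := by rw [← mul_assoc, e.tt, one_mul]
theorem ttt (g : G) : e.t * (e.t * g * e.t) * e.t = g := by simp [mul_assoc, e.tl, e.tt]
theorem cj_tt (H : Subgroup G) : cj(e.t, cj(e.t, H)) = H := by rw [cj_cj, e.tt, cj_one]
theorem mem_B {b : G} : b ∈ e.B ↔ e.t * b * e.t ∈ e.A := mem_cj.trans (by rw [e.ti])
theorem mem_T2 {b : G} : b ∈ e.T2 ↔ e.t * b * e.t ∈ e.T := mem_cj.trans (by rw [e.ti])
theorem mem_P2 {b : G} : b ∈ e.P2 ↔ e.t * b * e.t ∈ e.P := mem_cj.trans (by rw [e.ti])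
theorem lwB : Lw e.B e.T2 e.P2 e.z2 e.β2 := e.lw.cj e.t
theorem BX : e.B ≤ e.X := by
  have := e.nX
  exact (cj_mono _ e.AX).trans (cj_normal _ _).le
theorem A_cent : e.A ≤ 𝐂[e.B] := fun a ha => mem_cent.2 fun b hb => by
  have := e.comm a ha _ (e.mem_B.1 hb)
  rw [e.ttt] at this
  exact this.symm
theorem B_cent : e.B ≤ 𝐂[e.A] := cent_comm e.A_cent
theorem tA {a : G} (ha : a ∈ e.A) : e.t * a * e.t ∈ e.B := e.mem_B.2 ((e.ttt a).symm ▸ ha)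

/-- Interchange the factors. -/
def flip : En G where
  X := e.X
  L := e.L
  A := e.B
  T := e.T2
  P := e.P2
  t := e.t
  z := e.z2
  β := e.β2
  lw := e.lwB
  nX := e.nX
  sX := e.sX
  AX := e.BX
  tt := e.tt
  comm := fun a ha _ hb => mem_cent.1 (e.A_cent (e.mem_B.1 hb)) a ha
  diag := fun g => (e.diag g).trans ⟨fun ⟨a, ha, k⟩ => ⟨_, e.tA ha, by rw [e.ttt, k, e.comm a ha a ha]⟩,
    fun ⟨a, ha, k⟩ => ⟨_, e.mem_B.1 ha, by rw [e.ttt, k, mem_cent.1 (e.A_cent (e.mem_B.1 ha)) a ha]⟩⟩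
  zL := e.zL
  nL := e.nL
  two := e.two
  odd := fun k hk ht ho => by
    have := conj_mem_cj (g := e.t) (e.odd k hk ht ho)
    rwa [cj_cent, ← ht, mul_inv_cancel_right] at this
  idxL := e.idxL
  invL := e.invL
  cenL := fun g hg h => (e.cenL g hg fun a ha => by
    have := h _ (e.mem_T2.2 ((e.ttt a).symm ▸ ha))
    rwa [e.ttt, ← e.comm a (e.lw.syl.le ha) a (e.lw.syl.le ha)] at this).imp_right fun k => by
      rwa [z2, e.ti, e.ttt, ← e.comm _ (e.lw.syl.le e.lw.zT) _ (e.lw.syl.le e.lw.zT)]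

theorem flip_B : e.flip.B = e.A := e.cj_tt _
theorem flip_T2 : e.flip.T2 = e.T := e.cj_tt _
theorem flip_P2 : e.flip.P2 = e.P := e.cj_tt _
theorem flip_z2 : e.flip.z2 = e.z := by
  show e.t * (e.t * e.z * e.t⁻¹) * e.t⁻¹ = _
  rw [e.ti, e.ttt]
theorem flip_β2 : e.flip.β2 = e.β := by
  show e.t * (e.t * e.β * e.t⁻¹) * e.t⁻¹ = _
  rw [e.ti, e.ttt]
theorem flip_S0 : e.flip.S0 = e.S0 := by
  rw [S0, flip_T2]
  exact sup_comm _ _
theorem flip_N0 : e.flip.N0 = e.N0 := by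
  rw [N0, flip_B]
  exact inf_comm _ _
theorem flip_Ns : e.flip.Ns = e.Ns := by
  rw [Ns, flip_N0]
  rfl
theorem flip_Sw {s : G} : e.flip.Sw s ↔ e.Sw s := by
  rw [Sw, flip_B]
  exact and_comm
theorem flip_Pure {s : G} : e.flip.Pure s ↔ e.Pure s := by
  rw [Pure, flip_B]
  exact or_comm
theorem Sy.flip {e : En G} {S : Subgroup G} (h : e.Sy S) : e.flip.Sy S where
  syl := e.flip_Ns ▸ h.syl
  le0 := e.flip_S0 ▸ h.le0
  tS := h.tS
  infA := h.infB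
  infB := by rw [flip_B, flip_T2]; exact h.infA
  infAB := by rw [flip_B, flip_S0, sup_comm]; exact h.infAB
  cen := fun s hs h1 h2 => h.cen s hs (e.flip_B ▸ h2) h1
  in0 := fun s hs h1 h2 => e.flip_S0 ▸ h.in0 s hs (e.flip_B ▸ h2) h1
  com := by rw [flip_N0, flip_S0]; exact h.com
  cen0 := fun s hs hc => by
    have k := h.cen0 s hs (e.flip_S0 ▸ hc)
    rw [mem_cent.1 (e.B_cent (e.lwB.syl.le e.lwB.zT)) _ (e.lw.syl.le e.lw.zT)] at k
    rw [flip_z2]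
    exact k.imp_right or_left_comm.1
  sw := fun s hs hn => (h.sw s hs (e.flip_N0 ▸ hn)).trans_eq (congrArg _ (card_cj _ _).symm)
theorem A_ne : e.A ≠ e.B := fun h => e.lw.qs.not_le_centralizer (e.A_cent.trans_eq (by rw [← h]))
theorem eq_one {a : G} (ha : a ∈ e.A) (hb : a ∈ e.B) (h2 : Two a) : a = 1 := e.lw.two_eq ha h2 (e.B_cent hb)
theorem uniq' {a a' b b' : G} (ha : a ∈ e.A) (ha' : a' ∈ e.A) (hb : b ∈ e.B) (hb' : b' ∈ e.B) (h : a * b = a' * b') :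
    a⁻¹ * a' ∈ 𝐂[e.A] := by
  rw [show a⁻¹ * a' = b * b'⁻¹ by rw [eq_mul_inv_iff_mul_eq, mul_assoc, ← h, inv_mul_cancel_left]]
  exact e.B_cent (mul_mem hb (inv_mem hb'))
theorem uniq {a a' b b' : G} (ha : a ∈ e.T) (ha' : a' ∈ e.T) (hb : b ∈ e.T2) (hb' : b' ∈ e.T2) (h : a * b = a' * b') :
    a = a' ∧ b = b' := by
  have k := mul_mem (inv_mem ha) ha'
  obtain rfl := inv_mul_eq_one.1 (e.lw.two_eq (e.lw.syl.le k) (two_mem e.lw.syl.pg k)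
    (e.uniq' (e.lw.syl.le ha) (e.lw.syl.le ha') (e.lwB.syl.le hb) (e.lwB.syl.le hb') h))
  exact ⟨rfl, mul_left_cancel h⟩
theorem uniq2 {a a' b b' : G} (ha : a ∈ e.A) (ha' : a' ∈ e.A) (hb : b ∈ e.B) (hb' : b' ∈ e.B) (h2 : a * a = 1)
    (h2' : a' * a' = 1) (h : a * b = a' * b') : a = a' ∧ b = b' := by
  have k := e.uniq' ha ha' hb hb' h
  obtain rfl := inv_mul_eq_one.1 (e.lw.two_eq (mul_mem (inv_mem ha) ha') (two_inv (by
    rw [mul_assoc, mem_cent.1 k a' ha', mul_assoc, h2', mul_one, ← mul_inv_rev, h2, inv_one])) k)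
  exact ⟨rfl, mul_left_cancel h⟩
theorem T2_cent : e.T2 ≤ 𝐂[e.T] := e.lwB.syl.le.trans (e.B_cent.trans (cent_anti e.lw.syl.le))
theorem mem_S0 {s : G} : s ∈ e.S0 ↔ ∃ a ∈ e.T, ∃ b ∈ e.T2, s = a * b := by
  simp only [S0, mem_sup_norm (norm_of_cent e.T2_cent), eq_comm]
theorem card_sup {C D : Subgroup G} (hC : C ≤ e.T) (hD : D ≤ e.T2) :
    Nat.card (C ⊔ D : Subgroup G) = Nat.card C * Nat.card D :=
  GT.card_sup_of_inf_eq_bot (norm_of_cent (cent_comm (hD.trans (e.T2_cent.trans (cent_anti hC)))))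
    (eq_bot_iff.2 fun _ ha => mem_bot.2 (e.eq_one (e.lw.syl.le (hC ha.1)) (e.lwB.syl.le (hD ha.2))
      (two_mem e.lw.syl.pg (hC ha.1))))
theorem pg_S0 : IsPGroup 2 e.S0 := pg_sup' e.lw.syl.pg e.lwB.syl.pg (norm_of_cent e.T2_cent)
theorem card_T2 : Nat.card e.T2 = Nat.card e.T := card_cj _ _
theorem card_P2 : Nat.card e.P2 = Nat.card e.P := card_cj _ _
theorem sw_t : e.Sw e.t := ⟨rfl, e.cj_tt _⟩
theorem Sw.notMem {e : En G} {s : G} (h : e.Sw s) : s ∉ e.N0 := fun k => e.A_ne ((cj_of_norm k.1).symm.trans h.1)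
theorem Sw.norm {e : En G} {s : G} (h : e.Sw s) : s ∈ 𝐍[e.N0] := by
  rw [← cj_eq_iff, N0, cj_inf, cj_norm, cj_norm, h.1, h.2, inf_comm]
theorem mul_mem_N0 {g g' : G} (h : e.Sw g) (h' : e.Sw g') : g * g' ∈ e.N0 :=
  mem_inf.2 ⟨by rw [← cj_eq_iff, ← cj_cj, h'.1, h.2], by rw [← cj_eq_iff, ← cj_cj, h'.2, h.1]⟩
theorem mem_Ns {g : G} : g ∈ e.Ns ↔ g ∈ e.N0 ∨ e.Sw g :=
  (mem_sup_inv e.tt e.sw_t.norm).trans (or_congr_right ⟨fun h =>
    ⟨by rw [← e.sw_t.2, cj_cj]; exact cj_of_norm h.2, by rw [← e.sw_t.1, cj_cj]; exact cj_of_norm h.1⟩,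
    fun h => e.mul_mem_N0 h e.sw_t⟩)
theorem sw_of {g : G} (hg : g ∈ e.Ns) (h : g ∉ e.N0) : e.Sw g := (e.mem_Ns.1 hg).resolve_left h
theorem Ns_norm : e.Ns ≤ 𝐍[e.N0] := sup_le le_normalizer (zpowers_le.2 e.sw_t.norm)
theorem AB_le : e.A ⊔ e.B ≤ e.N0 :=
  sup_le (le_inf le_normalizer (norm_of_cent e.A_cent)) (le_inf (norm_of_cent e.B_cent) le_normalizer)
theorem L_le : e.L ≤ e.A ⊔ e.B := fun g hg => by
  obtain ⟨a, ha, rfl⟩ := (e.diag g).1 hg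
  exact mul_mem (mem_sup_left ha) (mem_sup_right (e.tA ha))
theorem L_cent : e.L ≤ C1 e.t := fun g hg => by
  obtain ⟨a, ha, rfl⟩ := (e.diag g).1 hg
  rw [mem_C1]
  conv_rhs => rw [e.comm a ha a ha]
  simp [mul_assoc, e.tl, e.tt]
theorem t_cent : e.t ∈ 𝐂[e.L] := mem_cent.2 fun _ h => mem_C1.1 (e.L_cent h)
theorem t_notMem : e.t ∉ e.L := fun h => e.A_ne (by rw [B, e.zL _ h e.t_cent, cj_one])
theorem two_L {g : G} (hg : g ∈ e.L ⊔ 𝐂[e.L]) (ht : g * e.t = e.t * g) (h2 : Two g) : g ∈ e.L ∨ g * e.t ∈ e.L := by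
  obtain ⟨m, h3, h4⟩ := exists_pow h2
  obtain ⟨l, hl, c, hc, rfl⟩ := (mem_sup_norm (cent_le_norm e.L)).1 hg
  have h5 := (mul_mem_cancel_left (e.L_cent hl)).1 (mem_C1.2 ht)
  rw [← h3, (show Commute l c from mem_cent.1 hc l hl).mul_pow]
  refine (e.two _ (pow_mem hc m) (mem_C1.1 (pow_mem h5 m)) (h4 c)).imp (fun k => ?_) fun k => ?_
  · rw [k, mul_one]
    exact pow_mem hl m
  · rw [k, mul_assoc, e.tt, mul_one]
    exact pow_mem hl m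
theorem inv_L {u : G} (hu : u ∈ e.L) (h2 : u * u = 1) : ∃ a ∈ e.A, a * a = 1 ∧ u = a * (e.t * a * e.t) := by
  obtain ⟨a, ha, rfl⟩ := (e.diag u).1 hu
  have c : Commute a (e.t * a * e.t) := e.comm a ha a ha
  have h1 : a * a ∈ 𝐂[e.A] := by
    rw [← pow_two, c.mul_pow, mul_eq_one_iff_eq_inv, pow_two] at h2
    exact h2 ▸ e.B_cent (inv_mem (pow_mem (e.tA ha) 2))
  obtain ⟨k, hk⟩ := e.lw.zodd _ (mul_mem ha ha) h1
  refine ⟨a ^ (2 * k + 1), pow_mem ha _, by rw [← (Commute.refl a).mul_pow, ← hk, pow_orderOf_eq_one], ?_⟩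
  have h3 : e.t * a ^ (2 * k + 1) * e.t = (e.t * a * e.t) ^ (2 * k + 1) := by
    have := conj_pow (i := 2 * k + 1) (a := e.t) (b := a)
    rw [e.ti] at this
    exact this.symm
  rw [h3, ← c.mul_pow, pow_succ, pow_mul, pow_two, h2, one_pow, one_mul]

end En

theorem exists_ext {M S : Subgroup G} (hS : Syl 2 S M) {w : G} (hw : w ∈ M) (h2 : w * w = 1) :
    ∃ g ∈ M, Ext M S (g * w * g⁻¹) := by
  obtain ⟨D, h1, hD⟩ := Syl.exists_ge (pg_two (two_inv h2)) (zpowers_le.2 (mem_inf.2 ⟨hw, mem_C1.2 rfl⟩) :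
    _ ≤ M ⊓ C1 w)
  obtain ⟨g, hg, k⟩ := hS.conj_le hD.pg (hD.le.trans inf_le_left)
  have h3 := hD.cj g
  rw [cj_inf, cj_of_mem hg, cj_C1] at h3
  exact ⟨g, hg, k (conj_mem_cj (h1 (mem_zpowers w))), (h3.eq_of_le hS.pg.to_inf_left
    (le_inf k (h3.le.trans inf_le_right)) (inf_le_inf_right _ hS.le)).symm ▸ h3⟩

theorem Ext.conj {M S D : Subgroup G} {w g : G} (h : Ext M S (g * w * g⁻¹)) (hg : g ∈ M) (hD : IsPGroup 2 D)
    (hle : D ≤ M ⊓ C1 w) : ∃ m ∈ M, m * w * m⁻¹ = g * w * g⁻¹ ∧ cj(m, D) ≤ S :=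
  (StdB.extremal h.2 hg rfl hD hle).imp fun _ k => ⟨k.1, k.2.1, k.2.2.trans inf_le_left⟩

end Cfsg.Agent.Wz
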