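import Mathlib
import Cfsg.Agent.Wz.Defs

set_option autoImplicit false
set_option linter.unusedSectionVars false

namespace Cfsg.Agent.Wz

open Cfsg.Agent.Loc.Mss Cfsg.Agent.Gold Cfsg.Agent.Wr Subgroup

universe u

variable {A : Type} [Group A] [Finite A] {z : A} {H : Type u} [Group H] [Finite H]


namespace Co.Zeta

variable {c : Co z H} {ζ : H} (h : c.Zeta ζ)
include h

theorem Z_eq {w l : A} (hl : l * z * l⁻¹ = w) : c.Z ζ w = c.ι l * ζ * (c.ι l)⁻¹ := by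
  have he : ∃ l, l * z * l⁻¹ = w := ⟨l, hl⟩
  rw [Co.Z, dif_pos he]
  have h1 := he.choose_spec
  generalize he.choose = m at h1
  have h2 : l⁻¹ * m * z = z * (l⁻¹ * m) := by
    calc l⁻¹ * m * z = l⁻¹ * (m * z * m⁻¹) * m := by group
      _ = l⁻¹ * (l * z * l⁻¹) * m := by rw [h1, hl]
      _ = _ := by group
  have h3 := h.cen _ h2
  rw [map_mul, map_inv] at h3
  calc c.ι m * ζ * (c.ι m)⁻¹ = c.ι l * ((c.ι l)⁻¹ * c.ι m * ζ) * (c.ι m)⁻¹ := by group
    _ = _ := by rw [h3]; group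

theorem Z_z : c.Z ζ z = ζ := by
  rw [h.Z_eq (l := 1) (by simp)]; simp

theorem Z_conj {w : A} (hw : IsConj z w) (l : A) : c.Z ζ (l * w * l⁻¹) = c.ι l * c.Z ζ w * (c.ι l)⁻¹ := by
  obtain ⟨m, hm⟩ := isConj_iff.1 hw
  rw [h.Z_eq hm, h.Z_eq (l := l * m) (by rw [← hm]; group), map_mul]
  group

theorem Z_sq (w : A) : c.Z ζ w * c.Z ζ w = 1 := by
  by_cases he : ∃ l, l * z * l⁻¹ = w
  · obtain ⟨l, hl⟩ := he
    rw [h.Z_eq hl]
    calc _ = c.ι l * (ζ * ζ) * (c.ι l)⁻¹ := by group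
      _ = 1 := by rw [h.sq]; group
  · rw [Co.Z, dif_neg he, mul_one]

theorem Z_ph {w : A} (hw : IsConj z w) : Wr.ph c.t (c.Z ζ w) = c.ι w := by
  obtain ⟨m, hm⟩ := isConj_iff.1 hw
  rw [h.Z_eq hm, ph_conj (c.tc m), h.ph, ← hm, map_mul, map_mul, map_inv]

theorem Z_inv (w : A) : (c.Z ζ w)⁻¹ = c.Z ζ w := inv_eq_of_mul_eq_one_right (h.Z_sq w)

theorem Z_mul_t {w : A} (hw : IsConj z w) : c.Z ζ w * (c.t * c.Z ζ w * c.t) = c.ι w := by
  rw [← h.Z_ph hw, Wr.ph, h.Z_inv]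
  group

theorem Z_t {w : A} (hw : IsConj z w) : c.t * c.Z ζ w * c.t = c.Z ζ w * c.ι w := by
  rw [← h.Z_mul_t hw, ← mul_assoc, h.Z_sq, one_mul]

theorem Z_cen {w a : A} (hw : IsConj z w) (ha : a * w = w * a) : c.ι a * c.Z ζ w = c.Z ζ w * c.ι a := by
  have h1 := h.Z_conj hw a
  rw [ha, mul_inv_cancel_right] at h1
  rw [eq_mul_inv_iff_mul_eq] at h1
  exact h1.symm

theorem add_conj {a b : A} (hab : c.Add ζ a b) (l : A) : c.Add ζ (l * a * l⁻¹) (l * b * l⁻¹) := by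
  obtain ⟨h1, h2, h3, h4⟩ := hab
  have e : l * a * l⁻¹ * (l * b * l⁻¹) = l * (a * b) * l⁻¹ := by group
  refine ⟨h1.trans (isConj_iff.2 ⟨l, rfl⟩), h2.trans (isConj_iff.2 ⟨l, rfl⟩), ?_, ?_⟩
  · rw [e]; exact h3.trans (isConj_iff.2 ⟨l, rfl⟩)
  · rw [e, h.Z_conj h3, h.Z_conj h1, h.Z_conj h2, h4]; group

theorem zz : z * z = 1 := by
  have h1 := h.Z_t (IsConj.refl z)
  have h2 := h.cen z rfl
  rw [h.Z_z] at h1
  apply c.inj
  rw [map_mul, map_one]
  calc c.ι z * c.ι z = ζ * (ζ * c.ι z) * c.ι z := by rw [← mul_assoc, h.sq, one_mul]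
    _ = ζ * (c.ι z * ζ) * c.ι z := by rw [h2]
    _ = (ζ * c.ι z) * (ζ * c.ι z) := by group
    _ = c.t * (ζ * (c.t * c.t) * ζ) * c.t := by rw [← h1]; group
    _ = 1 := by rw [c.tt, mul_one, h.sq, mul_one, c.tt]

omit h in
theorem tmul (a b : H) : c.t * (a * b) * c.t = c.t * a * c.t * (c.t * b * c.t) := by
  calc _ = c.t * a * (c.t * c.t) * b * c.t := by rw [c.tt]; group
    _ = _ := by group

omit h in
theorem tsymm {a b : H} (e : a * (c.t * b * c.t) = c.t * b * c.t * a) : b * (c.t * a * c.t) = c.t * a * c.t * b := by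
  have ht : ∀ x : H, c.t * (c.t * x * c.t) * c.t = x := fun x => by
    calc _ = c.t * c.t * x * (c.t * c.t) := by group
      _ = x := by rw [c.tt]; group
  calc b * (c.t * a * c.t) = c.t * (c.t * b * c.t * a) * c.t := by rw [tmul, ht]
    _ = _ := by rw [← e, tmul, ht]

theorem good_symm {a b : A} (g : c.Good ζ a b) : c.Good ζ b a := ⟨g.2.1, g.1, tsymm g.2.2⟩

theorem rules {Ad : A → A → Prop} (hA : ∀ a b, Ad a b → c.Add ζ a b) : Rules z Ad (c.Good ζ) where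
  cls _ _ g := g.1
  refl a ha := ⟨ha, ha, by rw [h.Z_t ha, mul_assoc (c.Z ζ a) (c.ι a), h.Z_cen ha rfl]⟩
  symm _ _ g := h.good_symm g
  conj a b l g := by
    refine ⟨g.1.trans (isConj_iff.2 ⟨l, rfl⟩), g.2.1.trans (isConj_iff.2 ⟨l, rfl⟩), ?_⟩
    have e : c.t * (c.ι l * c.Z ζ b * (c.ι l)⁻¹) * c.t = c.ι l * (c.t * c.Z ζ b * c.t) * (c.ι l)⁻¹ := by
      rw [← map_inv]
      calc _ = (c.t * c.ι l) * c.Z ζ b * (c.ι l⁻¹ * c.t) := by group
        _ = _ := by rw [← c.tc, c.tc l⁻¹]; simp only [mul_assoc]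
    rw [h.Z_conj g.1, h.Z_conj g.2.1, e]
    calc _ = c.ι l * (c.Z ζ a * (c.t * c.Z ζ b * c.t)) * (c.ι l)⁻¹ := by group
      _ = _ := by rw [g.2.2]; group
  tri a b d g1 g2 g3 := by
    have hb : b⁻¹ = b := by
      obtain ⟨m, hm⟩ := isConj_iff.1 g3.1
      apply inv_eq_of_mul_eq_one_right
      rw [← hm]
      calc _ = m * (z * z) * m⁻¹ := by group
        _ = 1 := by rw [h.zz]; group
    have e : b * d * b = b * d * b⁻¹ := by rw [hb]
    have e2 : c.Z ζ (b * d * b) = c.Z ζ b * c.Z ζ d * c.Z ζ b := by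
      rw [e, h.Z_conj g3.2.1, ← h.Z_mul_t g3.1, mul_assoc (c.Z ζ b), ← (h.good_symm g3).2.2, mul_inv_rev,
        h.Z_inv]
      group
    refine ⟨g1.1, by rw [e]; exact g3.2.1.trans (isConj_iff.2 ⟨b, rfl⟩), ?_⟩
    rw [e2, tmul, tmul]
    exact ((Commute.mul_right g1.2.2 g2.2.2).mul_right g1.2.2).eq
  add a b d g1 g2 g3 := by
    obtain ⟨-, -, h3, h4⟩ := hA _ _ g3
    refine ⟨g1.1, h3, ?_⟩
    rw [h4, tmul]
    exact (Commute.mul_right g1.2.2 g2.2.2).eq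

theorem out {Base Ad : A → A → Prop} (hg : Gen z Base Ad) (hA : ∀ a b, Ad a b → c.Add ζ a b)
    (hB : ∀ a b, Base a b → c.Good ζ a b) : ∃ K, c.Out K := by
  obtain ⟨W, hW, hG⟩ := hg _ (h.rules hA) hB
  have h1 : ∀ w ∈ W, ∀ b ∈ closure (c.Z ζ '' W), c.Z ζ w * (c.t * b * c.t) = c.t * b * c.t * c.Z ζ w := by
    intro w hw b hb
    induction hb using closure_induction with
    | mem x hx => obtain ⟨v, hv, rfl⟩ := hx; exact (hG w hw v hv).2.2
    | one => rw [mul_one, c.tt, mul_one, one_mul]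
    | mul x y _ _ hx hy => rw [tmul]; exact (Commute.mul_right hx hy).eq
    | inv x _ hx =>
      have e : c.t * x⁻¹ * c.t = (c.t * x * c.t)⁻¹ := by
        rw [mul_inv_rev, mul_inv_rev, inv_eq_of_mul_eq_one_right c.tt, mul_assoc]
      rw [e]; exact (Commute.inv_right hx).eq
  have h2 : ∀ a ∈ closure (c.Z ζ '' W), ∀ b ∈ closure (c.Z ζ '' W),
      a * (c.t * b * c.t) = c.t * b * c.t * a := by
    intro a ha b hb
    induction ha using closure_induction with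
    | mem x hx => obtain ⟨v, hv, rfl⟩ := hx; exact h1 v hv b hb
    | one => rw [mul_one, one_mul]
    | mul x y _ _ hx hy => exact (Commute.mul_left hx hy).eq
    | inv x _ hx => exact (Commute.inv_left hx).eq
  have h3 : ∀ a ∈ closure (c.Z ζ '' W), ∀ b ∈ closure (c.Z ζ '' W),
      a * b * (c.t * (a * b) * c.t) = a * (c.t * a * c.t) * (b * (c.t * b * c.t)) := by
    intro a ha b hb
    rw [tmul, mul_assoc a b, ← mul_assoc b, h2 b hb a ha]
    group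
  have h4 : ∀ a ∈ closure (c.Z ζ '' W), a⁻¹ * (c.t * a⁻¹ * c.t) = (a * (c.t * a * c.t))⁻¹ := by
    intro a ha
    rw [eq_inv_iff_mul_eq_one, ← h3 _ (inv_mem ha) _ ha, inv_mul_cancel, mul_one, c.tt, mul_one]
  refine ⟨closure (c.Z ζ '' W), h2, fun l => ?_, fun a ha => ?_⟩
  · have hl : l ∈ closure W := by rw [hW]; trivial
    induction hl using closure_induction with
    | mem x hx => exact ⟨_, subset_closure ⟨x, hx, rfl⟩, h.Z_mul_t (hG x hx x hx).1⟩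
    | one => exact ⟨1, one_mem _, by rw [mul_one, c.tt, mul_one, map_one]⟩
    | mul x y _ _ hx hy =>
      obtain ⟨a, ha, e1⟩ := hx
      obtain ⟨b, hb, e2⟩ := hy
      exact ⟨a * b, mul_mem ha hb, by rw [h3 a ha b hb, e1, e2, map_mul]⟩
    | inv x _ hx =>
      obtain ⟨a, ha, e1⟩ := hx
      exact ⟨a⁻¹, inv_mem ha, by rw [h4 a ha, e1, map_inv]⟩
  · induction ha using closure_induction with
    | mem x hx => obtain ⟨v, hv, rfl⟩ := hx; exact ⟨v, h.Z_mul_t (hG v hv v hv).1⟩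
    | one => exact ⟨1, by rw [mul_one, c.tt, mul_one, map_one]⟩
    | mul x y hx' hy' hx hy =>
      obtain ⟨a, e1⟩ := hx
      obtain ⟨b, e2⟩ := hy
      exact ⟨a * b, by rw [h3 x hx' y hy', e1, e2, map_mul]⟩
    | inv x hx' hx =>
      obtain ⟨a, e1⟩ := hx
      exact ⟨a⁻¹, by rw [h4 x hx', e1, map_inv]⟩

end Co.Zeta

omit [Finite A] in
theorem Rules.closure {Ad Γ : A → A → Prop} (h : Rules z Ad Γ) (z2 : z * z = 1) {W : Set A}
    (hW : ∀ a ∈ W, ∀ b ∈ W, Γ a b) {l l' a b : A} (hl : l ∈ Subgroup.closure W) (hl' : l' ∈ Subgroup.closure W)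
    (ha : a ∈ W) (hb : b ∈ W) : Γ (l * a * l⁻¹) (l' * b * l'⁻¹) := by
  have hi : ∀ w ∈ W, w⁻¹ = w := fun w hw => by
    obtain ⟨m, hm⟩ := isConj_iff.1 (h.cls _ _ (hW w hw w hw))
    apply inv_eq_of_mul_eq_one_right
    rw [← hm]
    calc _ = m * (z * z) * m⁻¹ := by group
      _ = 1 := by rw [z2]; group
  have step : ∀ x ∈ W, ∀ y, (∀ a ∈ W, Γ a (y * b * y⁻¹)) → ∀ a ∈ W, Γ a (x * y * b * (x * y)⁻¹) := by
    intro x hx y hy a ha
    have := h.tri a x _ (hW a ha x hx) (hy a ha) (hy x hx)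
    have e : x * y * b * (x * y)⁻¹ = x * (y * b * y⁻¹) * x := by rw [mul_inv_rev, hi x hx]; group
    rwa [e]
  have key : ∀ m ∈ Subgroup.closure W, ∀ a ∈ W, Γ a (m * b * m⁻¹) := by
    intro m hm
    induction hm using closure_induction_left with
    | one => intro a ha; simpa using hW a ha b hb
    | mul_left x hx y _ hy => exact step x hx y hy
    | inv_mul_cancel x hx y _ hy => rw [hi x hx]; exact step x hx y hy
  have := h.conj _ _ l (key _ (mul_mem (inv_mem hl) hl') a ha)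
  have e : l * (l⁻¹ * l' * b * (l⁻¹ * l')⁻¹) * l⁻¹ = l' * b * l'⁻¹ := by group
  rwa [e] at this

end Cfsg.Agent.Wz
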