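import Mathlib
import Cfsg.Agent.Wz.TZ
import Cfsg.Agent.UT.Cov
import Cfsg.Agent.Ch.QuatSylow
import Cfsg.Agent.StdB.Gen

/-! Passage to the quotient by the odd part of `C(t) ⊓ C(L)` and lifting of one factor. -/

set_option autoImplicit false
set_option linter.unusedSectionVars false

namespace Cfsg.Agent.Wz

open Cfsg.Agent.Loc.Mss Cfsg.Agent.Gold Cfsg.Agent.Wr Subgroup
open scoped commutatorElement

universe u

variable {A : Type} [Group A] {m : Md A} {G : Type u} [Group G] [Finite G]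

namespace QT

open Cfsg.Agent.UT (Cov)

theorem exists_perf {D H : Type*} [Group D] [Finite D] [Group H] (δ : D →* H) {R : Subgroup H} (hR : ⁅R, R⁆ = R)
    (X : Subgroup D) (hX : X.map δ = R) : ∃ K ≤ X, ⁅K, K⁆ = K ∧ K.map δ = R := by
  induction X using WellFoundedLT.induction with
  | ind X ih =>
    by_cases e : ⁅X, X⁆ = X
    · exact ⟨X, le_rfl, e, hX⟩
    · have l : ⁅X, X⁆ ≤ X := Loc.Mss.comm_le_left le_normalizer
      obtain ⟨K, h1, h2⟩ := ih _ (lt_of_le_of_ne l e) (by rw [map_commutator, hX, hR])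
      exact ⟨K, h1.trans l, h2⟩

theorem three {X Y : Subgroup G} (h : ⁅X, Y⁆ ≤ 𝐂[X]) : ⁅X, X⁆ ≤ 𝐂[Y] :=
  comm_eq_bot_iff.1 (commutator_commutator_eq_bot_of_rotate (comm_eq_bot_iff.2 h)
    (comm_eq_bot_iff.2 (by rwa [commutator_comm Y])))

/-- The odd part of `C(t) ⊓ C(L)`. -/
structure Oc (b : Bas m G) (t : G) (O : Subgroup G) : Prop where
  two : b.Tw t
  odd : Odd (Nat.card O)
  mem : ∀ g, g ∈ O ↔ (g ∈ 𝐂[b.L] ∧ g * t = t * g) ∧ Odd (orderOf g)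
  dec : ∀ k ∈ 𝐂[b.L], k * t = t * k → k ∈ O ∨ k * t ∈ O

theorem exists_Oc {b : Bas m G} {t : G} (h : b.Tw t) : ∃ O, Oc b t O := by
  have p2 := Gold.R2.pg_zpowers_of_sq h.tt
  have le : zpowers t ≤ 𝐂[b.L] ⊓ centralizer {t} := zpowers_le.2 ⟨h.tK, mem_centralizer_singleton_iff.2 rfl⟩
  have s : Syl 2 (zpowers t) (𝐂[b.L] ⊓ centralizer {t}) := Syl.of_maximal p2 le fun P hP _ h2 g hg => by
    rcases h.two g (h2 hg).1 (mem_centralizer_singleton_iff.1 (h2 hg).2) (pg_iff.1 hP g hg) with e | e <;> rw [e]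
    exacts [one_mem _, mem_zpowers t]
  obtain ⟨O, -, o1, o2, o3⟩ := Ch.Quat.exists_odd_complement _ _ le p2 inferInstance s.nd
  refine ⟨O, h, o1, fun g => by rw [o2, mem_inf, mem_centralizer_singleton_iff], fun k hk kt => ?_⟩
  obtain ⟨o, ho, v, hv, rfl⟩ := o3 k ⟨hk, mem_centralizer_singleton_iff.2 kt⟩
  rcases h.two v (le hv).1 (mem_centralizer_singleton_iff.1 (le hv).2) (pg_iff.1 p2 v hv) with rfl | rfl
  · exact Or.inl (by rwa [mul_one])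
  · exact Or.inr (by rwa [mul_assoc, h.tt, mul_one])

namespace Oc

variable {b : Bas m G} {t : G} {O : Subgroup G} (h : Oc b t O)
include h

theorem tc {l : G} (hl : l ∈ b.L) : l * t = t * l := mem_cent.1 h.two.tK l hl

theorem le : O ≤ 𝐂[b.L] := fun o ho => ((h.mem o).1 ho).1.1

theorem nL {g : G} (hg : g * t = t * g) : g ∈ 𝐍[b.L] :=
  b.cent_le h.two.tt h.two.t1 h.two.tK (mem_centralizer_singleton_iff.2 hg)

theorem ord (g o : G) : orderOf (g * o * g⁻¹) = orderOf o := (MulAut.conj g).orderOf_eq o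

theorem norm {g : G} (hg : g * t = t * g) : g ∈ 𝐍[O] := mem_norm_of_cj_le (cj_le_iff.2 fun o ho => by
  obtain ⟨⟨a, c⟩, d⟩ := (h.mem o).1 ho
  exact (h.mem _).2 ⟨⟨conj_mem_of_norm (norm_cent le_rfl (h.nL hg)) a,
    ((show Commute g t from hg).mul_left c).mul_left (Commute.inv_left hg)⟩, h.ord g o ▸ d⟩)

theorem exists_n : ∃ n ∈ 𝐍[O], n * t * n⁻¹ = t * b.z := by
  obtain ⟨β, hβ, eβ⟩ := b.exists_β
  have l := b.lw hβ eβ
  have TL := l.syl.le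
  obtain ⟨S, h1, hS⟩ := Syl.exists_ge (p := 2) (P := b.pre m.T) (L := ⊤ ⊓ C1 t) l.syl.pg fun a ha =>
    ⟨mem_top _, mem_centralizer_singleton_iff.2 (h.tc (TL ha))⟩
  have SC : S ≤ C1 t := hS.le.trans inf_le_right
  have SN : S ≤ 𝐍[b.L] := fun s hs => h.nL (mem_centralizer_singleton_iff.1 (SC hs))
  have e1 : S ⊓ b.L = b.pre m.T := l.syl.eq_of_le (hS.pg.to_le inf_le_left) (le_inf h1 TL) inf_le_right
  have nT : S ≤ 𝐍[b.pre m.T] := e1 ▸ norm_inf le_normalizer SN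
  have zS : b.z ∈ 𝐂[S] := mem_cent.2 fun s hs => by
    rcases l.eq_z (conj_mem_of_norm (nT hs) l.zT) (conj_mem_of_norm (norm_cent nT hs) l.zc) with e | e
    · exact absurd (by simpa using e) l.z1
    · exact mul_inv_eq_iff_eq_mul.1 e
  obtain ⟨g, hg⟩ := h.two.fus
  obtain ⟨n, ⟨-, hn⟩, e⟩ := StdB.conj_in_norm (u := t * b.z) (g := g⁻¹) hS (mem_top _) (by rw [← hg]; group)
    fun s hs => mem_centralizer_singleton_iff.2
      (Commute.mul_right (mem_centralizer_singleton_iff.1 (SC hs)) (mem_cent.1 zS s hs))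
  have DL : ⁅S, S⁆ ≤ b.L := Bas.comm_le_L h.two.tt h.two.t1 h.two.tK h.two.two hS.pg SC
  have nD : n ∈ 𝐍[⁅S, S⁆] := norm_comm le_rfl le_rfl hn
  have TD : ⁅b.pre m.T, b.pre m.T⁆ ≤ ⁅S, S⁆ := commutator_mono h1 h1
  have ez : n * b.z * n⁻¹ = b.z := by
    refine (l.eq_z (e1.le ?_) (cent_anti h1 (conj_mem_of_norm (norm_cent le_rfl hn) zS))).resolve_left
      fun e => l.z1 (by simpa using e)
    have := conj_mem_of_norm nD (TD l.zD)
    exact ⟨Loc.Mss.comm_le_left le_normalizer this, DL this⟩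
  have et : n * t * n⁻¹ = t * b.z := by
    calc _ = n * (t * b.z) * n⁻¹ * (n * b.z * n⁻¹)⁻¹ := by group
      _ = _ := by rw [e, ez, inv_eq_of_mul_eq_one_right l.zz]
  refine ⟨n, mem_norm_of_cj_le (cj_le_iff.2 fun o ho => ?_), et⟩
  obtain ⟨⟨a, c⟩, o2⟩ := (h.mem o).1 ho
  have c1 : n * o * n⁻¹ ∈ 𝐂[⁅S, S⁆] := conj_mem_of_norm (norm_cent le_rfl nD) (cent_anti DL a)
  have c2 : Commute (n * o * n⁻¹) t := by
    have : Commute (n * o * n⁻¹) (t * b.z) := et ▸ (show Commute o t from c).map (MulAut.conj n)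
    have c3 : Commute (n * o * n⁻¹) b.z := (mem_cent.1 c1 _ (TD l.zD)).symm
    simpa using this.mul_right c3.inv_right
  rw [← h.ord n o] at o2
  generalize n * o * n⁻¹ = u at *
  have uN := h.nL c2
  have TN := TL.trans le_normalizer
  refine (h.mem u).2 ⟨⟨(b.μ_eq_one uN).1 (m.tg.cenD _ (o2.of_dvd_nat ?_) (mem_cent.2 fun φ hφ => ?_)), c2⟩, o2⟩
  · exact orderOf_dvd_of_pow_eq_one ((map_pow b.hom ⟨u, uN⟩ _).symm.trans
      (by rw [show (⟨u, uN⟩ : 𝐍[b.L]) ^ orderOf u = 1 from Subtype.ext (pow_orderOf_eq_one u), map_one]))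
  · have DN := TD.trans (DL.trans le_normalizer)
    rw [← b.img_pre m.lw.syl.le, ← b.img_comm TN TN, b.mem_img DN] at hφ
    obtain ⟨q, hq, rfl⟩ := hφ
    rw [← b.μ_mul (DN hq) uN, ← b.μ_mul uN (DN hq), mem_cent.1 c1 q (TD hq)]

end Oc

variable {H : Type u} [Group H] {b : Bas m G} {t : G} (c : Cov G H) (h : Oc b t c.W)
  (hM : ∀ g, g * t = t * g → g ∈ c.M)
include h hM

theorem LM {l : G} (hl : l ∈ b.L) : l ∈ c.M := hM l (h.tc hl)

theorem injL {l l' : G} (hl : l ∈ b.L) (hl' : l' ∈ b.L) (e : c.f l = c.f l') : l = l' :=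
  inv_mul_eq_one.1 (b.zL (mul_mem (inv_mem hl) hl') (h.le ((c.eq_iff (LM c h hM hl) (LM c h hM hl')).1 e)))

theorem lift {g : H} (hg : g * c.f t = c.f t * g) : ∃ n ∈ c.M, c.f n = g ∧ n * t = t * n ∧
    ∀ a, g * c.f (b.e a) * g⁻¹ = c.f (b.e (b.μ n a)) := by
  have tM := hM t rfl
  obtain ⟨n, n1, rfl, n2⟩ := c.lift1 tM tM h.two.tt h.two.tt (mul_inv_eq_iff_eq_mul.2 hg)
  replace n2 := mul_inv_eq_iff_eq_mul.1 n2
  exact ⟨n, n1, rfl, n2, fun a => by rw [← c.conj n1 (LM c h hM (b.e_mem a)), b.act n (h.nL n2)]⟩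

/-- The configuration in the quotient. -/
noncomputable def co (fus : ∃ n ∈ c.M, n * t * n⁻¹ = t * b.z) : Co m.z₀ H where
  ι := MonoidHom.mk' (fun a => c.f (b.e a)) fun p q => by
    rw [map_mul, c.mul (LM c h hM (b.e_mem p)) (LM c h hM (b.e_mem q))]
  t := c.f t
  inj p q e := b.inj (injL c h hM (b.e_mem p) (b.e_mem q) e)
  tt := c.sq (hM t rfl) h.two.tt
  tc a := c.comm (LM c h hM (b.e_mem a)) (hM t rfl) (h.tc (b.e_mem a))
  tL a e := by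
    have e : c.f (b.e a) = c.f t := e
    have := (mul_mem_cancel_right h.two.tK).1 (h.le ((c.eq_iff (LM c h hM (b.e_mem a)) (hM t rfl)).1 e))
    rw [b.zL (b.e_mem a) (inv_mem_iff.1 this), c.one] at e
    exact c.ne_one (hM t rfl) h.two.tt h.two.t1 e.symm
  act g hg := let ⟨n, _, _, _, e⟩ := lift c h hM hg; ⟨b.μ n, e⟩
  two g hg k := by
    obtain ⟨n, n1, rfl, n2, e⟩ := lift c h hM hg
    have h1 : n ∈ 𝐂[b.L] := (b.μ_eq_one (h.nL n2)).1 (MulEquiv.ext fun a => b.inj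
      (injL c h hM (b.e_mem _) (b.e_mem _) ((e a).symm.trans (mul_inv_eq_iff_eq_mul.2 (k a)))))
    refine (h.dec n h1 n2).imp (c.ker n1).2 fun e => ?_
    have := (c.ker (mul_mem n1 (hM t rfl))).2 e
    rw [c.mul n1 (hM t rfl)] at this
    exact (eq_inv_of_mul_eq_one_left this).trans (inv_eq_of_mul_eq_one_right (c.sq (hM t rfl) h.two.tt))
  fus := let ⟨n, n1, e⟩ := fus
    ⟨c.f n, by rw [← c.conj n1 (hM t rfl), e, c.mul (hM t rfl) (LM c h hM (l := b.z) (b.e_mem _))]; rfl⟩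

theorem fδ {a : G} (ha : a ∈ c.M) : c.f (a * (t * a * t)) = c.f a * (c.f t * c.f a * c.f t) := by
  have tM := hM t rfl
  rw [c.mul ha (mul_mem (mul_mem tM ha) tM), c.mul (mul_mem tM ha) tM, c.mul tM ha]

theorem f_comm {x y : G} (hx : x ∈ c.M) (hy : y ∈ c.M) :
    c.f (x * y * x⁻¹ * y⁻¹) = c.f x * c.f y * (c.f x)⁻¹ * (c.f y)⁻¹ := by
  rw [c.mul (mul_mem (mul_mem hx hy) (inv_mem hx)) (inv_mem hy), c.conj hx hy, c.inv hy]

/-- A perfect subgroup of the preimage which centralises the kernel. -/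
theorem exists_K1 {K : Subgroup H}
    (comm : ∀ a ∈ K, ∀ a' ∈ K, a * (c.f t * a' * c.f t) = c.f t * a' * c.f t * a)
    (onto : ∀ l, ∃ a ∈ K, a * (c.f t * a * c.f t) = c.f (b.e l))
    (into : ∀ a ∈ K, ∃ l, a * (c.f t * a * c.f t) = c.f (b.e l)) :
    ∃ X : Subgroup G, ⁅X, X⁆ = X ∧ X ≤ 𝐂[c.W] ∧ (∀ a ∈ X, a ∈ c.M ∧ c.f a ∈ K) ∧
      ∀ l, ∃ a ∈ X, c.f (a * (t * a * t)) = c.f (b.e l) := by
  have tM := hM t rfl
  have tt := c.sq tM h.two.tt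
  let D : Subgroup G := (K.comap c.φ).map c.M.subtype
  have mD : ∀ {a}, a ∈ D ↔ a ∈ c.M ∧ c.f a ∈ K :=
    ⟨fun ⟨x, hx, e⟩ => e ▸ ⟨x.2, hx⟩, fun ⟨h1, h2⟩ => ⟨⟨_, h1⟩, h2, rfl⟩⟩
  let δ : D →* H := MonoidHom.mk' (fun a => c.f a * (c.f t * c.f a * c.f t)) fun x y => by
    obtain ⟨x1, x2⟩ := mD.1 x.2
    obtain ⟨y1, y2⟩ := mD.1 y.2
    rw [coe_mul, c.mul x1 y1]
    calc _ = c.f x * (c.f y * (c.f t * c.f x * c.f t)) * (c.f t)⁻¹ * c.f y * c.f t := by group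
      _ = _ := by rw [comm _ y2 _ x2, inv_eq_of_mul_eq_one_right tt]; group
  let ι : A →* H := MonoidHom.mk' (fun a => c.f (b.e a)) fun p q => by
    rw [map_mul, c.mul (LM c h hM (b.e_mem p)) (LM c h hM (b.e_mem q))]
  have hR : ⁅ι.range, ι.range⁆ = ι.range := by
    obtain ⟨β, hβ, eβ⟩ := b.exists_β
    have h1 : ⁅(⊤ : Subgroup A), (⊤ : Subgroup A)⁆ = ⊤ := map_injective b.inj (by
      rw [map_commutator, ← MonoidHom.range_eq_map, b.range, (b.lw hβ eβ).perf])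
    rw [MonoidHom.range_eq_map, ← map_commutator, h1]
  have h1 : ∀ X : Subgroup D, X.map δ ≤ ι.range := by
    rintro X _ ⟨a, -, rfl⟩
    obtain ⟨l, e⟩ := into _ (mD.1 a.2).2
    exact ⟨l, e.symm⟩
  have h2 : (⊤ : Subgroup D).map δ = ι.range := le_antisymm (h1 _) (by
    rintro _ ⟨l, rfl⟩
    obtain ⟨a, ha, e⟩ := onto l
    obtain ⟨x, hx, rfl⟩ := c.surj a
    exact ⟨⟨x, mD.2 ⟨hx, ha⟩⟩, mem_top _, e⟩)
  have nN : c.M ≤ 𝐍[𝐂[c.W] ⊔ c.W] := norm_sup (norm_cent c.norm) c.norm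
  have h3 : (𝐂[c.W].subgroupOf D).map δ = ι.range := le_antisymm (h1 _) (by
    rw [← hR, ← h2, ← map_commutator, map_le_iff_le_comap]
    refine commutator_le.2 fun x _ y _ => ?_
    obtain ⟨x1, x2⟩ := mD.1 x.2
    obtain ⟨y1, y2⟩ := mD.1 y.2
    obtain ⟨l, e⟩ := into _ y2
    have dM : y * (t * y * t) ∈ c.M := mul_mem y1 (mul_mem (mul_mem tM y1) tM)
    have d1 : y * (t * y * t) ∈ 𝐂[c.W] ⊔ c.W := (mul_mem_cancel_left
      (mem_sup_left (inv_mem (cent_comm h.le (b.e_mem l))))).1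
      (mem_sup_right ((c.eq_iff (LM c h hM (b.e_mem l)) dM).1 (by rw [fδ c h hM y1, e])))
    have d2 := mul_mem (conj_mem_of_norm (nN x1) d1) (inv_mem d1)
    have d3 : (x : G) * y * (x : G)⁻¹ * (y : G)⁻¹ ∈ 𝐂[c.W] ⊔ c.W := (mul_mem_cancel_left (inv_mem d2)).1
      (mem_sup_right ((c.eq_iff (mul_mem (mul_mem (mul_mem x1 dM) (inv_mem x1)) (inv_mem dM))
        (mul_mem (mul_mem (mul_mem x1 y1) (inv_mem x1)) (inv_mem y1))).1 (by
        rw [f_comm c h hM x1 dM, f_comm c h hM x1 y1, fδ c h hM y1]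
        calc _ = c.f x * c.f y * (c.f x)⁻¹ * (c.f x * (c.f t * c.f y * c.f t) * (c.f x)⁻¹) *
              (c.f t * c.f y * c.f t)⁻¹ * (c.f y)⁻¹ := by group
          _ = _ := by rw [comm _ x2 _ y2]; group)))
    obtain ⟨k, hk, o, ho, e1⟩ := (mem_sup_norm (norm_cent le_normalizer)).1 d3
    have o1 := (c.ker (c.le ho)).2 ho
    have oD : o ∈ D := mD.2 ⟨c.le ho, o1 ▸ one_mem _⟩
    refine ⟨⁅x, y⁆ * (⟨o, oD⟩ : D)⁻¹, mem_subgroupOf.2 ?_, ?_⟩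
    · rwa [show ((⁅x, y⁆ * (⟨o, oD⟩ : D)⁻¹ : D) : G) = k from mul_inv_eq_iff_eq_mul.2 e1.symm]
    · rw [map_mul, map_inv, show δ ⟨o, oD⟩ = 1 by
        show c.f o * (c.f t * c.f o * c.f t) = 1
        rw [o1, one_mul, mul_one, tt], inv_one, mul_one])
  obtain ⟨X, x1, x2, x3⟩ := exists_perf δ hR _ h3
  refine ⟨X.map D.subtype, by rw [← map_commutator, x2], ?_, ?_, fun l => ?_⟩
  · rintro _ ⟨a, ha, rfl⟩; exact x1 ha
  · rintro _ ⟨a, -, rfl⟩; exact mD.1 a.2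
  · obtain ⟨a, ha, e⟩ := x3.ge ⟨l, rfl⟩
    exact ⟨a, mem_map_of_mem _ ha, (fδ c h hM (mD.1 a.2).1).trans e⟩

end QT

open QT in
theorem Bas.Tw.exists_K {b : Bas m G} {t : G} (h : b.Tw t)
    (climb : ∀ (H : Type u) [Group H] [Finite H] (c : Co m.z₀ H), ∃ K, c.Out K) :
    ∃ K : Subgroup G, ⁅K, K⁆ = K ∧ (∀ a ∈ K, ∀ a' ∈ K, a * (t * a' * t) = t * a' * t * a) ∧
      (∀ g, g ∈ b.L ↔ ∃ a ∈ K, g = a * (t * a * t)) ∧
      (∀ a ∈ K, a * (t * a * t) = 1 → Odd (orderOf a)) ∧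
      ∀ k ∈ 𝐂[b.L], k * t = t * k → Odd (orderOf k) → k ∈ 𝐂[K] := by
  obtain ⟨O, o⟩ := exists_Oc h
  let c := UT.Cov.quot (normalizer (O : Set G)) O le_normalizer o.odd
  have hM : ∀ g, g * t = t * g → g ∈ c.M := fun _ => o.norm
  obtain ⟨K0, k⟩ := climb _ (co c o hM o.exists_n)
  obtain ⟨K, kp, kC, kM, onto⟩ := exists_K1 c o hM k.comm k.onto k.into
  replace kC : K ≤ 𝐂[O] := kC
  have tM := hM t rfl
  have ti := inv_eq_of_mul_eq_one_right h.tt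
  have tl : ∀ g, t * (t * g) = g := fun g => by rw [← mul_assoc, h.tt, one_mul]
  have k1 : K ≤ 𝐂[cj(t, K)] := kp.ge.trans (three (le_trans (commutator_le.2 fun x hx y hy => ?_) (cent_comm kC)))
  swap
  · obtain ⟨y, hy, rfl⟩ := hy
    have y1 : t * y * t ∈ c.M := mul_mem (mul_mem tM (kM y hy).1) tM
    have x1 := (kM x hx).1
    show x * (t * y * t⁻¹) * x⁻¹ * (t * y * t⁻¹)⁻¹ ∈ c.W
    rw [ti, ← c.ker (mul_mem (mul_mem (mul_mem x1 y1) (inv_mem x1)) (inv_mem y1)), f_comm c o hM x1 y1,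
      c.mul (mul_mem tM (kM y hy).1) tM, c.mul tM (kM y hy).1,
      show c.f x * (c.f t * c.f y * c.f t) = c.f t * c.f y * c.f t * c.f x from k.comm _ (kM x hx).2 _ (kM y hy).2]
    group
  have comm : ∀ a ∈ K, ∀ a' ∈ K, a * (t * a' * t) = t * a' * t * a := fun a ha a' ha' => by
    simpa only [ti] using (mem_cent.1 (k1 ha) _ (conj_mem_cj ha')).symm
  let δ : K →* G := MonoidHom.mk' (fun a => a * (t * a * t)) fun x y => by
    rw [coe_mul]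
    calc _ = x * (y * (t * x * t)) * t⁻¹ * y * t := by group
      _ = _ := by rw [comm _ y.2 _ x.2, ti]; group
  have LO : b.L ≤ 𝐂[O] := cent_comm o.le
  have z1 : O ⊓ 𝐂[O] ≤ 𝐂[b.L ⊔ O ⊓ 𝐂[O]] :=
    le_cent_sup (inf_le_left.trans o.le) (inf_le_right.trans (cent_anti inf_le_left))
  have nL : b.L ⊔ O ⊓ 𝐂[O] ≤ 𝐍[b.L] := sup_le le_normalizer (norm_of_cent (inf_le_left.trans o.le))
  have z2 : ⁅b.L ⊔ O ⊓ 𝐂[O], b.L ⊔ O ⊓ 𝐂[O]⁆ ≤ b.L := sup_comm_le le_normalizer (le_sup_right.trans nL)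
    (Loc.Mss.comm_le_left nL) ((comm_eq_bot_iff.2 z1).le.trans bot_le)
  have d1 : ∀ a : K, δ a ∈ b.L ⊔ O ⊓ 𝐂[O] := fun a => by
    obtain ⟨l, e⟩ := k.into _ (kM a a.2).2
    have a1 := (kM a a.2).1
    have a2 : δ a ∈ 𝐂[O] := mul_mem (kC a.2) (by
      simpa only [ti] using conj_mem_of_norm (norm_cent le_rfl (o.norm rfl)) (kC a.2))
    exact (mul_mem_cancel_left (mem_sup_left (inv_mem (b.e_mem l)))).1 (mem_sup_right (mem_inf.2
      ⟨(c.eq_iff (LM c o hM (b.e_mem l)) (mul_mem a1 (mul_mem (mul_mem tM a1) tM))).1 ((fδ c o hM a1).trans e).symm,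
        mul_mem (inv_mem (LO (b.e_mem l))) a2⟩))
  have d2 : ∀ a ∈ K, a * (t * a * t) ∈ b.L := fun a ha => by
    obtain ⟨x, hx, rfl⟩ := (commutator_le.2 fun x hx y hy => ⟨⁅(⟨x, hx⟩ : K), ⟨y, hy⟩⁆, by
      rw [SetLike.mem_coe, mem_comap, map_commutatorElement]
      exact z2 (commutator_mem_commutator (d1 _) (d1 _)), rfl⟩ : ⁅K, K⁆ ≤ (b.L.comap δ).map K.subtype) (kp.ge ha)
    exact hx
  have d3 : ∀ g, g ∈ b.L ↔ ∃ a ∈ K, g = a * (t * a * t) := fun g => ⟨fun hg => by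
    obtain ⟨l, rfl⟩ := b.range.ge hg
    obtain ⟨a, ha, e⟩ := onto l
    exact ⟨a, ha, (injL c o hM (d2 a ha) hg e).symm⟩, fun ⟨a, ha, e⟩ => e ▸ d2 a ha⟩
  refine ⟨K, kp, comm, d3, fun a ha e => Nat.not_even_iff_odd.1 fun ⟨r, hr⟩ => ?_,
    fun g hg gt og => cent_comm kC ((o.mem g).2 ⟨⟨hg, gt⟩, og⟩)⟩
  have r0 := orderOf_pos a
  have u1 : a ^ r ≠ 1 := pow_ne_one_of_lt_orderOf (by omega) (by omega)
  have u2 : a ^ r * a ^ r = 1 := by rw [← pow_add, ← hr, pow_orderOf_eq_one]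
  have u3 : a ^ r * (t * a ^ r * t) = 1 := (map_pow δ ⟨a, ha⟩ r).trans (by rw [show δ ⟨a, ha⟩ = 1 from e, one_pow])
  have u4 := pow_mem ha r
  generalize a ^ r = u at *
  have u5 : t * u * t = u := mul_left_cancel (u3.trans u2.symm)
  have u6 : u * t = t * u := by conv_lhs => rw [← u5, mul_assoc, h.tt, mul_one]
  have u7 : u ∈ 𝐂[b.L] := mem_cent.2 fun l hl => by
    obtain ⟨x, hx, rfl⟩ := (d3 l).1 hl
    exact Commute.mul_left (u5 ▸ comm x hx u u4) (comm u u4 x hx).symm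
  obtain rfl := (h.two u u7 u6 ⟨1, by rw [pow_one, sq, u2]⟩).resolve_left u1
  have u8 : K ≤ 𝐂[K] := fun x hx => mem_cent.2 fun y hy => by
    have := comm y hy _ (mul_mem (mul_mem u4 hx) u4)
    simpa only [mul_assoc, tl, u2, mul_one] using this
  exact u1 (mem_bot.1 ((kp.ge.trans (comm_eq_bot_iff.2 u8).le) u4))

end Cfsg.Agent.Wz
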