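import Mathlib
import Cfsg.Agent.Rec.L52.Final

/-! The two orbits of the normaliser `2^6 : 3.S₆` on the involutions of its normal subgroup `2^6`. -/

set_option autoImplicit false
set_option maxRecDepth 100000

namespace Cfsg.Agent.Wz.HeB

open Cfsg.Agent.Spor Cfsg.Agent.Rec Cfsg.Agent.Rec.L52

/-- The codes of the letters of the normaliser. -/
noncomputable abbrev cN7 : List ℕ := kN true true ++ A7.one :: (cK true true).drop 10

noncomputable def Zn_t : ST :=
(.node (nat_lit 0x1010509012141) (.node (nat_lit 0x1010109112101) (.node (nat_lit 0x1010101112101) (.node (nat_lit 0x1010101012141) (.node (nat_lit 0x1010101012101) (.leaf (nat_lit 0x1010101010141) (nat_lit 774))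
 (.leaf (nat_lit 0x1010101012101) (nat_lit 270))
) (.node (nat_lit 0x1010101110101) (.leaf (nat_lit 0x1010101012141) (nat_lit 522))
 (.node (nat_lit 0x1010101110141) (.leaf (nat_lit 0x1010101110101) (nat_lit 0))
 (.leaf (nat_lit 0x1010101110141) (nat_lit 774))
))) (.node (nat_lit 0x1010109010141) (.node (nat_lit 0x1010101112141) (.leaf (nat_lit 0x1010101112101) (nat_lit 271))
 (.node (nat_lit 0x1010109010101) (.leaf (nat_lit 0x1010101112141) (nat_lit 522))
 (.leaf (nat_lit 0x1010109010101) (nat_lit 1030))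
)) (.node (nat_lit 0x1010109012101) (.leaf (nat_lit 0x1010109010141) (nat_lit 1030))
 (.node (nat_lit 0x1010109012141) (.leaf (nat_lit 0x1010109012101) (nat_lit 1286))
 (.leaf (nat_lit 0x1010109012141) (nat_lit 1039))
)))) (.node (nat_lit 0x1010501012141) (.node (nat_lit 0x1010501010101) (.node (nat_lit 0x1010109112141) (.leaf (nat_lit 0x1010109112101) (nat_lit 1038))
 (.leaf (nat_lit 0x1010109112141) (nat_lit 1289))
) (.node (nat_lit 0x1010501010141) (.leaf (nat_lit 0x1010501010101) (nat_lit 526))
 (.node (nat_lit 0x1010501012101) (.leaf (nat_lit 0x1010501010141) (nat_lit 783))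
 (.leaf (nat_lit 0x1010501012101) (nat_lit 526))
))) (.node (nat_lit 0x1010509010101) (.node (nat_lit 0x1010501110141) (.leaf (nat_lit 0x1010501012141) (nat_lit 1030))
 (.node (nat_lit 0x1010501112141) (.leaf (nat_lit 0x1010501110141) (nat_lit 1039))
 (.leaf (nat_lit 0x1010501112141) (nat_lit 783))
)) (.node (nat_lit 0x1010509010141) (.leaf (nat_lit 0x1010509010101) (nat_lit 778))
 (.node (nat_lit 0x1010509012101) (.leaf (nat_lit 0x1010509010141) (nat_lit 1034))
 (.leaf (nat_lit 0x1010509012101) (nat_lit 1039))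
))))) (.node (nat_lit 0x1030501010101) (.node (nat_lit 0x1030109010101) (.node (nat_lit 0x1010509112101) (.node (nat_lit 0x1010509110141) (.leaf (nat_lit 0x1010509012141) (nat_lit 778))
 (.leaf (nat_lit 0x1010509110141) (nat_lit 1289))
) (.node (nat_lit 0x1030101010101) (.leaf (nat_lit 0x1010509112101) (nat_lit 1038))
 (.node (nat_lit 0x1030101110101) (.leaf (nat_lit 0x1030101010101) (nat_lit 268))
 (.leaf (nat_lit 0x1030101110101) (nat_lit 269))
))) (.node (nat_lit 0x1030109110141) (.node (nat_lit 0x1030109012101) (.leaf (nat_lit 0x1030109010101) (nat_lit 1030))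
 (.node (nat_lit 0x1030109012141) (.leaf (nat_lit 0x1030109012101) (nat_lit 1039))
 (.leaf (nat_lit 0x1030109012141) (nat_lit 1038))
)) (.node (nat_lit 0x1030109112101) (.leaf (nat_lit 0x1030109110141) (nat_lit 1030))
 (.node (nat_lit 0x1030109112141) (.leaf (nat_lit 0x1030109112101) (nat_lit 1294))
 (.leaf (nat_lit 0x1030109112141) (nat_lit 1289))
)))) (.node (nat_lit 0x1030509010101) (.node (nat_lit 0x1030501110141) (.node (nat_lit 0x1030501010141) (.leaf (nat_lit 0x1030501010101) (nat_lit 527))
 (.node (nat_lit 0x1030501012141) (.leaf (nat_lit 0x1030501010141) (nat_lit 1031))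
 (.leaf (nat_lit 0x1030501012141) (nat_lit 1038))
)) (.node (nat_lit 0x1030501112101) (.leaf (nat_lit 0x1030501110141) (nat_lit 782))
 (.node (nat_lit 0x1030501112141) (.leaf (nat_lit 0x1030501112101) (nat_lit 527))
 (.leaf (nat_lit 0x1030501112141) (nat_lit 782))
))) (.node (nat_lit 0x1030509110141) (.node (nat_lit 0x1030509010141) (.leaf (nat_lit 0x1030509010101) (nat_lit 778))
 (.node (nat_lit 0x1030509012101) (.leaf (nat_lit 0x1030509010141) (nat_lit 1038))
 (.leaf (nat_lit 0x1030509012101) (nat_lit 1295))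
)) (.node (nat_lit 0x1030509112101) (.leaf (nat_lit 0x1030509110141) (nat_lit 1039))
 (.node (nat_lit 0x1030509112141) (.leaf (nat_lit 0x1030509112101) (nat_lit 1034))
 (.leaf (nat_lit 0x1030509112141) (nat_lit 778))
))))))

theorem Zn_ok : orbOK A7 cN7 (nat_lit 0x1010101110101) Zn_t (nat_lit 45) = true := by decide +kernel

noncomputable def Bn_t : ST :=
(.node (nat_lit 0x1030101110141) (.node (nat_lit 0x1010509110101) (.node (nat_lit 0x1010501110101) (.node (nat_lit 0x1010109110141) (.leaf (nat_lit 0x1010109110101) (nat_lit 782))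
 (.leaf (nat_lit 0x1010109110141) (nat_lit 781))
) (.node (nat_lit 0x1010501112101) (.leaf (nat_lit 0x1010501110101) (nat_lit 524))
 (.leaf (nat_lit 0x1010501112101) (nat_lit 269))
)) (.node (nat_lit 0x1030101010141) (.node (nat_lit 0x1010509112141) (.leaf (nat_lit 0x1010509110101) (nat_lit 780))
 (.leaf (nat_lit 0x1010509112141) (nat_lit 525))
) (.node (nat_lit 0x1030101012101) (.leaf (nat_lit 0x1030101010141) (nat_lit 518))
 (.node (nat_lit 0x1030101012141) (.leaf (nat_lit 0x1030101012101) (nat_lit 0))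
 (.leaf (nat_lit 0x1030101012141) (nat_lit 266))
)))) (.node (nat_lit 0x1030109110101) (.node (nat_lit 0x1030101112141) (.node (nat_lit 0x1030101112101) (.leaf (nat_lit 0x1030101110141) (nat_lit 526))
 (.leaf (nat_lit 0x1030101112101) (nat_lit 264))
) (.node (nat_lit 0x1030109010141) (.leaf (nat_lit 0x1030101112141) (nat_lit 522))
 (.leaf (nat_lit 0x1030109010141) (nat_lit 782))
)) (.node (nat_lit 0x1030501110101) (.node (nat_lit 0x1030501012101) (.leaf (nat_lit 0x1030109110101) (nat_lit 780))
 (.leaf (nat_lit 0x1030501012101) (nat_lit 525))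
) (.node (nat_lit 0x1030509012141) (.leaf (nat_lit 0x1030501110101) (nat_lit 268))
 (.node (nat_lit 0x1030509110101) (.leaf (nat_lit 0x1030509012141) (nat_lit 781))
 (.leaf (nat_lit 0x1030509110101) (nat_lit 524))
)))))

theorem Bn_ok : orbOK A7 cN7 (nat_lit 0x1030101012101) Bn_t (nat_lit 18) = true := by decide +kernel

end Cfsg.Agent.Wz.HeB
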