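import Mathlib
import Cfsg.Agent.Wz.Defs
import Cfsg.Agent.Rec.L52.Final

/-!
# The frame for the Held group
-/

set_option autoImplicit false

namespace Cfsg.Agent.Wz

open Cfsg.Agent.Loc.Mss Cfsg.Agent.Gold Cfsg.Agent.Wr Cfsg.Agent.Spor Cfsg.Agent.Rec Cfsg.Agent.Rec.L52 Subgroup

universe u

/-- The letters of `Rec.L52.StG` of the Held type, with the automorphism interchanging the two parabolic subgroups. -/
structure HeF (A : Type) [Group A] extends StG A true true where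
  α : MulAut A
  hα : toStG.eG.map α = toStG.flip.eG
  hα' : toStG.flip.eG.map α = toStG.flip.flip.eG
  αα : α * α = 1
  cases : ∀ φ : MulAut A, ∃ g, φ = MulAut.conj g ∨ φ = MulAut.conj g * α

namespace HeF

variable {A : Type} [Group A] (s : HeF A)

/-- The second class of involutions. -/
def β : A := s.x14 * s.x25
/-- The normal four-group of `C(β)`. -/
def B : Subgroup A := clos [s.x14 * s.x25, s.x24 * s.x14 * s.z]
/-- The normaliser of `R1`. -/
def N : Subgroup A := clos s.toStG.eN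
/-- The normaliser of `R1 R2`. -/
def PJ : Subgroup A := clos [s.x12, s.x23, s.x34, s.x45, s.y, s.v]
/-- The largest normal 2-subgroup of `C(z)`. -/
def Q : Subgroup A := clos [s.x12, s.x13, s.x14, s.x25, s.x35, s.x45]

/-- Interchange the two parabolic subgroups. -/
noncomputable def flip : HeF A where
  toStG := s.toStG.flip
  α := s.α
  hα := s.hα'
  hα' := s.hα
  αα := s.αα
  cases := s.cases

/-- Base pairs. -/
def Base (a b : A) : Prop := IsConj s.z a ∧ IsConj s.z b ∧ (a ∈ s.R1 ∨ a ∈ s.R2) ∧ (b ∈ s.R1 ∨ b ∈ s.R2)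

/-- Additive pairs. -/
def Ad (a b : A) : Prop :=
  IsConj s.z a ∧ IsConj s.z b ∧ IsConj s.z (a * b) ∧ ((a ∈ s.R1 ∧ b ∈ s.R1) ∨ (a ∈ s.R2 ∧ b ∈ s.R2))

variable {H : Type u} [Group H] (c : Co s.z H)

/-- The image of `R1`. -/
abbrev E1 : Subgroup H := s.R1.map c.ι
/-- The image of `R2`. -/
abbrev E2 : Subgroup H := s.R2.map c.ι

/-- The doubles of `R1` and `R2` and the lift of `z`. -/
structure St3 (W W' : Subgroup H) (ζ : H) : Prop where
  dw : DW c.t (s.E1 c) (s.E2 c) W W'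
  zeta : c.Zeta ζ
  mem1 : ∀ a ∈ s.R1, IsConj s.z a → c.Z ζ a ∈ W
  mem2 : ∀ a ∈ s.R2, IsConj s.z a → c.Z ζ a ∈ W'
  addE : ∃ θ : A → H, (∀ a ∈ s.E, IsConj s.z a → θ a = c.Z ζ a) ∧ (∀ a ∈ s.E, θ a ∈ W ⊓ W' ∧ ph c.t (θ a) = c.ι a) ∧
    ∀ a ∈ s.E, ∀ b ∈ s.E, θ (a * b) = θ a * θ b

/-- An equivariant section over `R1`. -/
structure St4 (W : Subgroup H) (ζ : H) (θ : H → H) : Prop where
  sec : Sec c.t (s.E1 c) W θ
  eqv : ∀ n ∈ s.N, ∀ e ∈ s.E1 c, c.ι n * θ e * (c.ι n)⁻¹ = θ (c.ι n * e * (c.ι n)⁻¹)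
  onZ : ∀ a ∈ s.R1, IsConj s.z a → θ (c.ι a) = c.Z ζ a

end HeF

end Cfsg.Agent.Wz
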