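import Mathlib
import Cfsg.Agent.Wz.HeD
import Cfsg.Agent.Wz.HeBD

/-! Basic facts on the Held group: the two elementary abelian subgroups of order 64 and their normalisers. -/

set_option autoImplicit false
set_option synthInstance.maxSize 100000
set_option synthInstance.maxHeartbeats 1000000
set_option linter.unusedSectionVars false

namespace Cfsg.Agent.Wz

open Cfsg.Agent.Loc.Mss Cfsg.Agent.Gold Cfsg.Agent.Wr Cfsg.Agent.Spor Cfsg.Agent.Rec Cfsg.Agent.Rec.L52 Subgroup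
open scoped commutatorElement

universe u

variable {A : Type} [Group A] [Finite A]

theorem heB_map_clos {xs : List A} {K : Subgroup A} (φ : MulAut A) (h : ∀ x ∈ xs, φ x ∈ K) :
    ∀ r ∈ clos xs, φ r ∈ K := fun _ hr => (clos_le (K := K.comap φ.toMonoidHom)).2 h hr

namespace HeF

variable (s : HeF A)

theorem flip_R1 : s.flip.R1 = s.R2 := rfl
theorem flip_R2 : s.flip.R2 = s.R1 := rfl
theorem flip_β : s.flip.β = s.β := s.toStH.flip_m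
theorem flip_PJ : s.flip.PJ = s.PJ := by
  change clos [s.x45, s.x34, s.x23, s.x12, s.v, s.y] = clos [s.x12, s.x23, s.x34, s.x45, s.y, s.v]
  exact le_antisymm (clos_le.2 fun x hx => mem_clos (by simp at hx ⊢; tauto))
    (clos_le.2 fun x hx => mem_clos (by simp at hx ⊢; tauto))
theorem flip_Q : s.flip.Q = s.Q := by
  change clos [s.x45, s.x35, s.x25, s.x14, s.x13, s.x12] = clos [s.x12, s.x13, s.x14, s.x25, s.x35, s.x45]
  exact le_antisymm (clos_le.2 fun x hx => mem_clos (by simp at hx ⊢; tauto))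
    (clos_le.2 fun x hx => mem_clos (by simp at hx ⊢; tauto))
theorem R_inf : s.R1 ⊓ s.R2 = s.E := by
  have h : ∀ x ∈ s.R1, x ∈ s.R2 → x ∈ s.E := s.toStH.lists.decide s.rep (by decide +kernel)
  exact le_antisymm (fun x hx => h x hx.1 hx.2) (le_inf s.E_le s.E_le')

theorem heB_α : s.α s.x13 = s.x35 ∧ s.α s.x14 = s.x25 ∧ s.α s.z = s.z ∧ s.α s.x23 = s.x34 ∧ s.α s.x24 = s.x24 ∧
    s.α s.x25 = s.x14 ∧ s.α s.x34 = s.x23 ∧ s.α s.x35 = s.x13 ∧ s.α s.x45 = s.x12 ∧ s.α s.x12 = s.x45 := by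
  have h := s.hα
  simp only [List.map_cons, List.cons.injEq] at h
  obtain ⟨h1, h2, h3, h4, h5, h6, h7, h8, h9, h10, -⟩ := h
  exact ⟨h1, h2, h3, h4, h5, h6, h7, h8, h9, h10⟩

theorem αz : s.α s.z = s.z := s.heB_α.2.2.1
theorem αR1 : ∀ r ∈ s.R1, s.α r ∈ s.R2 := by
  obtain ⟨h1, h2, h3, h4, h5, h6, -⟩ := s.heB_α
  refine heB_map_clos _ ?_
  simp only [List.forall_mem_cons, h1, h2, h3, h4, h5, h6]
  refine ⟨?_, ?_, ?_, ?_, ?_, ?_, by simp⟩ <;> exact mem_clos (by simp)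
theorem αT : ∀ r ∈ s.T, s.α r ∈ s.T := by
  obtain ⟨-, -, -, h4, -, -, h7, -, h9, h10⟩ := s.heB_α
  refine heB_map_clos _ ?_
  simp only [List.forall_mem_cons, h4, h7, h9, h10]
  refine ⟨?_, ?_, ?_, ?_, by simp⟩ <;> exact mem_clos (by simp)
theorem isConj_z (φ : MulAut A) {w : A} (h : IsConj s.z w) : IsConj s.z (φ w) := by
  refine IsConj.trans ?_ (φ.toMonoidHom.map_isConj h)
  obtain ⟨g, rfl | rfl⟩ := s.cases φ
  · exact isConj_iff.2 ⟨g, rfl⟩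
  · exact isConj_iff.2 ⟨g, by change _ = MulAut.conj g (s.α s.z); rw [s.αz]; rfl⟩
theorem perfH : ⁅s.H, s.H⁆ = s.H := by
  refine le_antisymm (commutator_le.2 fun a ha b hb => ?_) ?_
  · exact mul_mem (mul_mem (mul_mem ha hb) (inv_mem ha)) (inv_mem hb)
  have h : (s.x13 ∈ s.H ∧ s.x23 ∈ s.H ∧ s.x24 ∈ s.H ∧ s.x34 ∈ s.H ∧ s.x35 ∈ s.H ∧ s.x43 ∈ s.H ∧ s.x32 ∈ s.H ∧
      ⁅s.x43, s.x32⁆ ∈ s.H) ∧ s.x12 = ⁅s.x13, s.x32⁆ ∧ s.x23 = ⁅s.x24, s.x43⁆ ∧ s.x34 = ⁅s.x32, s.x24⁆ ∧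
      s.x45 = ⁅s.x43, s.x35⁆ ∧ s.x43 = ⁅⁅s.x43, s.x32⁆, s.x23⁆ ∧ s.x32 = ⁅s.x34, ⁅s.x43, s.x32⁆⁆ :=
    s.toStH.lists.decide s.rep (by decide +kernel)
  obtain ⟨⟨a1, a2, a3, a4, a5, a6, a7, a8⟩, b1, b2, b3, b4, b5, b6⟩ := h
  refine s.H_eq'.le.trans (clos_le.2 ?_)
  simp only [List.forall_mem_cons]
  exact ⟨b1 ▸ commutator_mem_commutator a1 a7, b2 ▸ commutator_mem_commutator a3 a6,
    b3 ▸ commutator_mem_commutator a7 a3, b4 ▸ commutator_mem_commutator a6 a5,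
    b5 ▸ commutator_mem_commutator a8 a2, b6 ▸ commutator_mem_commutator a4 a8, by simp⟩
/-- The only elementary abelian subgroups of order 64 of `T`. -/
theorem ea64 {R : Subgroup A} (hR : R ≤ s.T) (h2 : ∀ r ∈ R, r * r = 1) (hc : Nat.card R = 64) : R = s.R1 ∨ R = s.R2 := by
  have h1 := s.toStH.lists.all_count s.rep s.genT.1 s.genT.1 (fun x => x * x = 1 ∧ x ∉ s.R1 ∧ x ∉ s.R2)
    (fun x y => y * y = 1 ∧ x * y = y * x) 56 (by decide +kernel)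
  have h3 : ∀ x ∈ R, x ∈ s.R1 ∨ x ∈ s.R2 := fun x hx => by
    by_contra h4
    rw [not_or] at h4
    refine absurd ((card_le_ncard (F := R) fun y hy => ?_).trans (h1 x (hR hx) ⟨h2 x hx, h4⟩)) (by omega)
    refine ⟨hR hy, h2 y hy, ?_⟩
    have h5 := inv_eq_of_mul_eq_one_right (h2 _ (mul_mem hx hy))
    rw [mul_inv_rev, inv_eq_of_mul_eq_one_right (h2 x hx), inv_eq_of_mul_eq_one_right (h2 y hy)] at h5
    exact h5.symm
  by_cases h4 : R ≤ s.R1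
  · exact .inl (eq_of_le_of_card_ge h4 (hc.trans s.genR1.2.symm).ge)
  refine .inr (eq_of_le_of_card_ge (fun y hy => ?_) (hc.trans s.genR2.2.symm).ge)
  obtain ⟨x, hx, h5⟩ := SetLike.not_le_iff_exists.1 h4
  refine (h3 y hy).elim (fun h6 => ?_) id
  rcases h3 _ (mul_mem hx hy) with h7 | h7
  · exact absurd ((mul_mem_cancel_right h6).1 h7) h5
  · exact (mul_mem_cancel_left ((h3 x hx).resolve_left h5)).1 h7

theorem heB_cod : ∃ C : Cod A7 A, C.RepL HeB.cN7 s.toStG.eN ∧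
    C.ListsL [R7_t.dom, listDom HeB.cN7, HeB.Zn_t.dom, HeB.Bn_t.dom]
      [s.R1, {x | x ∈ s.toStG.eN}, cls s.toStG.eN s.z, cls s.toStG.eN (s.x14 * s.x25)] ∧
    (cls s.toStG.eN s.z).ncard = 45 := by
  obtain ⟨C, hC⟩ := s.toStG.codN
  have g1 := hC.orb (hC.nth 2) HeB.Zn_ok
  have g2 := hC.orb (hC.term (s.x14 * s.x25) (by decide +kernel)) HeB.Bn_ok
  exact ⟨C, hC, ((hC.take 6).gen (R7_ok true true)).1.cons <| hC.lists.cons <| g1.1.cons <|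
    g2.1.cons Cod.listsL_nil, g1.2⟩

theorem N_le : s.N ≤ 𝐍[s.R1] := by
  obtain ⟨C, hC, hL, -⟩ := s.heB_cod
  have h : ∀ x ∈ {x | x ∈ s.toStG.eN}, ∀ r ∈ s.R1, x * r * x⁻¹ ∈ s.R1 := hL.decide hC (by decide +kernel)
  exact clos_le.2 fun x hx => Inv.Fz.mem_normalizer_of_conj_mem (h x hx)
theorem T_le_PJ : s.T ≤ s.PJ := clos_le.2 fun x hx => mem_clos (by simp at hx ⊢; tauto)
theorem PJ_le : s.PJ ≤ s.N := clos_le.2 fun x hx => mem_clos (by simp at hx ⊢; tauto)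
theorem PJ_le' : s.PJ ≤ s.flip.N := s.flip_PJ ▸ s.flip.PJ_le
theorem odd_PJ : Odd (s.PJ.relIndex s.N) := by
  have h := (s.T_syl.mono (s.T_le_PJ.trans s.PJ_le) le_top).not_dvd_relIndex
  rw [← relIndex_mul_relIndex _ _ _ s.T_le_PJ s.PJ_le] at h
  exact Nat.not_even_iff_odd.1 fun h1 => h (Dvd.dvd.mul_left (even_iff_two_dvd.1 h1) _)
theorem cases_R1 : ∀ r ∈ s.R1, r = 1 ∨ (∃ n ∈ s.N, n * s.z * n⁻¹ = r) ∨ ∃ n ∈ s.N, n * s.β * n⁻¹ = r := by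
  obtain ⟨C, hC, hL, -⟩ := s.heB_cod
  have h : ∀ r ∈ s.R1, r = 1 ∨ r ∈ cls s.toStG.eN s.z ∨ r ∈ cls s.toStG.eN (s.x14 * s.x25) :=
    hL.decide hC (by decide +kernel)
  exact h
theorem transZ : ∀ r ∈ s.R1, IsConj s.z r → ∃ n ∈ s.N, n * s.z * n⁻¹ = r := by
  intro r hr h
  rcases s.cases_R1 r hr with rfl | h1 | ⟨n, -, rfl⟩
  · exact absurd (isConj_one_left.1 h) s.z_ne
  · exact h1
  · exact absurd (isConj_conj_iff.1 h) s.z_ne_m
theorem cardZ : {r | r ∈ s.R1 ∧ IsConj s.z r}.ncard = 45 := by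
  obtain ⟨C, hC, hL, h⟩ := s.heB_cod
  rw [← h]
  congr 1
  ext r
  refine ⟨fun hr => s.transZ r hr.1 hr.2, ?_⟩
  rintro ⟨n, hn, rfl⟩
  exact ⟨conj_mem_of_mem_norm (s.N_le hn) s.mem_R1.2.2.1, isConj_iff.2 ⟨n, rfl⟩⟩
theorem norm_eq : 𝐍[s.R1] = s.N := by
  refine le_antisymm (fun n hn => ?_) s.N_le
  obtain ⟨m, hm, e⟩ := s.transZ _ (conj_mem_of_mem_norm hn s.mem_R1.2.2.1) (isConj_iff.2 ⟨n, rfl⟩)
  have h1 : m⁻¹ * n ∈ s.H := s.mem_H'.2 (by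
    rw [show m⁻¹ * n * s.z * (m⁻¹ * n)⁻¹ = m⁻¹ * (n * s.z * n⁻¹) * m by group, ← e]; group)
  have h2 : m⁻¹ * n ∈ 𝐍[s.R1] := mul_mem (inv_mem (s.N_le hm)) hn
  have h3 : (s.x25 ∈ s.cB ∧ s.x12 ∈ s.H ∧ s.x12 * (s.x25 * s.z) * s.x12⁻¹ = s.x25) ∧
      ∀ b ∈ s.cB, b ∈ s.R1 → b = s.x25 ∨ b = s.x25 * s.z := s.toStH.lists.decide s.rep (by decide +kernel)
  have hD : s.D1 ≤ s.N := clos_le.2 fun x hx => mem_clos (by simp at hx ⊢; tauto)
  have h12 : s.x12 ∈ s.N := mem_clos (by simp)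
  refine (mul_mem_cancel_left (inv_mem hm)).1 ?_
  generalize m⁻¹ * n = k at h1 h2
  rcases h3.2 _ (s.conj_mem_cl h1 h3.1.1) (conj_mem_of_mem_norm h2 s.mem_R1.2.2.2.2.2) with h | h
  · exact hD ((s.mem_D1 k h1).1 (mul_inv_eq_iff_eq_mul.1 h))
  · refine (mul_mem_cancel_left h12).1 (hD ((s.mem_D1 _ (mul_mem h3.1.2.1 h1)).1 (mul_inv_eq_iff_eq_mul.1 ?_)))
    rw [show s.x12 * k * s.x25 * (s.x12 * k)⁻¹ = s.x12 * (k * s.x25 * k⁻¹) * s.x12⁻¹ by group, h, h3.1.2.2]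
theorem autR1 (φ : MulAut A) (h : ∀ r ∈ s.R1, φ r ∈ s.R1) : ∃ n ∈ s.N, φ = MulAut.conj n := by
  obtain ⟨g, rfl | rfl⟩ := s.cases φ
  · exact ⟨g, s.norm_eq ▸ Inv.Fz.mem_normalizer_of_conj_mem h, rfl⟩
  · refine absurd (eq_of_le_of_card_ge (fun r hr => ?_) ?_).symm (s.cj_R1_ne g⁻¹)
    · have h1 := h _ (s.flip.αR1 r hr)
      change MulAut.conj g ((s.α * s.α) r) ∈ _ at h1
      rw [s.αα] at h1
      exact Inv.Fz.mem_cj.2 (by simpa using h1)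
    · rw [Inv.Fz.card_cj, s.genR1.2, s.genR2.2]
theorem cenR1 (φ : MulAut A) (h : ∀ r ∈ s.R1, φ r = r) : ∃ a ∈ s.R1, φ = MulAut.conj a := by
  obtain ⟨n, -, rfl⟩ := s.autR1 φ fun r hr => (h r hr).symm ▸ hr
  exact ⟨n, s.cent_R1 n fun x hx => mul_inv_eq_iff_eq_mul.1 (h x hx), rfl⟩
theorem rho : ∀ n ∈ s.N, ∃ r ∈ s.R1, n * s.y * n⁻¹ = s.y * r ∨ n * s.y * n⁻¹ = s.y⁻¹ * r := by
  obtain ⟨C, hC, hL, -⟩ := s.heB_cod
  have h : ∀ x ∈ {x | x ∈ s.toStG.eN}, x⁻¹ ∈ {x | x ∈ s.toStG.eN} ∧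
      (s.y⁻¹ * (x * s.y * x⁻¹) ∈ s.R1 ∨ s.y * (x * s.y * x⁻¹) ∈ s.R1) := hL.decide hC (by decide +kernel)
  have hy : s.y ∈ 𝐍[s.R1] := s.N_le (mem_clos (by simp))
  have key : ∀ x ∈ s.toStG.eN, ∀ g, s.y⁻¹ * g ∈ s.R1 ∨ s.y * g ∈ s.R1 →
      s.y⁻¹ * (x * g * x⁻¹) ∈ s.R1 ∨ s.y * (x * g * x⁻¹) ∈ s.R1 := by
    intro x hx g hg
    have hn := s.N_le (mem_clos hx)
    rcases hg with hg | hg <;> rcases (h x hx).2 with h1 | h1
    · left
      convert mul_mem h1 (conj_mem_of_mem_norm hn hg) using 1; group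
    · right
      convert mul_mem h1 (conj_mem_of_mem_norm hn hg) using 1; group
    · right
      convert mul_mem (conj_mem_of_mem_norm hy (inv_mem h1)) (conj_mem_of_mem_norm hn hg) using 1; group
    · left
      convert mul_mem (conj_mem_of_mem_norm (inv_mem hy) (inv_mem h1)) (conj_mem_of_mem_norm hn hg) using 1; group
  have main : ∀ n ∈ s.N, s.y⁻¹ * (n * s.y * n⁻¹) ∈ s.R1 ∨ s.y * (n * s.y * n⁻¹) ∈ s.R1 := by
    intro n hn
    induction hn using closure_induction_left with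
    | one => left; simp
    | mul_left x hx n _ ih => convert key x hx _ ih using 3 <;> group
    | inv_mul_cancel x hx n _ ih => convert key _ (h x hx).1 _ ih using 3 <;> group
  intro n hn
  rcases main n hn with h1 | h1
  · exact ⟨_, h1, .inl (by group)⟩
  · exact ⟨_, h1, .inr (by group)⟩
theorem fixz : ∀ w ∈ s.R1, (∀ n ∈ s.N, n * s.z = s.z * n → n * w = w * n) → w = 1 ∨ w = s.z :=
  fun w hw h => s.center_T w (s.R1_le hw) fun t ht =>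
    (h t (s.PJ_le (s.T_le_PJ ht)) (s.mem_H.1 (s.T_le ht))).symm
theorem fixβ : ∀ w ∈ s.R1, (∀ n ∈ s.N, n * s.β = s.β * n → n * w = w * n) → w = 1 ∨ w = s.β := by
  obtain ⟨C, hC, hL, -⟩ := s.heB_cod
  have h : Let (s.x43 * s.v * s.x34 * s.x43) fun a => Let (s.x12 * s.x45) fun b => Let (s.x14 * s.x25) fun m =>
      a * m = m * a ∧ b * m = m * b ∧ ∀ w ∈ s.R1, a * w = w * a → b * w = w * b → w = 1 ∨ w = m :=
    hL.decide hC (by decide +kernel)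
  have m1 : s.x43 ∈ s.N := mem_clos (by simp)
  intro w hw H
  exact h.2.2 w hw (H _ (mul_mem (mul_mem (mul_mem m1 (mem_clos (by simp))) (mem_clos (by simp))) m1) h.1)
    (H _ (mul_mem (mem_clos (by simp)) (mem_clos (by simp))) h.2.1)

theorem heB_cenE {g : A} (h : ∀ r ∈ s.E, g * r = r * g) : g ∈ s.R1 ⊔ s.R2 := by
  have hL := ((s.rep.pick [0, 3, 6, 7]).gen J_ok).1.cons s.toStH.lists
  change s.C.ListsL _ ((clos [s.x13, s.x23, s.x34, s.x35] : Set A) :: _) at hL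
  have hJ : clos [s.x13, s.x23, s.x34, s.x35] ≤ s.R1 ⊔ s.R2 := clos_le.2 (by
    simp only [List.forall_mem_cons]
    exact ⟨mem_sup_left (mem_clos (by simp)), mem_sup_left (mem_clos (by simp)),
      mem_sup_right (mem_clos (by simp)), mem_sup_right (mem_clos (by simp)), by simp⟩)
  generalize clos [s.x13, s.x23, s.x34, s.x35] = J at hL hJ
  have h1 : ∀ g ∈ s.H, g * s.x14 = s.x14 * g → g * s.x24 = s.x24 * g → g * s.x25 = s.x25 * g → g ∈ J :=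
    hL.decide s.rep (by decide +kernel)
  exact hJ (h1 g (s.mem_H.2 (h _ (mem_clos (by simp)))) (h _ (mem_clos (by simp))) (h _ (mem_clos (by simp)))
    (h _ (mem_clos (by simp))))

theorem heB_mapE (φ : MulAut A) (h : ∀ r ∈ s.E, φ r = r) :
    s.R1.map φ.toMonoidHom = s.R1 ∨ s.R1.map φ.toMonoidHom = s.R2 := by
  refine s.ea64 ?_ ?_ ((card_map_of_injective φ.injective).trans s.genR1.2)
  · rintro _ ⟨r, hr, rfl⟩
    refine sup_le s.R1_le s.R2_le (s.heB_cenE fun x hx => ?_)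
    rw [← h x hx]
    change φ r * φ x = φ x * φ r
    rw [← map_mul, ← map_mul, s.R1_comm r hr x (s.E_le hx)]
  · rintro _ ⟨r, hr, rfl⟩
    rw [← map_mul, s.R1_sq r hr, map_one]

theorem cenE (φ : MulAut A) (h : ∀ r ∈ s.E, φ r = r) : (∃ j ∈ s.R1 ⊔ s.R2, φ = MulAut.conj j) ∨
    ((∀ r ∈ s.R1, φ r ∈ s.R2) ∧ ∀ r ∈ s.R2, φ r ∈ s.R1) := by
  rcases s.heB_mapE φ h with h1 | h1
  · obtain ⟨n, -, rfl⟩ := s.autR1 φ fun r hr => h1 ▸ mem_map_of_mem φ.toMonoidHom hr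
    exact .inl ⟨n, s.heB_cenE fun x hx => mul_inv_eq_iff_eq_mul.1 (h x hx), rfl⟩
  · rcases s.flip.heB_mapE φ (fun r hr => h r (s.toStH.flip_E ▸ hr)) with h2 | h2
    · have h3 : s.R1 = s.R2 := map_injective (f := φ.toMonoidHom) φ.injective (h1.trans h2.symm)
      exact absurd ((Inv.Fz.cj_one _).trans h3) (s.cj_R1_ne 1)
    · exact .inr ⟨fun r hr => h1 ▸ mem_map_of_mem φ.toMonoidHom hr,
        fun r hr => (show s.R2.map φ.toMonoidHom = s.R1 from h2) ▸ mem_map_of_mem φ.toMonoidHom hr⟩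

theorem heB_zQ : s.z ∈ s.Q := by
  have h : s.z = s.x13 * s.x35 * s.x13 * s.x35 := s.toStH.lists.decide s.rep (by decide +kernel)
  have m1 : s.x13 ∈ s.Q := mem_clos (by simp)
  have m2 : s.x35 ∈ s.Q := mem_clos (by simp)
  exact h ▸ mul_mem (mul_mem (mul_mem m1 m2) m1) m2

theorem heB_cenQ {g : A} (h : ∀ r ∈ s.Q, g * r = r * g) : g = 1 ∨ g = s.z := by
  have h1 : ∀ g ∈ s.H, g * s.x12 = s.x12 * g → g * s.x13 = s.x13 * g → g * s.x14 = s.x14 * g →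
      g * s.x25 = s.x25 * g → g * s.x35 = s.x35 * g → g * s.x45 = s.x45 * g → g = 1 ∨ g = s.z :=
    s.toStH.lists.decide s.rep (by decide +kernel)
  exact h1 g (s.mem_H.2 (h _ s.heB_zQ)) (h _ (mem_clos (by simp))) (h _ (mem_clos (by simp)))
    (h _ (mem_clos (by simp))) (h _ (mem_clos (by simp))) (h _ (mem_clos (by simp))) (h _ (mem_clos (by simp)))

theorem Q_le : s.Q ≤ s.T := by
  have h : s.x12 ∈ s.T ∧ s.x13 ∈ s.T ∧ s.x14 ∈ s.T ∧ s.x25 ∈ s.T ∧ s.x35 ∈ s.T ∧ s.x45 ∈ s.T :=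
    s.toStH.lists.decide s.rep (by decide +kernel)
  exact clos_le.2 (by simpa only [List.forall_mem_cons, List.not_mem_nil, false_imp_iff, implies_true, and_true])
theorem H_norm_Q : s.H ≤ 𝐍[s.Q] := by
  have r1 : s.C.RepL _ [s.x12, s.x23, s.x34, s.x45, s.x43, s.x32] := s.rep.pick [9, 3, 6, 8, 10, 11]
  have r2 : s.C.RepL _ [s.x12, s.x13, s.x14, s.x25, s.x35, s.x45] := s.rep.pick [9, 0, 1, 5, 7, 8]
  have r3 : s.C.RepL _ [1, s.z, s.x12, s.x13, s.x14, s.x25, s.x35, s.x45] := s.rep.pick [12, 2, 9, 0, 1, 5, 7, 8]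
  have h : ∀ x ∈ {x | x ∈ [s.x12, s.x23, s.x34, s.x45, s.x43, s.x32]},
      ∀ q ∈ {x | x ∈ [s.x12, s.x13, s.x14, s.x25, s.x35, s.x45]},
      ∃ a ∈ {x | x ∈ [1, s.z, s.x12, s.x13, s.x14, s.x25, s.x35, s.x45]}, x * q * x⁻¹ = q * a :=
    (r1.lists.cons (r2.lists.cons (r3.lists.cons Cod.listsL_nil))).decide s.rep (by decide +kernel)
  refine s.H_eq'.le.trans (clos_le.2 fun x hx => Inv.Fz.mem_normalizer_of_conj_mem (conj_clos_mem fun q hq => ?_))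
  obtain ⟨a, ha, e⟩ := h x hx q hq
  rw [e]
  refine mul_mem (mem_clos hq) ?_
  rcases List.mem_cons.1 ha with rfl | ha
  · exact one_mem _
  rcases List.mem_cons.1 ha with rfl | ha
  · exact s.heB_zQ
  · exact mem_clos ha
theorem cenQ (φ : MulAut A) (h : ∀ r ∈ s.Q, φ r = r) : φ ∈ zpowers (MulAut.conj s.z : MulAut A) := by
  have h1 : ∀ a ∈ s.H, ∃ c, φ a = a * c ∧ ∀ b ∈ s.H, Commute b c := fun a ha => by
    refine ⟨a⁻¹ * φ a, by group, fun b hb => ?_⟩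
    rcases s.heB_cenQ (g := a⁻¹ * φ a) (fun q hq => by
      have e := h _ (conj_mem_of_mem_norm (s.H_norm_Q ha) hq)
      rw [map_mul, map_mul, map_inv, h q hq] at e
      calc _ = a⁻¹ * (φ a * q * (φ a)⁻¹) * φ a := by group
        _ = _ := by rw [e]; group) with e | e <;> rw [e]
    exacts [Commute.one_right b, s.mem_H.1 hb]
  have h2 : s.H ≤ φ.toMonoidHom.eqLocus (MonoidHom.id A) := by
    refine s.perfH.ge.trans (commutator_le.2 fun a ha b hb => ?_)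
    obtain ⟨c, e1, c1⟩ := h1 a ha
    obtain ⟨d, e2, c2⟩ := h1 b hb
    have hc : c ∈ s.H := s.mem_H.2 (c1 _ (s.mem_H.2 rfl)).symm
    change φ ⁅a, b⁆ = ⁅a, b⁆
    simp only [commutatorElement_def, map_mul, map_inv, e1, e2, mul_inv_rev]
    calc _ = a * (c * (b * d) * c⁻¹) * (a⁻¹ * d⁻¹) * b⁻¹ := by group
      _ = a * (b * d) * (d⁻¹ * a⁻¹) * b⁻¹ := by
          rw [((c1 b hb).symm.mul_right (c2 c hc)).mul_inv_cancel, (c2 a ha).inv_inv.eq]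
      _ = _ := by group
  obtain ⟨a, -, rfl⟩ := s.cenR1 φ fun r hr => h2 (s.T_le (s.R1_le hr))
  rcases s.heB_cenQ (g := a) (fun q hq => mul_inv_eq_iff_eq_mul.1 (h q hq)) with rfl | rfl
  · rw [map_one]; exact one_mem _
  · exact mem_zpowers _

end HeF

end Cfsg.Agent.Wz
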