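import Mathlib
import Cfsg.Agent.Wz.HeB

/-! The Held group: endomorphism rings, a bilinear map and a word. -/

set_option autoImplicit false
set_option synthInstance.maxSize 100000
set_option synthInstance.maxHeartbeats 1000000

namespace Cfsg.Agent.Wz

open Cfsg.Agent.Loc.Mss Cfsg.Agent.Gold Cfsg.Agent.Wr Cfsg.Agent.Spor Cfsg.Agent.Rec Cfsg.Agent.Rec.L52 Subgroup

universe u

variable {A : Type} [Group A] [Finite A]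

namespace HeC

variable (s : HeF A)

omit [Finite A] in
theorem ext6 {P : A → Prop} (hm : ∀ a b, P a → P b → P (a * b)) (a1 : P s.x13) (a2 : P s.x14) (a3 : P s.z)
    (a4 : P s.x23) (a5 : P s.x24) (a6 : P s.x25) : ∀ r ∈ s.R1, P r := by
  intro r hr
  induction hr using closure_induction with
  | mem x hx =>
    simp only [Set.mem_ofPred_eq, List.mem_cons, List.not_mem_nil, or_false] at hx
    rcases hx with rfl | rfl | rfl | rfl | rfl | rfl <;> assumption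
  | one => exact s.z_sq ▸ hm _ _ a3 a3
  | mul a b _ _ iha ihb => exact hm a b iha ihb
  | inv a ha iha => rwa [inv_eq_of_mul_eq_one_right (s.R1_sq a ha)]

theorem cod : ∃ C : Cod A7 A, C.RepL (kN true true ++ A7.one :: (cK true true).drop 10) s.toStG.eN ∧
    C.ListsL [R7_t.dom] [s.R1] := by
  obtain ⟨C, hC⟩ := s.toStG.codN
  exact ⟨C, hC, ((hC.take 6).gen (R7_ok true true)).1.cons Cod.listsL_nil⟩

omit [Finite A] in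
theorem memN : s.x34 ∈ s.N ∧ s.x35 ∈ s.N ∧ s.x45 ∈ s.N ∧ s.x43 ∈ s.N ∧ s.y ∈ s.N ∧ s.v ∈ s.N :=
  ⟨mem_clos (by simp), mem_clos (by simp), mem_clos (by simp), mem_clos (by simp), mem_clos (by simp),
    mem_clos (by simp)⟩

omit [Finite A] in
theorem memP : s.x12 ∈ s.PJ ∧ s.x34 ∈ s.PJ ∧ s.y ∈ s.PJ ∧ s.v ∈ s.PJ :=
  ⟨mem_clos (by simp), mem_clos (by simp), mem_clos (by simp), mem_clos (by simp)⟩

omit [Finite A] in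
theorem map_one' {R : Subgroup A} {ε : A → A} (h2 : ∀ a ∈ R, ∀ b ∈ R, ε (a * b) = ε a * ε b) : ε 1 = 1 := by
  have := h2 1 (one_mem _) 1 (one_mem _)
  rwa [mul_one, left_eq_mul] at this

theorem factsA : Let (s.x34 * s.y * s.v) fun k => Let (s.x43 * s.x34 * s.v⁻¹ * s.x43) fun l =>
    Let (s.x13 * s.x14 * s.z) fun r => Let k⁻¹ fun ki => Let l⁻¹ fun li =>
    (k * (s.x14 * s.x25) = s.x14 * s.x25 * k ∧ l * (s.x14 * s.x25) = s.x14 * s.x25 * l ∧ orderOf k = 3 ∧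
      orderOf l = 3 ∧ r ∈ s.R1 ∧ r ≠ 1 ∧ r * (k * r * ki) * (k * (k * r * ki) * ki) = 1 ∧
      r * (l * r * li) * (l * (l * r * li) * li) = 1) ∧
    (∀ a ∈ s.R1, a * (k * a * ki) * (k * (k * a * ki) * ki) = 1 → a * (l * a * li) * (l * (l * a * li) * li) = 1 →
      a = 1 ∨ a = r ∨ a = s.y * r * s.y⁻¹ ∨ a = s.y⁻¹ * r * s.y) ∧
    (∀ a ∈ s.R1, k * a * ki ∈ s.R1 ∧ l * a * li ∈ s.R1 ∧
      s.y * (k * a * ki) * s.y⁻¹ = k * (s.y * a * s.y⁻¹) * ki ∧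
      s.y * (l * a * li) * s.y⁻¹ = l * (s.y * a * s.y⁻¹) * li ∧
      s.y⁻¹ * (k * a * ki) * s.y = k * (s.y⁻¹ * a * s.y) * ki ∧
      s.y⁻¹ * (l * a * li) * s.y = l * (s.y⁻¹ * a * s.y) * li) ∧
    Let (k * r * ki) fun g1 => Let (l * r * li) fun g2 => Let (l * g1 * li) fun g3 => Let (k * g2 * ki) fun g4 =>
      Let (k * g3 * ki) fun g5 => s.x13 = r * g2 * g5 ∧ s.x14 = r * g5 ∧ s.z = r * g2 ∧ s.x23 = g2 * g4 * g5 ∧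
        s.x24 = g1 * g4 ∧ s.x25 = g1 * g2 * g3 := by
  obtain ⟨C, hC, hL⟩ := cod s
  exact hL.decide hC (by decide +kernel)

theorem factsP : Let (s.x13 * s.x25) fun r => Let (s.v * s.x12) fun n =>
    (r ∈ s.R1 ∧ n * r * n⁻¹ = r ∧ ∀ a ∈ s.R1, n * a * n⁻¹ = a → a = 1 ∨ a = r) ∧
    Let (s.y * r * s.y⁻¹) fun g1 => Let (s.x34 * r * s.x34⁻¹) fun g2 => Let (s.x12 * r * s.x12⁻¹) fun g3 =>
      Let (s.x34 * g1 * s.x34⁻¹) fun g4 => Let (s.x12 * g1 * s.x12⁻¹) fun g5 =>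
        s.x13 = r * g1 * g3 * g5 ∧ s.x14 = r * g2 ∧ s.z = r * g3 ∧ s.x23 = r * g5 ∧ s.x24 = g1 * g4 ∧
        s.x25 = g1 * g3 * g5 := by
  obtain ⟨C, hC, hL⟩ := cod s
  exact hL.decide hC (by decide +kernel)

omit [Finite A] in
theorem memE : ∀ w ∈ s.R1, w * s.x34 = s.x34 * w → w * s.x35 = s.x35 * w → w ∈ s.E :=
  s.toStH.lists.decide s.rep (by decide +kernel)

theorem factsB : (∀ a ∈ s.R1, a ∈ s.E ∨ s.x13 * a ∈ s.E ∨ s.y * s.x13 * s.y⁻¹ * a ∈ s.E ∨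
    s.y⁻¹ * s.x13 * s.y⁻¹⁻¹ * a ∈ s.E) ∧ ∀ a ∈ s.R1, s.v * a * s.v⁻¹ * a ∈ s.E ∧ s.v⁻¹ * a * s.v⁻¹⁻¹ * a ∈ s.E := by
  obtain ⟨C, hC, hL⟩ := cod s
  have h : (∀ a ∈ s.R1, (a * s.x34 = s.x34 * a ∧ a * s.x35 = s.x35 * a) ∨
      (Let (s.x13 * a) fun w => w ∈ s.R1 ∧ w * s.x34 = s.x34 * w ∧ w * s.x35 = s.x35 * w) ∨
      (Let (s.y * s.x13 * s.y⁻¹ * a) fun w => w ∈ s.R1 ∧ w * s.x34 = s.x34 * w ∧ w * s.x35 = s.x35 * w) ∨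
      (Let (s.y⁻¹ * s.x13 * s.y * a) fun w => w ∈ s.R1 ∧ w * s.x34 = s.x34 * w ∧ w * s.x35 = s.x35 * w)) ∧
      ∀ a ∈ s.R1, (Let (s.v * a * s.v⁻¹ * a) fun w => w ∈ s.R1 ∧ w * s.x34 = s.x34 * w ∧ w * s.x35 = s.x35 * w) ∧
      (Let (s.v⁻¹ * a * s.v * a) fun w => w ∈ s.R1 ∧ w * s.x34 = s.x34 * w ∧ w * s.x35 = s.x35 * w) :=
    hL.decide hC (by decide +kernel)
  simp only [let_iff] at h
  simp only [inv_inv]
  have k : ∀ {w}, w ∈ s.R1 ∧ w * s.x34 = s.x34 * w ∧ w * s.x35 = s.x35 * w → w ∈ s.E :=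
    fun h => memE s _ h.1 h.2.1 h.2.2
  exact ⟨fun a ha => (h.1 a ha).imp (fun h => k ⟨ha, h⟩) (Or.imp k (Or.imp k k)),
    fun a ha => ⟨k (h.2 a ha).1, k (h.2 a ha).2⟩⟩

theorem red : ∀ a ∈ s.R1, a ∈ s.E ∨ ∃ n ∈ s.PJ, n * s.x13 * n⁻¹ * a ∈ s.E ∧ ∀ b ∈ s.R2, n * b * n⁻¹ * b ∈ s.E := by
  have h := (factsB s.flip).2
  have e : s.flip.E = s.E := s.toStH.flip_E
  rw [s.flip_R1, e] at h
  have hy := (memP s).2.2.1
  intro a ha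
  rcases (factsB s).1 a ha with h1 | h1 | h1 | h1
  · exact .inl h1
  · refine .inr ⟨1, one_mem _, by simpa using h1, fun b hb => ?_⟩
    have h2 : b * b = 1 := s.flip.R1_sq b (s.flip_R1 ▸ hb)
    simp [h2]
  · exact .inr ⟨_, hy, h1, fun b hb => (h b hb).1⟩
  · exact .inr ⟨_, inv_mem hy, h1, fun b hb => (h b hb).2⟩

theorem red' : ∀ b ∈ s.R2, b ∈ s.E ∨ ∃ n ∈ s.PJ, n * s.x35 * n⁻¹ * b ∈ s.E ∧ ∀ a ∈ s.R1, n * a * n⁻¹ * a ∈ s.E := by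
  have h := red s.flip
  have e : s.flip.E = s.E := s.toStH.flip_E
  rwa [s.flip_R1, s.flip_R2, s.flip_PJ, e] at h

/-- The properties that determine a map `R1 × R2 → A` by one value. -/
structure Bi (γ : A → A → A) : Prop where
  k1 : ∀ e ∈ s.E, ∀ a ∈ s.R1, ∀ b ∈ s.R2, γ (e * a) b = γ a b
  k2 : ∀ e ∈ s.E, ∀ a ∈ s.R1, ∀ b ∈ s.R2, γ a (e * b) = γ a b
  h3 : ∀ a ∈ s.E, ∀ b ∈ s.R2, γ a b = 1
  h4 : ∀ a ∈ s.R1, ∀ b ∈ s.E, γ a b = 1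
  h5 : ∀ n ∈ s.PJ, ∀ a ∈ s.R1, ∀ b ∈ s.R2, γ (n * a * n⁻¹) (n * b * n⁻¹) = n * γ a b * n⁻¹

variable {s}

omit [Finite A] in
theorem Bi.left {γ : A → A → A} (h : Bi s γ) {a a' b : A} (ha : a ∈ s.R1) (hb : b ∈ s.R2) (he : a' * a ∈ s.E) :
    γ a' b = γ a b := by
  rw [← h.k1 _ he a ha b hb, mul_assoc, s.R1_sq a ha, mul_one]

theorem Bi.right {γ : A → A → A} (h : Bi s γ) {a b b' : A} (ha : a ∈ s.R1) (hb : b ∈ s.R2) (he : b' * b ∈ s.E) :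
    γ a b' = γ a b := by
  rw [← h.k2 _ he a ha b hb, mul_assoc, s.flip.R1_sq b (s.flip_R1 ▸ hb), mul_one]

theorem Bi.uniq {γ δ : A → A → A} (h : Bi s γ) (h' : Bi s δ) (e : γ s.x13 s.x35 = δ s.x13 s.x35) :
    ∀ a ∈ s.R1, ∀ b ∈ s.R2, γ a b = δ a b := by
  intro a ha b hb
  have m1 : s.x13 ∈ s.R1 := s.mem_R1.1
  have m2 : s.x35 ∈ s.R2 := mem_clos (by simp)
  have nR2 : ∀ n ∈ s.PJ, ∀ b ∈ s.R2, n * b * n⁻¹ ∈ s.R2 := fun n hn b =>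
    conj_mem_of_mem_norm (s.flip_R1 ▸ s.flip.N_le (s.PJ_le' hn))
  rcases red s a ha with h1 | ⟨n, hn, h1, h2⟩
  · rw [h.h3 a h1 b hb, h'.h3 a h1 b hb]
  rcases red' s b hb with h3 | ⟨m, hm, h3, h4⟩
  · rw [h.h4 a ha b h3, h'.h4 a ha b h3]
  have k : ∀ {γ : A → A → A}, Bi s γ → γ a b = n * (m * γ s.x13 s.x35 * m⁻¹) * n⁻¹ := fun h => by
    rw [← h.h5 m hm _ m1 _ m2, h.left m1 (nR2 m hm _ m2) (h4 _ m1), h.right m1 hb h3, ← h.h5 n hn _ m1 _ hb,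
      h.left ha (nR2 n hn _ hb) h1, h.right ha hb (h2 b hb)]
  rw [k h, k h', e]

variable (s)

omit [Finite A] in
theorem bi_comm : Bi s fun a b => a * b * a * b := by
  have f : (∀ e ∈ s.E, e * e = 1 ∧ (∀ a ∈ s.R1, e * a = a * e) ∧ ∀ b ∈ s.R2, e * b = b * e) ∧
      (∀ a ∈ s.E, ∀ b ∈ s.R2, a * b * a * b = 1) ∧ ∀ a ∈ s.R1, ∀ b ∈ s.E, a * b * a * b = 1 :=
    s.toStH.lists.decide s.rep (by decide +kernel)
  refine ⟨fun e he a ha b hb => ?_, fun e he a ha b hb => ?_, f.2.1, f.2.2, fun n _ a _ b _ => by group⟩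
  · obtain ⟨h1, h2, h3⟩ := f.1 e he
    calc e * a * b * (e * a) * b = (e * a * b) * e * (a * b) := by group
      _ = a * b * (e * e) * (a * b) := by rw [h2 a ha, mul_assoc a e b, h3 b hb]; group
      _ = _ := by rw [h1]; group
  · obtain ⟨h1, h2, h3⟩ := f.1 e he
    calc a * (e * b) * a * (e * b) = a * (e * b) * (a * e) * b := by group
      _ = a * b * (e * e) * a * b := by rw [← h2 a ha, h3 b hb]; group
      _ = _ := by rw [h1]; group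

theorem phi4_inv {x : A} (u w : A) : phi4 x (u, w) =
    (u * (x * w * x⁻¹ * w), w * (x * u * x⁻¹ * u) * (x * w * x⁻¹ * w)) := rfl

theorem factsW : Let (s.x34 * s.x45 * s.x43 * s.v * s.x43 * (s.x34 * s.x35) * (s.x34 * s.x45 * s.x43 * s.v * s.x43)⁻¹)
    fun a => Let (s.x34 * s.x35 * s.x43 * s.v * s.x43 * s.x34 * (s.x34 * s.x35 * s.x43 * s.v * s.x43)⁻¹) fun b =>
    Let (1 * s.x34 * 1⁻¹) fun c => Let (s.x43 * s.x34 * s.x43⁻¹) fun d =>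
    Let (s.v * s.x43 * s.x35 * (s.v * s.x43)⁻¹) fun e =>
    Let a⁻¹ fun ai => Let b⁻¹ fun bi => Let c⁻¹ fun ci => Let d⁻¹ fun di => Let e⁻¹ fun ei =>
    (∀ p ∈ s.R1,
      Let (1 * (e * p * ei * p)) fun u1 =>
      Let (p * (e * 1 * ei * 1) * (e * p * ei * p)) fun w1 =>
      Let (u1 * (d * w1 * di * w1)) fun u2 =>
      Let (w1 * (d * u1 * di * u1) * (d * w1 * di * w1)) fun w2 =>
      Let (u2 * (c * w2 * ci * w2)) fun u3 =>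
      Let (w2 * (c * u2 * ci * u2) * (c * w2 * ci * w2)) fun w3 =>
      Let (u3 * (b * w3 * bi * w3)) fun u4 =>
      Let (w3 * (b * u3 * bi * u3) * (b * w3 * bi * w3)) fun w4 =>
      Let (u4 * (a * w4 * ai * w4)) fun u5 =>
      Let (w4 * (a * u4 * ai * u4) * (a * w4 * ai * w4)) fun w5 =>
      Let (p * (e * 1 * ei * 1)) fun u1' =>
      Let (1 * (e * p * ei * p) * (e * 1 * ei * 1)) fun w1' =>
      Let (u1' * (d * w1' * di * w1')) fun u2' =>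
      Let (w1' * (d * u1' * di * u1') * (d * w1' * di * w1')) fun w2' =>
      Let (u2' * (c * w2' * ci * w2')) fun u3' =>
      Let (w2' * (c * u2' * ci * u2') * (c * w2' * ci * w2')) fun w3' =>
      Let (u3' * (b * w3' * bi * w3')) fun u4' =>
      Let (w3' * (b * u3' * bi * u3') * (b * w3' * bi * w3')) fun w4' =>
      Let (u4' * (a * w4' * ai * w4')) fun u5' =>
      Let (w4' * (a * u4' * ai * u4') * (a * w4' * ai * w4')) fun w5' =>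
      u5 = w5' ∧ w5 = u5') ∧
    Let (s.x14 * s.z * s.x23) fun p =>
      Let (p * (e * p * ei * p)) fun u1 =>
      Let (p * (e * p * ei * p) * (e * p * ei * p)) fun w1 =>
      Let (u1 * (d * w1 * di * w1)) fun u2 =>
      Let (w1 * (d * u1 * di * u1) * (d * w1 * di * w1)) fun w2 =>
      Let (u2 * (c * w2 * ci * w2)) fun u3 =>
      Let (w2 * (c * u2 * ci * u2) * (c * w2 * ci * w2)) fun w3 =>
      Let (u3 * (b * w3 * bi * w3)) fun u4 =>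
      Let (w3 * (b * u3 * bi * u3) * (b * w3 * bi * w3)) fun w4 =>
      Let (u4 * (a * w4 * ai * w4)) fun u5 =>
      Let (w4 * (a * u4 * ai * u4) * (a * w4 * ai * w4)) fun w5 =>
      u5 = s.x13 * s.z * s.x23 := by
  obtain ⟨C, hC, hL⟩ := cod s
  exact hL.decide hC (by decide +kernel)

end HeC

namespace HeF

open HeC

variable (s : HeF A)

/-- Endomorphisms of `R1` commuting with the alternating group of degree five fixing `β`. -/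
theorem endA5 (ε : A → A) (h1 : ∀ r ∈ s.R1, ε r ∈ s.R1) (h2 : ∀ a ∈ s.R1, ∀ b ∈ s.R1, ε (a * b) = ε a * ε b)
    (h3 : ∀ r ∈ s.R1, ε (ε r) = ε r * r)
    (h4 : ∀ n ∈ s.N, n * s.β = s.β * n → Odd (orderOf n) → ∀ r ∈ s.R1, ε (n * r * n⁻¹) = n * ε r * n⁻¹) :
    (∀ r ∈ s.R1, ε r = s.y * r * s.y⁻¹) ∨ ∀ r ∈ s.R1, ε r = s.y⁻¹ * r * s.y := by
  have f := factsA s
  simp only [let_iff] at f
  obtain ⟨m1, -, -, m2, m3, m4⟩ := memN s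
  have hk : s.x34 * s.y * s.v ∈ s.N := mul_mem (mul_mem m1 m3) m4
  have hl : s.x43 * s.x34 * s.v⁻¹ * s.x43 ∈ s.N := mul_mem (mul_mem (mul_mem m2 m1) (inv_mem m4)) m2
  generalize s.x34 * s.y * s.v = k, s.x43 * s.x34 * s.v⁻¹ * s.x43 = l, s.x13 * s.x14 * s.z = r at f hk hl
  obtain ⟨⟨a1, a2, a3, a4, a5, a6, a7, a8⟩, f2, f3, b1, b2, b3, b4, b5, b6⟩ := f
  have ek := h4 k hk a1 (by rw [a3]; decide)
  have el := h4 l hl a2 (by rw [a4]; decide)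
  have key : ∀ δ : A → A, (∀ a b, δ (a * b) = δ a * δ b) → (∀ a ∈ s.R1, δ (k * a * k⁻¹) = k * δ a * k⁻¹) →
      (∀ a ∈ s.R1, δ (l * a * l⁻¹) = l * δ a * l⁻¹) → ε r = δ r → ∀ a ∈ s.R1, ε a = δ a := by
    intro δ d1 d2 d3 d4 a ha
    have pm : ∀ a b, (a ∈ s.R1 ∧ ε a = δ a) → (b ∈ s.R1 ∧ ε b = δ b) → (a * b ∈ s.R1 ∧ ε (a * b) = δ (a * b)) :=
      fun a b ha hb => ⟨mul_mem ha.1 hb.1, by rw [h2 a ha.1 b hb.1, d1, ha.2, hb.2]⟩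
    have pk : ∀ {a}, (a ∈ s.R1 ∧ ε a = δ a) → (k * a * k⁻¹ ∈ s.R1 ∧ ε (k * a * k⁻¹) = δ (k * a * k⁻¹)) :=
      fun {a} ha => ⟨(f3 a ha.1).1, by rw [ek a ha.1, d2 a ha.1, ha.2]⟩
    have pl : ∀ {a}, (a ∈ s.R1 ∧ ε a = δ a) → (l * a * l⁻¹ ∈ s.R1 ∧ ε (l * a * l⁻¹) = δ (l * a * l⁻¹)) :=
      fun {a} ha => ⟨(f3 a ha.1).2.1, by rw [el a ha.1, d3 a ha.1, ha.2]⟩
    have g0 : r ∈ s.R1 ∧ ε r = δ r := ⟨a5, d4⟩
    have g1 := pk g0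
    have g2 := pl g0
    have g3 := pl g1
    have g4 := pk g2
    have g5 := pk g3
    exact (ext6 s (P := fun a => a ∈ s.R1 ∧ ε a = δ a) pm (b1 ▸ pm _ _ (pm _ _ g0 g2) g5) (b2 ▸ pm _ _ g0 g5)
      (b3 ▸ pm _ _ g0 g2) (b4 ▸ pm _ _ (pm _ _ g2 g4) g5) (b5 ▸ pm _ _ g1 g4) (b6 ▸ pm _ _ (pm _ _ g1 g2) g3) a ha).2
  have rel : ∀ k : A, (∀ a ∈ s.R1, k * a * k⁻¹ ∈ s.R1) → (∀ a ∈ s.R1, ε (k * a * k⁻¹) = k * ε a * k⁻¹) →
      r * (k * r * k⁻¹) * (k * (k * r * k⁻¹) * k⁻¹) = 1 →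
      ε r * (k * ε r * k⁻¹) * (k * (k * ε r * k⁻¹) * k⁻¹) = 1 := fun k c1 c2 c3 => by
    have := congrArg ε c3
    rwa [h2 _ (mul_mem a5 (c1 r a5)) _ (c1 _ (c1 r a5)), h2 _ a5 _ (c1 r a5), c2 _ (c1 r a5), c2 r a5,
      map_one' h2] at this
  have h5 := h3 r a5
  rcases f2 _ (h1 r a5) (rel k (fun a ha => (f3 a ha).1) ek a7) (rel l (fun a ha => (f3 a ha).2.1) el a8) with
    h | h | h | h
  · rw [h, map_one' h2, one_mul] at h5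
    exact absurd h5.symm a6
  · rw [h, h, left_eq_mul] at h5
    exact absurd h5 a6
  · exact .inl (key (fun a => s.y * a * s.y⁻¹) (fun a b => by group) (fun a ha => (f3 a ha).2.2.1)
      (fun a ha => (f3 a ha).2.2.2.1) h)
  · exact .inr (key (fun a => s.y⁻¹ * a * s.y) (fun a b => by group) (fun a ha => (f3 a ha).2.2.2.2.1)
      (fun a ha => (f3 a ha).2.2.2.2.2) h)

theorem endP (ε : A → A) (h1 : ∀ r ∈ s.R1, ε r ∈ s.R1) (h2 : ∀ a ∈ s.R1, ∀ b ∈ s.R1, ε (a * b) = ε a * ε b)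
    (h4 : ∀ n ∈ s.PJ, ∀ r ∈ s.R1, ε (n * r * n⁻¹) = n * ε r * n⁻¹) : (∀ r ∈ s.R1, ε r = 1) ∨ ∀ r ∈ s.R1, ε r = r := by
  have f := factsP s
  simp only [let_iff] at f
  obtain ⟨m1, m2, m3, m4⟩ := memP s
  generalize s.x13 * s.x25 = r at f
  obtain ⟨⟨a1, a2, a3⟩, b1, b2, b3, b4, b5, b6⟩ := f
  have key : ∀ δ : A → A, (∀ a b, δ (a * b) = δ a * δ b) → (∀ n a, δ (n * a * n⁻¹) = n * δ a * n⁻¹) →
      ε r = δ r → ∀ a ∈ s.R1, ε a = δ a := by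
    intro δ d1 d2 d4 a ha
    have pm : ∀ a b, (a ∈ s.R1 ∧ ε a = δ a) → (b ∈ s.R1 ∧ ε b = δ b) → (a * b ∈ s.R1 ∧ ε (a * b) = δ (a * b)) :=
      fun a b ha hb => ⟨mul_mem ha.1 hb.1, by rw [h2 a ha.1 b hb.1, d1, ha.2, hb.2]⟩
    have pk : ∀ {n}, n ∈ s.PJ → ∀ {a}, (a ∈ s.R1 ∧ ε a = δ a) →
        (n * a * n⁻¹ ∈ s.R1 ∧ ε (n * a * n⁻¹) = δ (n * a * n⁻¹)) := fun {n} hn {a} ha =>
      ⟨conj_mem_of_mem_norm (s.N_le (s.PJ_le hn)) ha.1, by rw [h4 n hn a ha.1, d2, ha.2]⟩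
    have g0 : r ∈ s.R1 ∧ ε r = δ r := ⟨a1, d4⟩
    have g1 := pk m3 g0
    have g2 := pk m2 g0
    have g3 := pk m1 g0
    have g4 := pk m2 g1
    have g5 := pk m1 g1
    exact (ext6 s (P := fun a => a ∈ s.R1 ∧ ε a = δ a) pm (b1 ▸ pm _ _ (pm _ _ (pm _ _ g0 g1) g3) g5)
      (b2 ▸ pm _ _ g0 g2) (b3 ▸ pm _ _ g0 g3) (b4 ▸ pm _ _ g0 g5) (b5 ▸ pm _ _ g1 g4)
      (b6 ▸ pm _ _ (pm _ _ g1 g3) g5) a ha).2
  have h5 := h4 _ (mul_mem m4 m1) r a1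
  rw [a2] at h5
  rcases a3 _ (h1 r a1) h5.symm with h | h
  · exact .inl (key (fun _ => 1) (fun _ _ => (mul_one 1).symm) (fun n _ => by group) h)
  · exact .inr (key (fun a => a) (fun _ _ => rfl) (fun _ _ => rfl) h)

/-- A biadditive equivariant map `R1 × R2 → E` vanishing on `E` is trivial or the commutator. -/
theorem bil (γ : A → A → A) (h0 : ∀ a ∈ s.R1, ∀ b ∈ s.R2, γ a b ∈ s.E)
    (h1 : ∀ a ∈ s.R1, ∀ a' ∈ s.R1, ∀ b ∈ s.R2, γ (a * a') b = γ a b * γ a' b)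
    (h2 : ∀ a ∈ s.R1, ∀ b ∈ s.R2, ∀ b' ∈ s.R2, γ a (b * b') = γ a b * γ a b')
    (h3 : ∀ a ∈ s.E, ∀ b ∈ s.R2, γ a b = 1) (h4 : ∀ a ∈ s.R1, ∀ b ∈ s.E, γ a b = 1)
    (h5 : ∀ n ∈ s.PJ, ∀ a ∈ s.R1, ∀ b ∈ s.R2, γ (n * a * n⁻¹) (n * b * n⁻¹) = n * γ a b * n⁻¹) :
    (∀ a ∈ s.R1, ∀ b ∈ s.R2, γ a b = 1) ∨ ∀ a ∈ s.R1, ∀ b ∈ s.R2, γ a b = a * b * a * b := by
  have hb : Bi s γ := ⟨fun e he a ha b hb => by rw [h1 e (s.E_le he) a ha b hb, h3 e he b hb, one_mul],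
    fun e he a ha b hb => by rw [h2 a ha e (s.E_le' he) b hb, h4 a ha e he, one_mul], h3, h4, h5⟩
  have f : (s.x13 ∈ s.R1 ∧ s.x35 ∈ s.R2 ∧ s.x12 * s.x13 * s.x12⁻¹ = s.x13 ∧ s.x12 * s.x35 * s.x12⁻¹ = s.x35 ∧
      s.x45 * s.x13 * s.x45⁻¹ = s.x13 ∧ s.x45 * s.x35 * s.x45⁻¹ = s.x35) ∧ ∀ c ∈ s.E, c = s.x12 * c * s.x12⁻¹ →
      c = s.x45 * c * s.x45⁻¹ → c = 1 ∨ c = s.x13 * s.x35 * s.x13 * s.x35 :=
    s.toStH.lists.decide s.rep (by decide +kernel)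
  obtain ⟨⟨a1, a2, a3, a4, a5, a6⟩, f⟩ := f
  have b1 := h5 s.x12 (mem_clos (by simp)) _ a1 _ a2
  have b2 := h5 s.x45 (mem_clos (by simp)) _ a1 _ a2
  rw [a3, a4] at b1
  rw [a5, a6] at b2
  rcases f _ (h0 _ a1 _ a2) b1 b2 with h | h
  · exact .inl (hb.uniq (δ := fun _ _ => 1) ⟨fun _ _ _ _ _ _ => rfl, fun _ _ _ _ _ _ => rfl, fun _ _ _ _ => rfl,
      fun _ _ _ _ => rfl, fun n _ _ _ _ _ => by group⟩ h)
  · exact .inr (hb.uniq (bi_comm s) h)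

/-- A word in the conjugates of `R2` whose twisted action is rational but does not preserve the classes. -/
theorem word4 : ∃ l : List (A × A), (∀ v ∈ l, v.1 ∈ s.N ∧ v.2 ∈ s.R2) ∧
    (∀ p ∈ s.R1, (l.foldr (fun v => phi4 (v.1 * v.2 * v.1⁻¹)) (1, p)) =
      (l.foldr (fun v => phi4 (v.1 * v.2 * v.1⁻¹)) (p, 1)).swap) ∧
    ∃ p ∈ s.R1, IsConj s.z p ∧ ¬ IsConj s.z (l.foldr (fun v => phi4 (v.1 * v.2 * v.1⁻¹)) (p, p)).1 := by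
  have f := factsW s
  simp only [let_iff] at f
  obtain ⟨m34, m35, m45, m43, -, mv⟩ := memN s
  have r34 : s.x34 ∈ s.R2 := mem_clos (by simp)
  have r35 : s.x35 ∈ s.R2 := mem_clos (by simp)
  have g : s.x14 * s.z * s.x23 ∈ s.R1 ∧ s.x14 * s.z * s.x23 ∈ s.H ∧ s.x14 * s.z * s.x23 ∈ s.Z ∧
      s.x13 * s.z * s.x23 ∈ s.H ∧ s.x13 * s.z * s.x23 ∉ s.Z := s.toStG.lists.decide s.rep (by decide +kernel)
  refine ⟨[(s.x34 * s.x45 * s.x43 * s.v * s.x43, s.x34 * s.x35), (s.x34 * s.x35 * s.x43 * s.v * s.x43, s.x34),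
    (1, s.x34), (s.x43, s.x34), (s.v * s.x43, s.x35)], ?_, fun p hp => ?_, _, g.1, (s.mem_Z g.2.1).2 g.2.2.1,
    fun h => g.2.2.2.2 ((s.mem_Z g.2.2.2.1).1 ?_)⟩
  · simp only [List.forall_mem_cons]
    exact ⟨⟨mul_mem (mul_mem (mul_mem (mul_mem m34 m45) m43) mv) m43, mul_mem r34 r35⟩,
      ⟨mul_mem (mul_mem (mul_mem (mul_mem m34 m35) m43) mv) m43, r34⟩, ⟨one_mem _, r34⟩, ⟨m43, r34⟩,
      ⟨mul_mem mv m43, r35⟩, by simp⟩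
  · exact Prod.ext (f.1 p hp).1 (f.1 p hp).2
  · exact f.2 ▸ h

end HeF

end Cfsg.Agent.Wz
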