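import Mathlib
import Cfsg.Agent.Wz.HeD

/-!
# The Held group: the rules reach a generating set
-/

set_option autoImplicit false

namespace Cfsg.Agent.Wz

open Cfsg.Agent.Loc.Mss Cfsg.Agent.Gold Cfsg.Agent.Wr Cfsg.Agent.Spor Cfsg.Agent.Rec Cfsg.Agent.Rec.L52 Subgroup

universe u

variable {A : Type} [Group A] [Finite A]

namespace He6

/-- The value of a word in the sixteen letters. -/
noncomputable def ev (s : HeF A) (w : List ℕ) : A := evalW (nth 1 s.toStG.eG) w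

/-- The relation on the values of two words. -/
def G (s : HeF A) (Γ : A → A → Prop) (a b : List ℕ) : Prop := Γ (ev s a) (ev s b)

/-- The hypotheses on the relation. -/
structure K (s : HeF A) (Γ : A → A → Prop) : Prop where
  R : Rules s.z s.Ad Γ
  B : ∀ a b, s.Base a b → Γ a b

/-- The letters after the graph automorphism. -/
noncomputable def fl : ℕ → ℕ := nth 16 [7, 5, 2, 6, 4, 1, 3, 0, 9, 8, 11, 10, 14, 15, 12, 13]

/-- The codes of the normaliser of `R1`. -/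
noncomputable def cN : List ℕ := kN true true ++ A7.one :: (cK true true).drop 10

/-- The word avoids the letter `x32`. -/
noncomputable def no11 (w : List ℕ) : Bool := allL w fun i => bneg (Nat.beq i 11)

/-- Equality of two words in `C(z)`. -/
noncomputable def eqH (u v : List ℕ) : Bool :=
  band (lettersLt 12 u) (band (lettersLt 12 v) (Nat.beq (evC B5.A cH u) (evC B5.A cH v)))

/-- Equality of two words in `N(R1)`. -/
noncomputable def eqN (u v : List ℕ) : Bool :=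
  band (no11 u) (band (no11 v) (Nat.beq (evC A7 cN u) (evC A7 cN v)))

/-- Membership of a word in a listed subset of `C(z)`. -/
noncomputable def inS (D : Dom) (w : List ℕ) : Bool := band (lettersLt 12 w) (force (evC B5.A cH w) D.has)

/-- The conjugates of `z` in `C(z)`. -/
noncomputable def inZ : List ℕ → Bool := inS (ZD true true true false true true)

variable {s : HeF A} {Γ : A → A → Prop}

omit [Finite A] in
theorem ev_append (u v : List ℕ) : ev s (u ++ v) = ev s u * ev s v := evalW_append _ u v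

omit [Finite A] in
theorem ev_H {w : List ℕ} (h : lettersLt 12 w = true) : ev s w = evalW (nth 1 s.e) w :=
  evalW_congr fun i hi => by
    have := (lettersLt_iff _ _).1 h i hi
    interval_cases i <;> rfl

omit [Finite A] in
theorem ev_N {w : List ℕ} (h : no11 w = true) : ev s w = evalW (nth 1 s.toStG.eN) w :=
  evalW_congr fun i hi => by
    have h1 : i ≠ 11 := fun e => by simpa [e] using (allL_iff _ _).1 h i hi
    rcases i with _ | _ | _ | _ | _ | _ | _ | _ | _ | _ | _ | _ | i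
    all_goals first | rfl | exact absurd rfl h1

omit [Finite A] in
theorem ev_flip (w : List ℕ) : ev s.flip w = ev s (w.map fl) := by
  rw [ev, ev, evalW, evalW, List.map_map]
  refine congrArg List.prod (List.map_congr_left fun i _ => ?_)
  rcases i with _ | _ | _ | _ | _ | _ | _ | _ | _ | _ | _ | _ | _ | _ | _ | _ | i <;> rfl

omit [Finite A] in
theorem of_eqH {u v : List ℕ} (h : eqH u v = true) : ev s u = ev s v := by
  simp only [eqH, band_iff, nbeq_iff] at h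
  rw [ev_H h.1, ev_H h.2.1]
  exact ((s.rep.word u).eq_iff (s.rep.word v)).1 h.2.2

omit [Finite A] in
theorem of_eqN {u v : List ℕ} (h : eqN u v = true) : ev s u = ev s v := by
  simp only [eqN, band_iff, nbeq_iff] at h
  obtain ⟨C, hC⟩ := s.toStG.codN
  rw [ev_N h.1, ev_N h.2.1]
  exact ((hC.word u).eq_iff (hC.word v)).1 h.2.2

omit [Finite A] in
theorem of_inS {D : Dom} {S : Set A} (hD : s.C.Lists D S) {w : List ℕ} (h : inS D w = true) : ev s w ∈ S := by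
  simp only [inS, band_iff, force_eq] at h
  rw [ev_H h.1, ← (s.rep.word w).2]
  exact (hD.has _ (s.rep.word w).1).1 h.2

theorem of_inZ {w : List ℕ} (h : inZ w = true) : IsConj s.z (ev s w) := by
  refine (s.toStG.mem_Z ?_).2 (of_inS (s.genZ _ _ _ _ _ _) h)
  rw [ev_H ((band_iff _ _).1 h).1, s.H_eq]
  exact evalW_mem fun i _ => nth_mem_clos _ i

omit [Finite A] in
theorem K.flip (k : K s Γ) : K s.flip Γ where
  R := ⟨k.R.cls, k.R.refl, k.R.symm, k.R.conj, k.R.tri, fun a b c h1 h2 h3 =>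
    k.R.add a b c h1 h2 ⟨h3.1, h3.2.1, h3.2.2.1, h3.2.2.2.symm⟩⟩
  B a b h := k.B a b ⟨h.1, h.2.1, h.2.2.1.symm, h.2.2.2.symm⟩

omit [Finite A] in
theorem G.flip {a b : List ℕ} (h : G s.flip Γ a b) : G s Γ (a.map fl) (b.map fl) := by
  rwa [G, ev_flip, ev_flip] at h

omit [Finite A] in
theorem K.cj (k : K s Γ) {a b l a' b' : List ℕ} (g : G s Γ a b) (h1 : ev s (l ++ a) = ev s (a' ++ l))
    (h2 : ev s (l ++ b) = ev s (b' ++ l)) : G s Γ a' b' := by
  rw [ev_append, ev_append, ← mul_inv_eq_iff_eq_mul] at h1 h2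
  rw [G, ← h1, ← h2]
  exact k.R.conj _ _ _ g

omit [Finite A] in
theorem K.cjH (k : K s Γ) {a b : List ℕ} (g : G s Γ a b) (l a' b' : List ℕ)
    (h : band (eqH (l ++ a) (a' ++ l)) (eqH (l ++ b) (b' ++ l)) = true) : G s Γ a' b' :=
  k.cj g (of_eqH ((band_iff _ _).1 h).1) (of_eqH ((band_iff _ _).1 h).2)

omit [Finite A] in
theorem K.cjN (k : K s Γ) {a b : List ℕ} (g : G s Γ a b) (l a' b' : List ℕ)
    (h : band (eqN (l ++ a) (a' ++ l)) (eqN (l ++ b) (b' ++ l)) = true) : G s Γ a' b' :=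
  k.cj g (of_eqN ((band_iff _ _).1 h).1) (of_eqN ((band_iff _ _).1 h).2)

omit [Finite A] in
theorem K.tri (k : K s Γ) {a b c : List ℕ} (g1 : G s Γ a b) (g2 : G s Γ a c) (g3 : G s Γ b c) :
    G s Γ a (b ++ c ++ b) := by
  rw [G, ev_append, ev_append]
  exact k.R.tri _ _ _ g1 g2 g3

theorem K.base (k : K s Γ) (a b : List ℕ) (h : band (band (inZ a) (inZ b))
    (band (bor (inS R1_t.dom a) (inS R2_t.dom a)) (bor (inS R1_t.dom b) (inS R2_t.dom b))) = true) : G s Γ a b := by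
  simp only [band_iff, bor_iff] at h
  exact k.B _ _ ⟨of_inZ h.1.1, of_inZ h.1.2, h.2.1.imp (of_inS s.genR1.1) (of_inS s.genR2.1),
    h.2.2.imp (of_inS s.genR1.1) (of_inS s.genR2.1)⟩

theorem K.add (k : K s Γ) {a b c : List ℕ} (g1 : G s Γ a b) (g2 : G s Γ a c) (h : band (inZ (b ++ c))
    (bor (band (inS R1_t.dom b) (inS R1_t.dom c)) (band (inS R2_t.dom b) (inS R2_t.dom c))) = true) :
    G s Γ a (b ++ c) := by
  simp only [band_iff, bor_iff] at h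
  rw [G, ev_append]
  exact k.R.add _ _ _ g1 g2 ⟨k.R.cls _ _ (k.R.symm _ _ g1), k.R.cls _ _ (k.R.symm _ _ g2), ev_append (s := s) b c ▸ of_inZ h.1,
    h.2.imp (And.imp (of_inS s.genR1.1) (of_inS s.genR1.1)) (And.imp (of_inS s.genR2.1) (of_inS s.genR2.1))⟩

theorem f1 (k : K s Γ) : G s Γ [9] [8] :=
  k.cjH (k.base [0] [5] (by decide +kernel)) [6, 10, 3, 11] [9] [8] (by decide +kernel)

theorem f2 (k : K s Γ) : G s Γ [9] [10] :=
  k.cjH (k.base [0] [4] (by decide +kernel)) [6, 10, 3, 11] [9] [10] (by decide +kernel)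

theorem f3 (k : K s Γ) : G s Γ [9] [11] :=
  k.cjH (k.base [0] [3] (by decide +kernel)) [3, 11] [9] [11] (by decide +kernel)

theorem f4 (k : K s Γ) : G s Γ [10] [11] :=
  k.cjH (k.base [3] [6] (by decide +kernel)) [4, 11, 10, 11, 10] [10] [11] (by decide +kernel)

theorem f5 (k : K s Γ) : G s Γ [6, 9, 10, 6] [7] :=
  k.cjH (k.base [1, 3] [7] (by decide +kernel)) [4, 10, 11, 10, 6] [6, 9, 10, 6] [7] (by decide +kernel)

theorem f6 (k : K s Γ) : G s Γ [9] [14, 8, 15] :=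
  k.cjN (f5 k) [14, 6, 10] [9] [14, 8, 15] (by decide +kernel)

theorem f7 (k : K s Γ) : G s Γ [4, 10, 11, 10, 11, 4] [6, 3, 10, 6, 10, 6, 11, 10, 6, 3, 10, 6] :=
  k.tri (k.cjH (k.base [6] [3] (by decide +kernel)) [10, 11, 10, 6, 3] [4, 10, 11, 10, 11, 4] [6, 3, 10, 6] (by decide +kernel))
    (k.cjH (k.base [3] [6] (by decide +kernel)) [11, 10, 11, 6] [4, 10, 11, 10, 11, 4] [10, 6, 11, 10] (by decide +kernel))
    (k.cjH (k.base [6] [3] (by decide +kernel)) [4, 10, 11] [6, 3, 10, 6] [10, 6, 11, 10] (by decide +kernel))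

theorem f8 (k : K s Γ) : G s Γ [6, 10, 6] [6] :=
  k.cjH (f7 k) [6, 10, 11, 4, 3] [6, 10, 6] [6] (by decide +kernel)

theorem f9 (k : K s Γ) : G s Γ [5, 6, 10, 6] [5, 6] :=
  k.cjN (f8 k) [4, 13, 0] [5, 6, 10, 6] [5, 6] (by decide +kernel)

theorem f10 (k : K s Γ) : G s Γ [6, 9, 10, 6] [6, 9] :=
  k.cjH (G.flip (f9 k.flip)) [3, 11, 6, 10, 6, 4] [6, 9, 10, 6] [6, 9] (by decide +kernel)

theorem f11 (k : K s Γ) : G s Γ [6, 9, 12, 10, 6, 12] [9, 10, 13, 0, 6, 9, 4, 9, 10, 13] :=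
  k.tri (k.cjN (f10 k) [10, 6, 13, 10] [6, 9, 12, 10, 6, 12] [9, 10, 13] (by decide +kernel))
    (k.cjN (f10 k) [3, 15, 10, 14, 6] [6, 9, 12, 10, 6, 12] [0, 6, 9, 4] (by decide +kernel))
    (k.cjN (f10 k) [9, 15, 10, 14, 5, 1] [9, 10, 13] [0, 6, 9, 4] (by decide +kernel))

theorem f12 (k : K s Γ) : G s Γ [0, 2, 9, 13] [0, 2, 9] :=
  k.cjN (f11 k) [14, 12, 10, 9] [0, 2, 9, 13] [0, 2, 9] (by decide +kernel)

theorem f13 (k : K s Γ) : G s Γ [8] [14, 8, 15] :=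
  k.cjN (G.flip (f12 k.flip)) [14, 6, 1] [8] [14, 8, 15] (by decide +kernel)

theorem f14 (k : K s Γ) : G s Γ [7] [6, 9, 10, 6] :=
  k.cjH (k.base [7] [1, 3] (by decide +kernel)) [4, 10, 11, 10, 6] [7] [6, 9, 10, 6] (by decide +kernel)

theorem f15 (k : K s Γ) : G s Γ [3, 11, 3] [3, 1, 4] :=
  k.add (k.cjH (f7 k) [4, 10, 11, 10, 3] [3, 11, 3] [3] (by decide +kernel))
    (k.cjH (k.base [3] [6] (by decide +kernel)) [11, 3, 0] [3, 11, 3] [1, 4] (by decide +kernel)) (by decide +kernel)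

theorem f16 (k : K s Γ) : G s Γ [6, 10, 6] [5, 6] :=
  k.cjH (G.flip (f15 k.flip)) [4, 3] [6, 10, 6] [5, 6] (by decide +kernel)

theorem f17 (k : K s Γ) : G s Γ [14, 0, 10, 15] [0, 8, 9, 10, 13, 6, 3, 10, 7, 14, 8, 10, 6, 0, 8, 9, 10, 13] :=
  k.tri (k.cjN (f14 k) [7, 14, 10, 15, 7, 0] [14, 0, 10, 15] [0, 8, 9, 10, 13] (by decide +kernel))
    (k.cjN (f16 k) [9, 14, 1, 10, 15, 10, 7] [14, 0, 10, 15] [6, 3, 10, 7, 14, 8, 10, 6] (by decide +kernel))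
    (k.cjN (f5 k) [6, 13, 10, 15, 6, 10] [0, 8, 9, 10, 13] [6, 3, 10, 7, 14, 8, 10, 6] (by decide +kernel))

theorem f18 (k : K s Γ) : G s Γ [6, 10, 14, 10, 15, 10, 6] [6, 5] :=
  k.add (k.cjN (f17 k) [6, 10, 2, 14, 10, 15] [6, 10, 14, 10, 15, 10, 6] [6] (by decide +kernel))
    (k.cjN (k.base [6] [3] (by decide +kernel)) [6, 10, 14, 6, 10, 7, 6] [6, 10, 14, 10, 15, 10, 6] [5] (by decide +kernel)) (by decide +kernel)

theorem f19 (k : K s Γ) : G s Γ [10] [14, 8, 15] :=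
  k.cjN (f18 k) [9, 2, 14, 10, 15, 12, 6] [10] [14, 8, 15] (by decide +kernel)

theorem f20 (k : K s Γ) : G s Γ [5, 6, 10, 6] [6, 9, 10, 6] :=
  k.cjH (k.base [4, 7] [0, 4] (by decide +kernel)) [10, 3, 11, 3] [5, 6, 10, 6] [6, 9, 10, 6] (by decide +kernel)

theorem f21 (k : K s Γ) : G s Γ [10] [12, 9, 13] :=
  k.cjN (f20 k) [12, 6, 10, 15, 10, 7] [10] [12, 9, 13] (by decide +kernel)


/-- The generating set. -/
def WW : List (List ℕ) := [[9], [8], [10], [11], [14, 8, 15]]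

theorem all_pairs (k : K s Γ) : ∀ a ∈ WW, ∀ b ∈ WW, G s Γ a b := by
  have sy : ∀ {a b}, G s Γ a b → G s Γ b a := k.R.symm _ _
  have rf : ∀ {a b}, G s Γ a b → G s Γ a a := fun h => k.R.refl _ (k.R.cls _ _ h)
  have h1 : G s Γ [8] [10] := (f3 k.flip).flip
  have h2 : G s Γ [8] [11] := (f2 k.flip).flip
  have h3 : G s Γ [11] [14, 8, 15] := (f21 k.flip).flip
  simp only [WW, List.forall_mem_cons, List.not_mem_nil, false_imp_iff, implies_true, and_true]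
  exact ⟨⟨rf (f1 k), f1 k, f2 k, f3 k, f6 k⟩, ⟨sy (f1 k), rf h1, h1, h2, f13 k⟩,
    ⟨sy (f2 k), sy h1, rf (f4 k), f4 k, f19 k⟩, ⟨sy (f3 k), sy h2, sy (f4 k), rf h3, h3⟩,
    ⟨sy (f6 k), sy (f13 k), sy (f19 k), sy h3, rf (sy h3)⟩⟩

/-- The letters as words in the generating set. -/
def VV : List (List ℕ) :=
  [[1, 4, 0, 2, 4, 2, 4, 0, 1, 2, 4, 1, 2, 4, 0, 2, 4, 0, 2, 4, 2, 4],
   [0, 1, 4, 2, 4, 1, 2, 4, 2, 4, 0, 1, 4, 2, 4, 2, 4, 0, 2, 4, 0, 2, 4, 2],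
   [2, 4, 0, 1, 2, 4, 0, 2, 4, 0, 2, 4, 2, 4, 2, 4, 0, 1, 4, 2, 4, 1, 2, 4],
   [0, 2, 4, 0, 2, 4, 2, 4, 0, 2, 4, 2, 4, 0, 2, 4, 2, 4, 0, 2, 4, 0],
   [0, 4, 0, 1, 2, 4, 2, 4, 0, 2, 4, 1, 2, 4, 0, 2, 4, 2, 4, 1, 2],
   [0, 1, 4, 0, 2, 4, 2, 4, 0, 2, 4, 1, 2, 4, 0, 2, 4, 2, 4, 0, 2, 4, 0],
   [0, 4, 0, 4],
   [1, 4, 0, 1, 4, 0, 1, 4],
   [1],
   [0],
   [2],
   [],
   [1, 4, 0, 1, 2, 4, 0, 2, 4, 0, 1, 2, 4, 0, 1, 2],
   [0, 1, 2, 4, 0, 1, 2, 4, 0, 2, 4, 0, 1, 2, 4, 1],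
   [0, 2, 4, 0, 2, 4, 0, 2, 4, 2, 4, 0, 1, 2, 4, 0, 2, 4, 2, 4, 0, 1, 2],
   [0, 1, 2, 4, 2, 4, 0, 2, 4, 0, 1, 2, 4, 2, 4, 0, 2, 4, 0, 2, 4, 0, 2]]

theorem gen_top (s : HeF A) : clos (WW.map (ev s)) = ⊤ := by
  have h1 : ∀ w : List ℕ, ev s (subW WW w) ∈ clos (WW.map (ev s)) := fun w => by
    rw [ev, evalW_subW]
    exact evalW_mem fun i _ => nth_mem_clos _ i
  have h2 : allLt 16 (fun i => bor (Nat.beq i 11) (eqN [i] (subW WW (nth [] VV i)))) = true := by decide +kernel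
  refine top_unique (s.toStG.G0_eq_top.ge.trans (clos_le.2 fun x hx => ?_))
  obtain ⟨i, hi, rfl⟩ := List.getElem_of_mem hx
  have h3 : s.toStG.eG[i] = ev s [i] := by rw [ev, evalW_cons, evalW_nil, mul_one, nth_of_lt _ hi]
  rw [h3]
  rcases (bor_iff _ _).1 ((allLt_iff _ _).1 h2 i hi) with h | h
  · rw [(nbeq_iff _ _).1 h]
    exact mem_clos (List.mem_map_of_mem (by simp [WW]))
  · rw [of_eqN h]
    exact h1 _

end He6

theorem HeF.gen (s : HeF A) : Gen s.z s.Base s.Ad := fun _ R B =>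
  ⟨{x | x ∈ He6.WW.map (He6.ev s)}, He6.gen_top s, fun _ ha _ hb => by
    obtain ⟨a, ha', rfl⟩ := List.mem_map.1 ha
    obtain ⟨b, hb', rfl⟩ := List.mem_map.1 hb
    exact He6.all_pairs ⟨R, B⟩ a ha' b hb'⟩

end Cfsg.Agent.Wz
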