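import Mathlib
import Cfsg.Agent.Wz.HeD
import Cfsg.Agent.S2075

/-!
# The frame of the Held group exists
-/

set_option autoImplicit false

namespace Cfsg.Agent.Wz

open Cfsg.Agent.Loc.Mss Cfsg.Agent.Gold Cfsg.Agent.Wr Cfsg.Agent.Spor Cfsg.Agent.Rec Cfsg.Agent.Rec.L52 Subgroup

universe u

namespace HeA

theorem exists_stG : Nonempty (StG Cfsg.Spor.He true true) := by
  have hs := MHe.simple
  have : Finite Cfsg.Spor.He := Nat.finite_of_card_ne_zero (by rw [MHe.card]; norm_num)
  obtain ⟨s⟩ := nonempty_stH_He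
  obtain ⟨t, ht, h, hne⟩ := s.exists_fused
  by_cases hA : IsConj s.z s.x14 <;> by_cases hB : IsConj s.z s.x25
  · obtain ⟨a, b, g, -⟩ := s.exists_stG hA hB
    have h1 : L52.Gen Cfsg.Spor.He a b := ⟨_, rfl, g.sat, g.G0_eq_top⟩
    have h2 : L52.Gen Cfsg.Spor.He b a := ⟨_, rfl, g.flip.sat, g.flip.G0_eq_top⟩
    cases a <;> cases b
    · exact absurd (h1.card_le presLL) (by rw [MHe.card]; norm_num)
    · exact absurd (h2.card_le presSL) (by rw [MHe.card]; norm_num)
    · exact absurd (h1.card_le presSL) (by rw [MHe.card]; norm_num)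
    · exact ⟨g⟩
  · exact absurd hs (s.flip.notA hB hA).1
  · exact absurd hs (s.notA hA hB).1
  · exact absurd (s.fused_of_ne ht h hne) (not_or.2 ⟨hA, hB⟩)

theorem map_eq_of_nth {G K : Type*} [Group G] [Group K] (f : G → K) :
    ∀ (l : List G) (l' : List K), l.length = l'.length → (∀ i, f (nth 1 l i) = nth 1 l' i) → l.map f = l'
  | [], [], _, _ => rfl
  | [], _ :: _, h, _ => absurd h (by simp)
  | _ :: _, [], h, _ => absurd h (by simp)
  | a :: l, b :: l', h, k => by
    have h0 : f a = b := k 0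
    have h1 := map_eq_of_nth f l l' (by simpa using h) fun i => k (i + 1)
    rw [List.map_cons, h0, h1]

theorem exists_aut {G : Type} [Group G] [Finite G] (hc : Nat.card G = 4030387200) (s : StG G true true) :
    ∃ α : MulAut G, s.eG.map α = s.flip.eG := by
  have h0 : clos s.eG = ⊤ := s.G0_eq_top
  have h1 : clos s.flip.eG = ⊤ := s.flip.G0_eq_top
  obtain ⟨ψ, h2, h3⟩ := presSS.hom s.sat s.flip.sat rfl rfl (by rw [h0, card_top, hc])
  let φ : G →* G := ψ.comp ((MulEquiv.subgroupCongr h0).trans topEquiv).symm.toMonoidHom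
  have h4 : φ.range = ⊤ := by
    rw [MonoidHom.range_comp, MonoidHom.range_eq_top.2 (MulEquiv.surjective _), ← MonoidHom.range_eq_map, h3, h1]
  have h5 : Function.Surjective φ := MonoidHom.range_eq_top.1 h4
  have h6 : Function.Bijective φ := ⟨Finite.injective_iff_surjective.2 h5, h5⟩
  exact ⟨MulEquiv.ofBijective φ h6, map_eq_of_nth _ _ _ rfl fun i => h2 i⟩

theorem cases_of_card {G : Type} [Group G] (h : Nat.card (Cfsg.Out G) = 2) {α : MulAut G} (hα : α ∉ Cfsg.Inn G)
    (φ : MulAut G) : ∃ g, φ = MulAut.conj g ∨ φ = MulAut.conj g * α := by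
  have hi : (Cfsg.Inn G).index = 2 := h
  by_cases hφ : φ ∈ Cfsg.Inn G
  · obtain ⟨g, hg⟩ := hφ
    exact ⟨g, .inl hg.symm⟩
  · have h1 : φ * α⁻¹ ∈ Cfsg.Inn G :=
      (mul_mem_iff_of_index_two hi).2 ⟨fun k => absurd k hφ, fun k => absurd (by simpa using k) hα⟩
    obtain ⟨g, hg⟩ := h1
    exact ⟨g, .inr (by rw [hg]; group)⟩

end HeA

theorem exists_heF : Nonempty (HeF Cfsg.Spor.He) := by
  have : Finite Cfsg.Spor.He := Nat.finite_of_card_ne_zero (by rw [MHe.card]; norm_num)
  obtain ⟨s⟩ := HeA.exists_stG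
  obtain ⟨α, hα⟩ := HeA.exists_aut MHe.card s
  have hα0 := hα
  simp only [List.map_cons, List.map_nil, List.cons.injEq, and_true] at hα0
  obtain ⟨a1, a2, a3, a4, a5, a6, a7, a8, a9, a10, a11, a12, a13, a14, a15, a16⟩ := hα0
  have hα' : s.flip.eG.map α = s.flip.flip.eG := by
    simp only [List.map_cons, List.map_nil, List.cons.injEq, and_true]
    exact ⟨a8, a6, a3, a7, a5, a2, a4, a1, a10, a9, a12, a11, a15, a16, a13, a14⟩
  have hαα : α * α = 1 := by
    have h1 : clos s.eG ≤ MonoidHom.eqLocus (α * α).toMonoidHom (MonoidHom.id _) := by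
      refine clos_le.2 fun x hx => ?_
      have h2 : (s.eG.map α).map α = s.eG := by rw [hα, hα']; rfl
      rw [List.map_map] at h2
      obtain ⟨i, hi, rfl⟩ := List.getElem_of_mem hx
      have h3 := congrArg (fun l => l[i]?) h2
      simp only [List.getElem?_map, List.getElem?_eq_getElem hi, Option.map_some, Option.some.injEq] at h3
      exact h3
    ext x
    exact h1 ((show clos s.eG = ⊤ from s.G0_eq_top) ▸ mem_top x)
  have hout : α ∉ Cfsg.Inn Cfsg.Spor.He := by
    rintro ⟨g, hg⟩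
    refine s.cj_R1_ne g ?_
    show s.R1.map (MulAut.conj g).toMonoidHom = s.R2
    rw [hg, StH.R1, map_clos]
    show clos [α s.x13, α s.x14, α s.z, α s.x23, α s.x24, α s.x25] = _
    rw [a1, a2, a3, a4, a5, a6]
    rfl
  exact ⟨⟨s, α, hα, hα', hαα, HeA.cases_of_card Cfsg.Agent.S2075.result hout⟩⟩

end Cfsg.Agent.Wz
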