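import Mathlib
import Cfsg.Agent.Wz.HeD

/-!
# The Held group: the data on the second class of involutions
-/

set_option autoImplicit false
set_option linter.unusedSectionVars false
set_option synthInstance.maxSize 100000
set_option synthInstance.maxHeartbeats 1000000

namespace Cfsg.Agent.Wz

open Cfsg.Agent.Loc.Mss Cfsg.Agent.Gold Cfsg.Agent.Wr Cfsg.Agent.Spor Cfsg.Agent.Rec Cfsg.Agent.Rec.L52 Subgroup

open scoped commutatorElement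

universe u

namespace HeR1

noncomputable def D_t : ST :=
  (.node (nat_lit 0x1045045) (.node (nat_lit 0x10430c5) (.node (nat_lit 0x1041241) (.node (nat_lit 0x1041141) (.node (nat_lit 0x1041051) (.node (nat_lit 0x1041049) (.leaf (nat_lit 0x1041041) (nat_lit 0))
  (.leaf (nat_lit 0x1041049) (nat_lit 256)))
  (.node (nat_lit 0x1041059) (.leaf (nat_lit 0x1041051) (nat_lit 257))
  (.leaf (nat_lit 0x1041059) (nat_lit 513))))
  (.node (nat_lit 0x1041151) (.node (nat_lit 0x1041149) (.leaf (nat_lit 0x1041141) (nat_lit 258))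
  (.leaf (nat_lit 0x1041149) (nat_lit 514)))
  (.node (nat_lit 0x1041159) (.leaf (nat_lit 0x1041151) (nat_lit 514))
  (.leaf (nat_lit 0x1041159) (nat_lit 770)))))
  (.node (nat_lit 0x1041341) (.node (nat_lit 0x1041251) (.node (nat_lit 0x1041249) (.leaf (nat_lit 0x1041241) (nat_lit 259))
  (.leaf (nat_lit 0x1041249) (nat_lit 515)))
  (.node (nat_lit 0x1041259) (.leaf (nat_lit 0x1041251) (nat_lit 515))
  (.leaf (nat_lit 0x1041259) (nat_lit 771))))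
  (.node (nat_lit 0x1041351) (.node (nat_lit 0x1041349) (.leaf (nat_lit 0x1041341) (nat_lit 515))
  (.leaf (nat_lit 0x1041349) (nat_lit 771)))
  (.node (nat_lit 0x1041359) (.leaf (nat_lit 0x1041351) (nat_lit 771))
  (.leaf (nat_lit 0x1041359) (nat_lit 1027))))))
  (.node (nat_lit 0x10432c5) (.node (nat_lit 0x10431c5) (.node (nat_lit 0x10430d5) (.node (nat_lit 0x10430cd) (.leaf (nat_lit 0x10430c5) (nat_lit 1029))
  (.leaf (nat_lit 0x10430cd) (nat_lit 1028)))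
  (.node (nat_lit 0x10430dd) (.leaf (nat_lit 0x10430d5) (nat_lit 773))
  (.leaf (nat_lit 0x10430dd) (nat_lit 1029))))
  (.node (nat_lit 0x10431d5) (.node (nat_lit 0x10431cd) (.leaf (nat_lit 0x10431c5) (nat_lit 773))
  (.leaf (nat_lit 0x10431cd) (nat_lit 772)))
  (.node (nat_lit 0x10431dd) (.leaf (nat_lit 0x10431d5) (nat_lit 517))
  (.leaf (nat_lit 0x10431dd) (nat_lit 773)))))
  (.node (nat_lit 0x10433c5) (.node (nat_lit 0x10432d5) (.node (nat_lit 0x10432cd) (.leaf (nat_lit 0x10432c5) (nat_lit 1028))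
  (.leaf (nat_lit 0x10432cd) (nat_lit 772)))
  (.node (nat_lit 0x10432dd) (.leaf (nat_lit 0x10432d5) (nat_lit 1029))
  (.leaf (nat_lit 0x10432dd) (nat_lit 1028))))
  (.node (nat_lit 0x10433d5) (.node (nat_lit 0x10433cd) (.leaf (nat_lit 0x10433c5) (nat_lit 772))
  (.leaf (nat_lit 0x10433cd) (nat_lit 516)))
  (.node (nat_lit 0x10433dd) (.leaf (nat_lit 0x10433d5) (nat_lit 773))
  (.leaf (nat_lit 0x10433dd) (nat_lit 772)))))))
  (.node (nat_lit 0x10470c1) (.node (nat_lit 0x1045245) (.node (nat_lit 0x1045145) (.node (nat_lit 0x1045055) (.node (nat_lit 0x104504d) (.leaf (nat_lit 0x1045045) (nat_lit 516))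
  (.leaf (nat_lit 0x104504d) (nat_lit 772)))
  (.node (nat_lit 0x104505d) (.leaf (nat_lit 0x1045055) (nat_lit 260))
  (.leaf (nat_lit 0x104505d) (nat_lit 516))))
  (.node (nat_lit 0x1045155) (.node (nat_lit 0x104514d) (.leaf (nat_lit 0x1045145) (nat_lit 772))
  (.leaf (nat_lit 0x104514d) (nat_lit 773)))
  (.node (nat_lit 0x104515d) (.leaf (nat_lit 0x1045155) (nat_lit 516))
  (.leaf (nat_lit 0x104515d) (nat_lit 772)))))
  (.node (nat_lit 0x1045345) (.node (nat_lit 0x1045255) (.node (nat_lit 0x104524d) (.leaf (nat_lit 0x1045245) (nat_lit 772))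
  (.leaf (nat_lit 0x104524d) (nat_lit 1028)))
  (.node (nat_lit 0x104525d) (.leaf (nat_lit 0x1045255) (nat_lit 516))
  (.leaf (nat_lit 0x104525d) (nat_lit 772))))
  (.node (nat_lit 0x1045355) (.node (nat_lit 0x104534d) (.leaf (nat_lit 0x1045345) (nat_lit 1028))
  (.leaf (nat_lit 0x104534d) (nat_lit 1029)))
  (.node (nat_lit 0x104535d) (.leaf (nat_lit 0x1045355) (nat_lit 772))
  (.leaf (nat_lit 0x104535d) (nat_lit 1028))))))
  (.node (nat_lit 0x10472c1) (.node (nat_lit 0x10471c1) (.node (nat_lit 0x10470d1) (.node (nat_lit 0x10470c9) (.leaf (nat_lit 0x10470c1) (nat_lit 773))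
  (.leaf (nat_lit 0x10470c9) (nat_lit 1029)))
  (.node (nat_lit 0x10470d9) (.leaf (nat_lit 0x10470d1) (nat_lit 1029))
  (.leaf (nat_lit 0x10470d9) (nat_lit 1285))))
  (.node (nat_lit 0x10471d1) (.node (nat_lit 0x10471c9) (.leaf (nat_lit 0x10471c1) (nat_lit 517))
  (.leaf (nat_lit 0x10471c9) (nat_lit 773)))
  (.node (nat_lit 0x10471d9) (.leaf (nat_lit 0x10471d1) (nat_lit 773))
  (.leaf (nat_lit 0x10471d9) (nat_lit 1029)))))
  (.node (nat_lit 0x10473c1) (.node (nat_lit 0x10472d1) (.node (nat_lit 0x10472c9) (.leaf (nat_lit 0x10472c1) (nat_lit 517))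
  (.leaf (nat_lit 0x10472c9) (nat_lit 773)))
  (.node (nat_lit 0x10472d9) (.leaf (nat_lit 0x10472d1) (nat_lit 773))
  (.leaf (nat_lit 0x10472d9) (nat_lit 1029))))
  (.node (nat_lit 0x10473d1) (.node (nat_lit 0x10473c9) (.leaf (nat_lit 0x10473c1) (nat_lit 261))
  (.leaf (nat_lit 0x10473c9) (nat_lit 517)))
  (.node (nat_lit 0x10473d9) (.leaf (nat_lit 0x10473d1) (nat_lit 517))
  (.leaf (nat_lit 0x10473d9) (nat_lit 773))))))))

theorem D_ok : genOK L52.A [nat_lit 0x1041049, nat_lit 0x1041051, nat_lit 0x1041141, nat_lit 0x1041241,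
    nat_lit 0x1045055, nat_lit 0x10473c1] D_t 64 = true := by decide +kernel

noncomputable def B_t : ST :=
  (.node (nat_lit 0x1041249) (.node (nat_lit 0x1041159) (.leaf (nat_lit 0x1041041) (nat_lit 0))
  (.leaf (nat_lit 0x1041159) (nat_lit 257)))
  (.node (nat_lit 0x1041351) (.leaf (nat_lit 0x1041249) (nat_lit 256))
  (.leaf (nat_lit 0x1041351) (nat_lit 513))))

theorem B_ok : genOK L52.A [nat_lit 0x1041249, nat_lit 0x1041159] B_t 4 = true := by decide +kernel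

variable {A : Type} [Group A] [Finite A] (s : HeF A)

/-- The group `R1 R2`. -/
def J : Subgroup A := clos [s.x13, s.x23, s.x34, s.x35]
/-- The group containing `[J, γ]`. -/
def D : Subgroup A := clos [s.x14, s.z, s.x24, s.x25, s.x13 * s.x35, s.x23 * s.x34 * s.x35]

theorem genJ : s.C.Lists J_t.dom (J s) ∧ Nat.card (J s) = 256 := (s.rep.pick [0, 3, 6, 7]).gen J_ok

theorem genD : s.C.Lists D_t.dom (D s) ∧ Nat.card (D s) = 64 :=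
  ((s.rep.nth 1).cons <| (s.rep.nth 2).cons <| (s.rep.nth 4).cons <| (s.rep.nth 5).cons <|
    (s.rep.term _ (by decide +kernel)).cons <| (s.rep.term _ (by decide +kernel)).cons Cod.repL_nil).gen D_ok

theorem genB : s.C.Lists B_t.dom s.B ∧ Nat.card s.B = 4 :=
  ((s.rep.term _ (by decide +kernel)).cons <| (s.rep.term _ (by decide +kernel)).cons Cod.repL_nil).gen B_ok

theorem lists : s.C.ListsL [J_t.dom, D_t.dom, B_t.dom, ZD true true true false true true, E_t.dom, Tm_t.dom,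
    cM_t.dom, cY_t.dom] [J s, D s, s.B, s.Z, s.E, s.Tm, s.cM, s.cY] :=
  (genJ s).1.cons <| (genD s).1.cons <| (genB s).1.cons <| (s.genZ _ _ _ _ _ _).cons <| s.genE.1.cons <|
    s.genTm.1.cons <| s.genM.1.cons <| s.genY.1.cons Cod.listsL_nil

theorem Tm_le : s.Tm ≤ s.H := by
  have h : s.Tm ≤ s.T := s.toStH.lists.decide s.rep (by decide +kernel)
  exact h.trans s.T_le

theorem facts : (s.B ≤ s.E ∧ s.E ≤ D s ∧ D s ≤ J s ∧ J s ≤ s.Tm) ∧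
    (s.x13 ∈ J s ∧ s.x23 ∈ J s ∧ s.x34 ∈ J s ∧ s.x35 ∈ J s ∧ s.x12 * s.x45 ∈ s.Tm) ∧
    (∀ b ∈ s.E, b * b = 1) ∧ (∀ d ∈ D s, d * d = 1 → d ∈ s.E) ∧
    s.x14 * s.x25 ∈ s.B ∧ s.x24 * s.x14 * s.z ∈ s.B := (lists s).decide s.rep (by decide +kernel)

theorem mem_cB {g : A} : g ∈ 𝐂[s.B] ↔ s.x14 * s.x25 * g = g * (s.x14 * s.x25) ∧
    s.x24 * s.x14 * s.z * g = g * (s.x24 * s.x14 * s.z) := by
  refine ⟨fun h => ⟨mem_cent.1 h _ (facts s).2.2.2.2.1, mem_cent.1 h _ (facts s).2.2.2.2.2⟩, fun h => ?_⟩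
  have : s.B ≤ C1 g := clos_le.2 (by
    simp only [List.forall_mem_cons]
    exact ⟨mem_centralizer_singleton_iff.2 h.1, mem_centralizer_singleton_iff.2 h.2, by simp⟩)
  exact mem_cent.2 fun b hb => mem_centralizer_singleton_iff.1 (this hb)

theorem J_eq : s.Tm ⊓ 𝐂[s.B] = J s := by
  have h : ∀ g ∈ s.Tm, (s.x14 * s.x25 * g = g * (s.x14 * s.x25) ∧
      s.x24 * s.x14 * s.z * g = g * (s.x24 * s.x14 * s.z)) ↔ g ∈ J s := (lists s).decide s.rep (by decide +kernel)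
  ext g
  rw [mem_inf, mem_cB]
  exact ⟨fun h1 => (h g h1.1).1 h1.2, fun h1 => ⟨(facts s).1.2.2.2 h1, (h g ((facts s).1.2.2.2 h1)).2 h1⟩⟩

theorem norm_gen {K : Subgroup A} {l : List A} (h : ∀ x ∈ {x | x ∈ l}, ∀ k ∈ K, x * k * x⁻¹ ∈ K) : clos l ≤ 𝐍[K] :=
  clos_le.2 fun x hx => mem_norm_of_cj_le (cj_le_iff.2 (h x hx))

theorem repJ : s.C.RepL ([0, 3, 6, 7].map (nth L52.A.one cH)) [s.x13, s.x23, s.x34, s.x35] := s.rep.pick [0, 3, 6, 7]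

theorem comm_J : ⁅J s, J s⁆ = s.E := by
  obtain ⟨a1, a2, a3, a4, -⟩ := (facts s).2.1
  have h : (∀ x ∈ {x | x ∈ [s.x13, s.x23, s.x34, s.x35]}, ∀ k ∈ s.E, x * k * x⁻¹ ∈ s.E) ∧
      (∀ x ∈ {x | x ∈ [s.x13, s.x23, s.x34, s.x35]}, ∀ v ∈ J s, ⁅v, x⁆ ∈ s.E) ∧
      ⁅s.x13, s.x34⁆ = s.x14 ∧ ⁅s.x13, s.x35⁆ = s.z ∧ ⁅s.x23, s.x34⁆ = s.x24 ∧ ⁅s.x23, s.x35⁆ = s.x25 :=
    ((repJ s).lists.cons (lists s)).decide s.rep (by decide +kernel)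
  obtain ⟨h1, h2, h3, h4, h5, h6⟩ := h
  refine le_antisymm (comm_closure_le (fun x hx => norm_gen h1 (mem_clos hx)) h2) (clos_le.2 ?_)
  simp only [List.forall_mem_cons]
  exact ⟨h3 ▸ commutator_mem_commutator a1 a3, h4 ▸ commutator_mem_commutator a1 a4,
    h5 ▸ commutator_mem_commutator a2 a3, h6 ▸ commutator_mem_commutator a2 a4, by simp⟩

theorem α_letters : s.α s.x13 = s.x35 ∧ s.α s.x14 = s.x25 ∧ s.α s.z = s.z ∧ s.α s.x23 = s.x34 ∧ s.α s.x24 = s.x24 ∧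
    s.α s.x25 = s.x14 ∧ s.α s.x34 = s.x23 ∧ s.α s.x35 = s.x13 ∧ s.α s.x45 = s.x12 ∧ s.α s.x12 = s.x45 := by
  have h := s.hα
  simp only [List.map_cons, List.cons.injEq] at h
  obtain ⟨h1, h2, h3, h4, h5, h6, h7, h8, h9, h10, -⟩ := h
  exact ⟨h1, h2, h3, h4, h5, h6, h7, h8, h9, h10⟩

/-- The outer automorphism centralising `B`. -/
def γ : MulAut A := MulAut.conj (s.x12 * s.x45) * s.α

theorem γ_apply (x : A) : γ s x = s.x12 * s.x45 * s.α x * (s.x12 * s.x45)⁻¹ := rfl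

theorem fix : ∀ b ∈ s.B, γ s b = b := by
  obtain ⟨-, h2, h3, -, h5, h6, -⟩ := α_letters s
  have h : s.x12 * s.x45 * (s.x25 * s.x14) * (s.x12 * s.x45)⁻¹ = s.x14 * s.x25 ∧
      s.x12 * s.x45 * (s.x24 * s.x25 * s.z) * (s.x12 * s.x45)⁻¹ = s.x24 * s.x14 * s.z :=
    (lists s).decide s.rep (by decide +kernel)
  have : s.B ≤ (γ s).toMonoidHom.eqLocus (MonoidHom.id A) := clos_le.2 (by
    simp only [List.forall_mem_cons]
    refine ⟨?_, ?_, by simp⟩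
    · change γ s _ = _
      rw [γ_apply, map_mul, h2, h6]; exact h.1
    · change γ s _ = _
      rw [γ_apply, map_mul, map_mul, h2, h3, h5]; exact h.2)
  exact fun b hb => this hb

theorem gD : ∀ x ∈ J s, x⁻¹ * γ s x ∈ D s := by
  obtain ⟨h1, -, -, h4, -, -, h7, h8, -⟩ := α_letters s
  have h : (∀ x ∈ {x | x ∈ [s.x13, s.x23, s.x34, s.x35]}, ∀ k ∈ D s, x * k * x⁻¹ ∈ D s) ∧
      s.x13⁻¹ * (s.x12 * s.x45 * s.x35 * (s.x12 * s.x45)⁻¹) ∈ D s ∧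
      s.x23⁻¹ * (s.x12 * s.x45 * s.x34 * (s.x12 * s.x45)⁻¹) ∈ D s ∧
      s.x34⁻¹ * (s.x12 * s.x45 * s.x23 * (s.x12 * s.x45)⁻¹) ∈ D s ∧
      s.x35⁻¹ * (s.x12 * s.x45 * s.x13 * (s.x12 * s.x45)⁻¹) ∈ D s :=
    ((repJ s).lists.cons (lists s)).decide s.rep (by decide +kernel)
  have hn : J s ≤ 𝐍[D s] := norm_gen h.1
  intro x hx
  induction hx using closure_induction with
  | mem x hx =>
    simp only [Set.mem_ofPred_eq, List.mem_cons, List.not_mem_nil, or_false] at hx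
    rcases hx with rfl | rfl | rfl | rfl <;> rw [γ_apply]
    · rw [h1]; exact h.2.1
    · rw [h4]; exact h.2.2.1
    · rw [h7]; exact h.2.2.2.1
    · rw [h8]; exact h.2.2.2.2
  | one => simp
  | mul a b _ hb iha ihb =>
    have e : (a * b)⁻¹ * γ s (a * b) = b⁻¹ * (a⁻¹ * γ s a) * b * (b⁻¹ * γ s b) := by rw [map_mul]; group
    rw [e]
    exact mul_mem (conj_mem_of_norm' (hn hb) iha) ihb
  | inv a ha iha =>
    have e : a⁻¹⁻¹ * γ s a⁻¹ = a * (a⁻¹ * γ s a)⁻¹ * a⁻¹ := by rw [map_inv]; group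
    rw [e]
    exact conj_mem_of_norm (hn ha) (inv_mem iha)

theorem cb' : ∀ p ∈ s.Tm, ∃ x ∈ s.Tm, x⁻¹ * (p * γ s x * p⁻¹) ∉ s.B := by
  obtain ⟨h1, -, -, h4, -, -, h7, h8, h9, h10⟩ := α_letters s
  obtain ⟨a1, a2, a3, a4, a5⟩ := (facts s).2.1
  have hJ := (facts s).1.2.2.2
  have h : ∀ p ∈ s.Tm, Let (p * (s.x12 * s.x45)) fun q =>
      s.x13⁻¹ * (q * s.x35 * q⁻¹) ∉ s.B ∨ s.x23⁻¹ * (q * s.x34 * q⁻¹) ∉ s.B ∨ s.x34⁻¹ * (q * s.x23 * q⁻¹) ∉ s.B ∨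
      s.x35⁻¹ * (q * s.x13 * q⁻¹) ∉ s.B ∨ (s.x12 * s.x45)⁻¹ * (q * (s.x45 * s.x12) * q⁻¹) ∉ s.B :=
    (lists s).decide s.rep (by decide +kernel)
  intro p hp
  have e : ∀ x, p * γ s x * p⁻¹ = p * (s.x12 * s.x45) * s.α x * (p * (s.x12 * s.x45))⁻¹ := fun x => by
    rw [γ_apply]; group
  simp only [e]
  rcases (let_iff _ _).1 (h p hp) with k | k | k | k | k
  · exact ⟨_, hJ a1, by rwa [h1]⟩
  · exact ⟨_, hJ a2, by rwa [h4]⟩
  · exact ⟨_, hJ a3, by rwa [h7]⟩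
  · exact ⟨_, hJ a4, by rwa [h8]⟩
  · exact ⟨_, a5, by rwa [map_mul, h9, h10]⟩

theorem nb (Y : Subgroup A) (hY : Y ≤ s.Tm) (hn : s.Tm ≤ 𝐍[Y]) (hβ : s.β ∈ Y) :
    Y ≤ s.B ⊔ zpowers s.z ∨ ∃ w ∈ Y, IsConj s.z w := by
  obtain ⟨a1, -, a3, -, a5⟩ := (facts s).2.1
  have hJ := (facts s).1.2.2.2
  have h : ∀ y ∈ s.Tm, y ∈ s.B ∨ y * s.z ∈ s.B ∨
      (Let (s.x13 * y * s.x13⁻¹ * y) fun w => w ∈ s.Z ∨ s.x14 * s.x25 * w ∈ s.Z) ∨
      Let (s.x34 * (s.x12 * s.x45) * y * (s.x34 * (s.x12 * s.x45))⁻¹ * y) fun w =>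
        w ∈ s.Z ∨ s.x14 * s.x25 * w ∈ s.Z := (lists s).decide s.rep (by decide +kernel)
  refine or_iff_not_imp_right.2 fun hc y hy => ?_
  have k : ∀ x ∈ s.Tm, ¬ (x * y * x⁻¹ * y ∈ s.Z ∨ s.x14 * s.x25 * (x * y * x⁻¹ * y) ∈ s.Z) := fun x hx h1 => by
    have h2 : x * y * x⁻¹ * y ∈ Y := mul_mem (conj_mem_of_norm (hn hx) hy) hy
    rcases h1 with h1 | h1
    · exact hc ⟨_, h2, (s.mem_Z (Tm_le s (hY h2))).2 h1⟩
    · exact hc ⟨_, mul_mem hβ h2, (s.mem_Z (Tm_le s (hY (mul_mem hβ h2)))).2 h1⟩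
  rcases h y (hY hy) with h1 | h1 | h1 | h1
  · exact mem_sup_left h1
  · exact (mul_mem_cancel_right (mem_sup_right (mem_zpowers s.z))).1 (mem_sup_left h1)
  · exact absurd h1 (k _ (hJ a1))
  · exact absurd h1 (k _ (mul_mem (hJ a3) a5))

theorem cb : ∀ p ∈ s.Tm, (∀ x ∈ s.Tm, x⁻¹ * (p * x * p⁻¹) ∈ s.B) → p ∈ s.B ∨ p * s.z ∈ s.B := by
  obtain ⟨a1, a2, a3, a4, a5⟩ := (facts s).2.1
  have hJ := (facts s).1.2.2.2
  have h : ∀ p ∈ s.Tm, s.x13⁻¹ * (p * s.x13 * p⁻¹) ∈ s.B → s.x23⁻¹ * (p * s.x23 * p⁻¹) ∈ s.B →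
      s.x34⁻¹ * (p * s.x34 * p⁻¹) ∈ s.B → s.x35⁻¹ * (p * s.x35 * p⁻¹) ∈ s.B →
      (s.x12 * s.x45)⁻¹ * (p * (s.x12 * s.x45) * p⁻¹) ∈ s.B → p ∈ s.B ∨ p * s.z ∈ s.B :=
    (lists s).decide s.rep (by decide +kernel)
  exact fun p hp k => h p hp (k _ (hJ a1)) (k _ (hJ a2)) (k _ (hJ a3)) (k _ (hJ a4)) (k _ a5)

theorem conj_β {a : A} (h : a ∈ s.cM ∨ a ∈ s.cY) : IsConj s.β a :=
  h.elim s.isConj_of_cl fun h => s.fz_Y.isConj.trans (s.isConj_of_cl h)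

theorem mz : ∃ m ∈ 𝐂[s.B], IsConj s.z (s.z * (m * s.z * m⁻¹)) := by
  obtain ⟨C, hC⟩ := s.codN
  have h : Let (s.x43 * s.x34 * s.v⁻¹ * s.x43) fun m => (s.x14 * s.x25 * m = m * (s.x14 * s.x25) ∧
      s.x24 * s.x14 * s.z * m = m * (s.x24 * s.x14 * s.z)) ∧ s.z * (m * s.z * m⁻¹) = s.x13 * s.x14 :=
    Cod.listsL_nil.decide hC (by decide +kernel)
  have h1 : s.x13 * s.x14 ∈ s.Z ∧ s.x13 * s.x14 ∈ s.Tm := (lists s).decide s.rep (by decide +kernel)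
  exact ⟨_, (mem_cB s).2 h.1, h.2 ▸ (s.mem_Z (Tm_le s h1.2)).2 h1.1⟩

theorem odd : ∃ h ∈ C1 s.β, (orderOf h).Prime ∧ orderOf h ≠ 2 ∧ ¬ orderOf h ∣ Nat.card (C1 s.z) ∧
    ∃ l ∈ C1 s.β, Even (orderOf (h * (l * h * l⁻¹))) := by
  obtain ⟨C, hC⟩ := s.codN
  have h : Let (s.x34 * s.x43 * s.v * s.x43 * s.v⁻¹ * s.x43) fun h => h * (s.x14 * s.x25) = s.x14 * s.x25 * h ∧
      orderOf h = 5 ∧ s.x45 * s.x12 * (s.x14 * s.x25) = s.x14 * s.x25 * (s.x45 * s.x12) ∧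
      orderOf (h * (s.x45 * s.x12 * h * (s.x45 * s.x12)⁻¹)) = 2 := Cod.listsL_nil.decide hC (by decide +kernel)
  obtain ⟨h1, h2, h3, h4⟩ := (let_iff _ _).1 h
  have hc : Nat.card (C1 s.z) = 21504 := s.genH.2
  refine ⟨_, mem_centralizer_singleton_iff.2 h1, ?_, ?_, ?_, _, mem_centralizer_singleton_iff.2 h3, ?_⟩
  · rw [h2]; norm_num
  · rw [h2]; norm_num
  · rw [h2, hc]; norm_num
  · rw [h4]; norm_num

theorem aff (f : A → A) (h1 : ∀ a ∈ s.E, f a ∈ s.E) (h2 : ∀ a ∈ s.E, ∀ b ∈ s.E, f (a * b) = f a * f b)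
    (h3 : ∀ a ∈ s.E, f a = 1 → a = 1) : ∃ a ∈ s.E,
      ((a = 1 ∨ IsConj s.β a) ∧ IsConj s.z (s.β * f a)) ∨ (IsConj s.z a ∧ (s.β * f a = 1 ∨ IsConj s.β (s.β * f a))) := by
  by_contra hc
  have hE : s.E ≤ s.H := s.E_le.trans (s.R1_le.trans s.T_le)
  have hβ : s.β ∈ s.E := (facts s).1.1 (facts s).2.2.2.2.1
  have k0 : ∀ a ∈ s.E, (a ∈ s.cM ∨ a ∈ s.cY) → s.x14 * s.x25 * f a ∉ s.Z := fun a ha h4 h5 =>
    hc ⟨a, ha, .inl ⟨.inr (conj_β s h4), (s.mem_Z (hE (mul_mem hβ (h1 a ha)))).2 h5⟩⟩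
  have h : ∀ u ∈ s.E, s.x14 * s.x25 * u ∉ s.Z → u ≠ 1 → ∀ w ∈ s.E, s.x14 * s.x25 * w ∉ s.Z → w ≠ 1 →
      s.x14 * s.x25 * (u * w) ∉ s.Z → u * w ≠ 1 → u = s.x14 * s.x25 ∨ w = s.x14 * s.x25 ∨ u * w = s.x14 * s.x25 :=
    (lists s).decide s.rep (by decide +kernel)
  have k : ∀ a b, (a ∈ s.E ∧ (a ∈ s.cM ∨ a ∈ s.cY) ∧ a ≠ 1) ∧ (b ∈ s.E ∧ (b ∈ s.cM ∨ b ∈ s.cY) ∧ b ≠ 1) ∧
      (a * b ∈ s.cM ∨ a * b ∈ s.cY) ∧ a * b ≠ 1 → ∃ c ∈ s.E, (c = a ∨ c = b ∨ c = a * b) ∧ f c = s.x14 * s.x25 := by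
    rintro a b ⟨⟨ha, a1, a2⟩, ⟨hb, b1, b2⟩, c1, c2⟩
    have hab := mul_mem ha hb
    rcases h _ (h1 a ha) (k0 a ha a1) (mt (h3 a ha) a2) _ (h1 b hb) (k0 b hb b1) (mt (h3 b hb) b2)
      (h2 a ha b hb ▸ k0 _ hab c1) (h2 a ha b hb ▸ mt (h3 _ hab) c2) with e | e | e
    exacts [⟨a, ha, .inl rfl, e⟩, ⟨b, hb, .inr (.inl rfl), e⟩, ⟨_, hab, .inr (.inr rfl), (h2 a ha b hb).trans e⟩]
  obtain ⟨c, hc1, hc2, e⟩ := k (s.x14 * s.x25) (s.x24 * s.x14 * s.z) ((lists s).decide s.rep (by decide +kernel))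
  obtain ⟨d, hd1, hd2, e'⟩ := k (s.z * s.x24) (s.x14 * s.x25 * s.z) ((lists s).decide s.rep (by decide +kernel))
  have h4 := h3 _ (mul_mem hc1 hd1) (by rw [h2 c hc1 d hd1, e, e']; exact (facts s).2.2.1 _ hβ)
  rcases hc2 with rfl | rfl | rfl <;> rcases hd2 with rfl | rfl | rfl <;>
    exact absurd h4 ((lists s).decide s.rep (by decide +kernel))

end HeR1

open HeR1

variable {A : Type} [Group A] [Finite A]

/-- `γ = conj p * α`, with `p ∈ Tm` chosen so that `γ` centralises `B`. -/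
theorem HeF.rawB (s : HeF A) : ∃ D p, p ∈ s.Tm ∧ RawB s.Tm s.B D s.z s.β (MulAut.conj p * s.α) ∧
    ∀ q ∈ s.Tm, ∃ x ∈ s.Tm, q * (MulAut.conj p * s.α) x * q⁻¹ ≠ x := by
  obtain ⟨⟨f1, f2, f3, f4⟩, ⟨-, -, -, -, f5⟩, f6, f7, f8, f9⟩ := facts s
  have h : s.x24 * s.x14 * s.z * (s.x12 * s.x45) ≠ s.x12 * s.x45 * (s.x24 * s.x14 * s.z) ∧
      (∀ x ∈ s.Tm, ∀ k ∈ s.B, x * k * x⁻¹ ∈ s.B) ∧ s.x14 * s.x25 * s.z ∈ s.cM :=
    (lists s).decide s.rep (by decide +kernel)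
  refine ⟨HeR1.D s, s.x12 * s.x45, f5, ⟨(genB s).2, fun b hb => f6 b (f1 hb), f8, f1.trans (f2.trans (f3.trans f4)),
    fun hc => h.1 ((mem_cB s).1 (hc f5)).2, fun x hx => mem_norm_of_cj_le (cj_le_iff.2 (h.2.1 x hx)), fix s,
    conj_β s (.inl h.2.2), s.z_ne_m, nb s, cb s, cb' s, mz s, odd s, ?_, ?_, ?_, ?_, ?_, ?_, ?_⟩, fun q hq => ?_⟩
  · rw [J_eq, comm_J]; exact .inl f1
  · rw [J_eq, comm_J]; exact f6
  · rw [J_eq]; exact f3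
  · rw [J_eq, comm_J]; exact f2
  · rw [J_eq]; exact gD s
  · rw [J_eq, comm_J]; exact f7
  · rw [J_eq, comm_J]; exact aff s
  · obtain ⟨x, hx, h1⟩ := cb' s q hq
    refine ⟨x, hx, fun e => h1 ?_⟩
    rw [show q * γ s x * q⁻¹ = x from e, inv_mul_cancel]
    exact one_mem _

end Cfsg.Agent.Wz
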