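import Mathlib
import Cfsg.Agent.Wz.HeB

/-! The Held group: raw data about the Sylow 2-subgroup and the outer automorphism, second part. -/

set_option autoImplicit false
set_option linter.unusedSectionVars false
set_option synthInstance.maxSize 100000
set_option synthInstance.maxHeartbeats 1000000

namespace Cfsg.Agent.Wz

open Cfsg.Agent.Loc.Mss Cfsg.Agent.Gold Cfsg.Agent.Wr Cfsg.Agent.Spor Cfsg.Agent.Rec Cfsg.Agent.Rec.L52 Subgroup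
open scoped commutatorElement

universe u

namespace HeR2

/-- Reflection of a packed `5 × 5` matrix in the second diagonal. -/
noncomputable def tr (a : ℕ) : ℕ :=
  Nat.lor (Nat.lor (Nat.lor (Nat.lor (Nat.lor (Nat.lor (Nat.lor (Nat.lor
    (Nat.shiftLeft (Nat.land a (nat_lit 0x1)) (nat_lit 24))
    (Nat.shiftLeft (Nat.land a (nat_lit 0x22)) (nat_lit 18)))
    (Nat.shiftLeft (Nat.land a (nat_lit 0x444)) (nat_lit 12)))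
    (Nat.shiftLeft (Nat.land a (nat_lit 0x8888)) (nat_lit 6)))
    (Nat.land a (nat_lit 0x111110)))
    (Nat.shiftRight (Nat.land a (nat_lit 0x222200)) (nat_lit 6)))
    (Nat.shiftRight (Nat.land a (nat_lit 0x444000)) (nat_lit 12)))
    (Nat.shiftRight (Nat.land a (nat_lit 0x880000)) (nat_lit 18)))
    (Nat.shiftRight (Nat.land a (nat_lit 0x1000000)) (nat_lit 24))

theorem tr_ok : T_t.dom.all (fun b => allL ([9, 3, 6, 8].map (nth L52.A.one cH)) fun g =>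
    Nat.beq (tr (L52.A.mul g b)) (L52.A.mul (tr b) (tr g))) = true := by decide +kernel

variable {G : Type u} [Group G]

theorem mem_zp {z g : G} (h : z * z = 1) : g ∈ zpowers z ↔ g = 1 ∨ g = z :=
  ⟨fun hg => by
    by_cases h1 : g = 1
    exacts [.inl h1, .inr (Cfsg.Agent.Inv.Fz.eq_of_mem_zpowers_two h hg h1)],
   fun hg => hg.elim (fun e => e ▸ one_mem _) fun e => e ▸ mem_zpowers _⟩

theorem card_inf (K : Subgroup G) (x : G) : Nat.card (K ⊓ C1 x : Subgroup G) = {y | y ∈ K ∧ y * x = x * y}.ncard := by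
  rw [← SetLike.coe_sort_coe, Nat.card_coe_set_eq]
  congr 1
  ext y
  exact and_congr_right fun _ => mem_centralizer_singleton_iff

/-- The centralisers of `z` and `x14` generate the group. -/
theorem gen14 [Finite G] (s : StG G true true) {K : Subgroup G} (hz : C1 s.z ≤ K) (h14 : C1 s.x14 ≤ K) : K = ⊤ := by
  obtain ⟨C, hC⟩ := s.codN
  have h1 : (s.v * (s.x45 * s.z * s.x35) * s.v⁻¹ * s.x14 = s.x14 * (s.v * (s.x45 * s.z * s.x35) * s.v⁻¹) ∧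
      s.x45 * s.z * s.x35 * s.z = s.z * (s.x45 * s.z * s.x35) ∧
      s.v⁻¹ = s.v * (s.x45 * s.z * s.x35) * s.v⁻¹ * (s.x45 * s.z * s.x35)⁻¹) ∧
      s.y⁻¹ = s.x24 * s.x43 * s.v * s.x43 * s.v * s.x43 * s.v * s.x43 * s.v :=
    Cod.listsL_nil.decide hC (by decide +kernel)
  have hH : ∀ x ∈ s.e, x ∈ K := fun x hx => hz (s.H_eq.ge (mem_clos hx))
  have hv : s.v ∈ K := by
    rw [← inv_mem_iff, h1.1.2.2]
    exact mul_mem (h14 (mem_centralizer_singleton_iff.2 h1.1.1))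
      (inv_mem (hz (mem_centralizer_singleton_iff.2 h1.1.2.1)))
  have h24 := hH s.x24 (by simp)
  have h43 := hH s.x43 (by simp)
  have hy : s.y⁻¹ ∈ K := by
    rw [h1.2]
    exact mul_mem (mul_mem (mul_mem (mul_mem (mul_mem (mul_mem (mul_mem (mul_mem h24 h43) hv) h43) hv) h43) hv) h43) hv
  rw [eq_top_iff, ← s.G0_eq_top]
  refine clos_le.2 fun x hx => ?_
  rcases List.mem_append.1 (show x ∈ s.e ++ [s.y, s.y⁻¹, s.v, s.v⁻¹] from hx) with hx | hx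
  · exact hH x hx
  · simp only [List.mem_cons, List.not_mem_nil, or_false] at hx
    rcases hx with rfl | rfl | rfl | rfl
    exacts [inv_mem_iff.1 hy, hy, hv, inv_mem hv]

end HeR2

variable {A : Type} [Group A] [Finite A]

namespace HeF

open HeR2

variable (s : HeF A)

theorem r2_α : s.α s.x13 = s.x35 ∧ s.α s.x14 = s.x25 ∧ s.α s.x23 = s.x34 ∧ s.α s.x34 = s.x23 ∧ s.α s.x35 = s.x13 ∧
    s.α s.x45 = s.x12 ∧ s.α s.x12 = s.x45 := by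
  have h := s.hα
  simp only [List.map, List.cons.injEq] at h
  exact ⟨h.1, h.2.1, h.2.2.2.1, h.2.2.2.2.2.2.1, h.2.2.2.2.2.2.2.1, h.2.2.2.2.2.2.2.2.1, h.2.2.2.2.2.2.2.2.2.1⟩

/-- The code of the inverse of the image under `α`. -/
theorem r2_rep {x : A} (hx : x ∈ s.T) : ∀ {a : ℕ}, s.C.Rep a x → s.C.Rep (tr a) (s.α x)⁻¹ := by
  obtain ⟨-, -, a3, a4, -, a6, a7⟩ := s.r2_α
  have hg : ∀ g ∈ [s.x12, s.x23, s.x34, s.x45], g⁻¹ = g ∧ ∃ c ∈ [9, 3, 6, 8].map (nth L52.A.one cH),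
      s.C.Rep c g ∧ s.C.Rep (tr c) (s.α g)⁻¹ := by
    have h1 : s.x12⁻¹ = s.x12 ∧ s.x23⁻¹ = s.x23 ∧ s.x34⁻¹ = s.x34 ∧ s.x45⁻¹ = s.x45 :=
      s.toStH.lists.decide s.rep (by decide +kernel)
    simp only [List.forall_mem_cons, a3, a4, a6, a7]
    exact ⟨⟨h1.1, _, by simp, s.rep.nth 9, s.rep.term _ (by decide +kernel)⟩,
      ⟨h1.2.1, _, by simp, s.rep.nth 3, s.rep.term _ (by decide +kernel)⟩,
      ⟨h1.2.2.1, _, by simp, s.rep.nth 6, s.rep.term _ (by decide +kernel)⟩,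
      ⟨h1.2.2.2, _, by simp, s.rep.nth 8, s.rep.term _ (by decide +kernel)⟩, by simp⟩
  have step : ∀ g ∈ [s.x12, s.x23, s.x34, s.x45], ∀ y ∈ s.T, (∀ {a : ℕ}, s.C.Rep a y → s.C.Rep (tr a) (s.α y)⁻¹) →
      ∀ {a : ℕ}, s.C.Rep a (g * y) → s.C.Rep (tr a) (s.α (g * y))⁻¹ := fun g h1 y hy ih a ha => by
    obtain ⟨-, c, hc, h2, h3⟩ := hg g h1
    obtain ⟨b, hb⟩ := s.genT.1.cov y hy
    have h4 := (nbeq_iff _ _).1 ((allL_iff _ _).1 ((s.genT.1.all _).1 tr_ok b hb.1 (hb.2 ▸ hy)) c hc)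
    rw [(ha.eq_iff (h2.mul hb)).2 rfl, h4, map_mul, mul_inv_rev]
    exact (ih hb).mul h3
  induction hx using closure_induction_left with
  | one =>
    intro a ha
    rw [(ha.eq_iff Cod.rep_one).2 rfl, map_one, inv_one]
    exact (show L52.A.one = tr L52.A.one by decide +kernel) ▸ Cod.rep_one
  | mul_left g h1 y hy ih => exact step g h1 y hy ih
  | inv_mul_cancel g h1 y hy ih => rw [(hg g h1).1]; intro a ha; exact step g h1 y hy ih ha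

/-- Decision procedure for statements about `x ∈ T` and the inverse of its image under `α`. -/
theorem r2_all {Ds : List Dom} {Ks : List (Set A)} (hK : s.C.ListsL Ds Ks) (P : A → A → Prop) {p : Fm}
    [hp : ∀ x y, RF Ks (y :: x :: s.e) (P x y) p]
    (h : T_t.dom.all (fun a => force (tr a) fun b => p.ev L52.A Ds (b :: a :: cH)) = true) :
    ∀ x ∈ s.T, P x (s.α x)⁻¹ := fun x hx => by
  obtain ⟨a, ha⟩ := s.genT.1.cov x hx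
  exact hK.decide ((s.r2_rep hx ha).cons (ha.cons s.rep)) ((s.genT.1.all _).1 h a ha.1 (ha.2 ▸ hx))

theorem raw_genT : s.T ≤ closure {x | x ∈ s.T ∧ x * x = 1 ∧
    4 * Nat.card s.T < Nat.card s.Tm * Nat.card (s.T ⊓ C1 x : Subgroup A)} := by
  have hr : s.C.RepL _ [s.x12, s.x23, s.x34, s.x45] := s.rep.pick [9, 3, 6, 8]
  have h1 : s.x12 * s.x12 = 1 ∧ s.x23 * s.x23 = 1 ∧ s.x34 * s.x34 = 1 ∧ s.x45 * s.x45 = 1 :=
    s.toStH.lists.decide s.rep (by decide +kernel)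
  have c1 := s.toStH.lists.count s.rep hr T_ok (fun y => y * s.x12 = s.x12 * y) (n := 128) (by decide +kernel)
  have c2 := s.toStH.lists.count s.rep hr T_ok (fun y => y * s.x23 = s.x23 * y) (n := 128) (by decide +kernel)
  have c3 := s.toStH.lists.count s.rep hr T_ok (fun y => y * s.x34 = s.x34 * y) (n := 128) (by decide +kernel)
  have c4 := s.toStH.lists.count s.rep hr T_ok (fun y => y * s.x45 = s.x45 * y) (n := 128) (by decide +kernel)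
  refine closure_mono fun x hx => ⟨subset_closure hx, ?_⟩
  rw [s.genT.2, s.genTm.2, card_inf]
  simp only [Set.mem_ofPred_eq, List.mem_cons, List.not_mem_nil, or_false] at hx
  rcases hx with rfl | rfl | rfl | rfl
  exacts [⟨h1.1, lt_of_lt_of_eq (by norm_num) (congrArg _ c1.symm)⟩,
    ⟨h1.2.1, lt_of_lt_of_eq (by norm_num) (congrArg _ c2.symm)⟩,
    ⟨h1.2.2.1, lt_of_lt_of_eq (by norm_num) (congrArg _ c3.symm)⟩,
    ⟨h1.2.2.2, lt_of_lt_of_eq (by norm_num) (congrArg _ c4.symm)⟩]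

theorem raw_genP : s.Tm ≤ closure {x | x ∈ s.Tm ∧ x * x = 1 ∧ 4 < Nat.card (s.Tm ⊓ C1 x : Subgroup A)} := by
  have hr : s.C.RepL _ [s.x13, s.x23, s.x34, s.x35, s.x12 * s.x45] :=
    (s.rep.nth 0).cons <| (s.rep.nth 3).cons <| (s.rep.nth 6).cons <| (s.rep.nth 7).cons <|
      (s.rep.term (a := nat_lit 0x10c1043) _ (by decide +kernel)).cons Cod.repL_nil
  have h1 : s.x13 * s.x13 = 1 ∧ s.x23 * s.x23 = 1 ∧ s.x34 * s.x34 = 1 ∧ s.x35 * s.x35 = 1 ∧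
      s.x12 * s.x45 * (s.x12 * s.x45) = 1 := s.toStH.lists.decide s.rep (by decide +kernel)
  have c1 := s.toStH.lists.count s.rep hr Tm_ok (fun y => y * s.x13 = s.x13 * y) (n := 128) (by decide +kernel)
  have c2 := s.toStH.lists.count s.rep hr Tm_ok (fun y => y * s.x23 = s.x23 * y) (n := 64) (by decide +kernel)
  have c3 := s.toStH.lists.count s.rep hr Tm_ok (fun y => y * s.x34 = s.x34 * y) (n := 64) (by decide +kernel)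
  have c4 := s.toStH.lists.count s.rep hr Tm_ok (fun y => y * s.x35 = s.x35 * y) (n := 128) (by decide +kernel)
  have c5 := s.toStH.lists.count s.rep hr Tm_ok (fun y => y * (s.x12 * s.x45) = s.x12 * s.x45 * y) (n := 32)
    (by decide +kernel)
  refine closure_mono fun x hx => ⟨subset_closure hx, ?_⟩
  rw [card_inf]
  simp only [Set.mem_ofPred_eq, List.mem_cons, List.not_mem_nil, or_false] at hx
  rcases hx with rfl | rfl | rfl | rfl | rfl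
  exacts [⟨h1.1, lt_of_lt_of_eq (by norm_num) c1.symm⟩, ⟨h1.2.1, lt_of_lt_of_eq (by norm_num) c2.symm⟩,
    ⟨h1.2.2.1, lt_of_lt_of_eq (by norm_num) c3.symm⟩, ⟨h1.2.2.2.1, lt_of_lt_of_eq (by norm_num) c4.symm⟩,
    ⟨h1.2.2.2.2, lt_of_lt_of_eq (by norm_num) c5.symm⟩]

theorem raw_zD : s.z ∈ ⁅s.T, s.T⁆ := by
  have h : s.x14 ∈ s.T ∧ s.x45 ∈ s.T ∧ s.z = ⁅s.x14, s.x45⁆ := s.toStH.lists.decide s.rep (by decide +kernel)
  exact h.2.2 ▸ commutator_mem_commutator h.1 h.2.1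

theorem raw_bD : s.β ∈ ⁅s.Tm, s.Tm⁆ := by
  have h : s.x13 ∈ s.Tm ∧ s.x34 ∈ s.Tm ∧ s.x23 ∈ s.Tm ∧ s.x35 ∈ s.Tm ∧
      s.x14 * s.x25 = ⁅s.x13, s.x34⁆ * ⁅s.x23, s.x35⁆ := s.toStH.lists.decide s.rep (by decide +kernel)
  rw [β, h.2.2.2.2]
  exact mul_mem (commutator_mem_commutator h.1 h.2.1) (commutator_mem_commutator h.2.2.1 h.2.2.2.1)

theorem raw_cenP : ∀ g ∈ 𝐂[s.Tm], g = 1 ∨ g = s.z ∨ g = s.β ∨ g = s.β * s.z := fun g hg => by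
  have h : (s.z ∈ s.Tm ∧ s.x13 ∈ s.Tm ∧ s.x23 ∈ s.Tm ∧ s.x34 ∈ s.Tm ∧ s.x35 ∈ s.Tm ∧ s.x12 * s.x45 ∈ s.Tm) ∧
      ∀ g ∈ s.H, s.x13 * g = g * s.x13 → s.x23 * g = g * s.x23 → s.x34 * g = g * s.x34 → s.x35 * g = g * s.x35 →
        s.x12 * s.x45 * g = g * (s.x12 * s.x45) → g = 1 ∨ g = s.z ∨ g = s.x14 * s.x25 ∨ g = s.x14 * s.x25 * s.z :=
    s.toStH.lists.decide s.rep (by decide +kernel)
  obtain ⟨⟨h0, h1, h2, h3, h4, h5⟩, h⟩ := h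
  exact h g (s.mem_H.2 (hg _ h0).symm) (hg _ h1) (hg _ h2) (hg _ h3) (hg _ h4) (hg _ h5)

theorem raw_cenD : ∀ g ∈ 𝐂[⁅s.T, s.T⁆], g ∈ s.T := fun g hg => by
  have h : (s.x12 ∈ s.T ∧ s.x23 ∈ s.T ∧ s.x34 ∈ s.T ∧ s.x45 ∈ s.T) ∧
      ∀ g ∈ s.H, ⁅s.x12, s.x23⁆ * g = g * ⁅s.x12, s.x23⁆ → ⁅s.x23, s.x34⁆ * g = g * ⁅s.x23, s.x34⁆ →
        ⁅s.x34, s.x45⁆ * g = g * ⁅s.x34, s.x45⁆ → g ∈ s.T := s.toStH.lists.decide s.rep (by decide +kernel)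
  obtain ⟨⟨h1, h2, h3, h4⟩, h⟩ := h
  exact h g (s.mem_H.2 (hg _ s.raw_zD).symm) (hg _ (commutator_mem_commutator h1 h2))
    (hg _ (commutator_mem_commutator h2 h3)) (hg _ (commutator_mem_commutator h3 h4))

theorem raw_kap : ∀ p ∈ s.T, p * s.α p = 1 →
    (∃ f₁ f₂ f₃ k₁ k₂, k₁ ≠ 1 ∧ k₂ ≠ 1 ∧ k₁ ≠ k₂ ∧ k₁ * k₁ = 1 ∧ k₂ * k₂ = 1 ∧ k₁ * k₂ = k₂ * k₁ ∧
      f₁ * (p * s.α f₁ * p⁻¹)⁻¹ = k₁ ∧ f₂ * (p * s.α f₂ * p⁻¹)⁻¹ = k₂ ∧ f₃ * (p * s.α f₃ * p⁻¹)⁻¹ = k₁ * k₂) ∨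
    ∃ f j, p * s.α j * p⁻¹ = j ∧ j * j ≠ 1 ∧ j * j * (j * j) = 1 ∧ f * (p * s.α f * p⁻¹)⁻¹ = j * j := fun p hp h => by
  obtain ⟨a1, a2, -, -, a5, -⟩ := s.r2_α
  have h1 := s.r2_all Cod.listsL_nil (fun p q => p = q → Let (s.x14 * (p * s.x25 * p⁻¹)⁻¹) fun k₁ =>
    Let (s.x13 * s.x35 * (p * (s.x35 * s.x13) * p⁻¹)⁻¹) fun k₂ => k₁ ≠ 1 ∧ k₂ ≠ 1 ∧ k₁ ≠ k₂ ∧ k₁ * k₁ = 1 ∧
      k₂ * k₂ = 1 ∧ k₁ * k₂ = k₂ * k₁ ∧
      s.x13 * s.x14 * s.x35 * (p * (s.x35 * s.x25 * s.x13) * p⁻¹)⁻¹ = k₁ * k₂) (by decide +kernel) p hp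
    (eq_inv_of_mul_eq_one_left h)
  obtain ⟨h1, h2, h3, h4, h5, h6, h7⟩ := h1
  exact .inl ⟨s.x14, s.x13 * s.x35, s.x13 * s.x14 * s.x35, _, _, h1, h2, h3, h4, h5, h6, by rw [a2],
    by rw [map_mul, a1, a5], by rw [map_mul, map_mul, a1, a2, a5, h7]⟩

theorem raw_nz1 (Y : Subgroup A) (h : C1 s.z ≤ 𝐍[Y]) (hz : s.z ∈ Y) :
    (∀ K : Subgroup A, (∀ w ∈ Y, w * w = 1 → w ≠ 1 → C1 w ≤ K) → K = ⊤) ∨ Y ⊓ s.T ≤ zpowers s.z := by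
  refine or_iff_not_imp_right.2 fun hn K hK => ?_
  obtain ⟨p, hp, hpz⟩ := SetLike.not_le_iff_exists.1 hn
  have hr : s.C.RepL _ [s.x12, s.x23, s.x34, s.x45] := s.rep.pick [9, 3, 6, 8]
  have h1 : (∀ p ∈ s.T, (p = 1 ∨ p = s.z) ∨
      ((p = s.x14 ∨ p * s.z = s.x14) ∨ (p = s.x25 ∨ p * s.z = s.x25) ∨ p = s.x14 * s.x25 ∨ p * s.z = s.x14 * s.x25) ∨
      ∃ g ∈ {x | x ∈ [s.x12, s.x23, s.x34, s.x45]}, Let ⁅g, p⁆ fun q =>
        ((q = s.x14 ∨ q * s.z = s.x14) ∨ (q = s.x25 ∨ q * s.z = s.x25) ∨ q = s.x14 * s.x25 ∨ q * s.z = s.x14 * s.x25) ∨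
        ∃ g ∈ {x | x ∈ [s.x12, s.x23, s.x34, s.x45]}, Let ⁅g, q⁆ fun r =>
          (r = s.x14 ∨ r * s.z = s.x14) ∨ (r = s.x25 ∨ r * s.z = s.x25) ∨ r = s.x14 * s.x25 ∨
            r * s.z = s.x14 * s.x25) ∧
      (s.x14 * s.x14 = 1 ∧ s.x14 ≠ 1) ∧ (s.x25 * s.x25 = 1 ∧ s.x25 ≠ 1) ∧ s.x43 ∈ s.H ∧ s.x34 ∈ s.H ∧
      s.x14 = ⁅s.x34, ⁅s.x43, s.x14 * s.x25⁆⁆ := (hr.lists.cons s.toStH.lists).decide s.rep (by decide +kernel)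
  obtain ⟨h1, h2, h3, h4, h5, h6⟩ := h1
  have hc : ∀ g ∈ s.H, ∀ q ∈ Y, ⁅g, q⁆ ∈ Y := fun g hg q hq =>
    mul_mem ((mem_normalizer_iff.1 (h hg) q).1 hq) (inv_mem hq)
  have hzK := hK _ hz s.z_sq s.z_ne
  have k1 : s.x14 ∈ Y → K = ⊤ := fun h7 => gen14 s.toStG hzK (hK _ h7 h2.1 h2.2)
  have k2 : s.x25 ∈ Y → K = ⊤ := fun h7 => gen14 s.toStG.flip hzK (hK _ h7 h3.1 h3.2)
  have k3 : s.x14 * s.x25 ∈ Y → K = ⊤ := fun h7 => k1 (by rw [h6]; exact hc _ h5 _ (hc _ h4 _ h7))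
  have k : ∀ q ∈ Y, (q = s.x14 ∨ q * s.z = s.x14) ∨ (q = s.x25 ∨ q * s.z = s.x25) ∨ q = s.x14 * s.x25 ∨
      q * s.z = s.x14 * s.x25 → K = ⊤ := by
    rintro q hq ((e | e) | (e | e) | e | e)
    exacts [k1 (e ▸ hq), k1 (e ▸ mul_mem hq hz), k2 (e ▸ hq), k2 (e ▸ mul_mem hq hz), k3 (e ▸ hq),
      k3 (e ▸ mul_mem hq hz)]
  rcases h1 p (mem_inf.1 hp).2 with h7 | h7 | ⟨g, hg, h7 | ⟨g', hg', h7⟩⟩
  · exact absurd ((mem_zp s.z_sq).2 h7) hpz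
  · exact k _ (mem_inf.1 hp).1 h7
  · exact k _ (hc _ (s.T_le (mem_clos hg)) _ (mem_inf.1 hp).1) h7
  · exact k _ (hc _ (s.T_le (mem_clos hg')) _ (hc _ (s.T_le (mem_clos hg)) _ (mem_inf.1 hp).1)) h7

theorem raw_nz2 : ∀ p ∈ s.T, p ∈ zpowers s.z ∨
    ∃ c ∈ C1 s.z, c⁻¹ * (p * c * p⁻¹) ∈ s.T ∧ c⁻¹ * (p * c * p⁻¹) ∉ zpowers s.z := fun p hp => by
  have hr : s.C.RepL _ [s.x12, s.x23, s.x34, s.x45, s.x43, s.x32] := s.rep.pick [9, 3, 6, 8, 10, 11]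
  have h : ∀ p ∈ s.T, (p = 1 ∨ p = s.z) ∨ ∃ c ∈ {x | x ∈ [s.x12, s.x23, s.x34, s.x45, s.x43, s.x32]},
      c⁻¹ * (p * c * p⁻¹) ∈ s.T ∧ ¬ (c⁻¹ * (p * c * p⁻¹) = 1 ∨ c⁻¹ * (p * c * p⁻¹) = s.z) :=
    (hr.lists.cons s.toStH.lists).decide s.rep (by decide +kernel)
  simp only [mem_zp s.z_sq]
  exact (h p hp).imp_right fun ⟨c, hc, h1⟩ => ⟨c, s.H_eq'.ge (mem_clos hc), h1⟩

theorem raw_nz3 : ∀ p ∈ s.T, ∃ c ∈ C1 s.z, c⁻¹ * (p * s.α c * p⁻¹) ∈ s.T ∧ c⁻¹ * (p * s.α c * p⁻¹) ∉ zpowers s.z :=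
    fun p hp => by
  have h : s.x12 ∈ s.H ∧ ∀ p ∈ s.T, s.x12⁻¹ * (p * s.x45 * p⁻¹) ∈ s.T ∧
      ¬ (s.x12⁻¹ * (p * s.x45 * p⁻¹) = 1 ∨ s.x12⁻¹ * (p * s.x45 * p⁻¹) = s.z) :=
    s.toStH.lists.decide s.rep (by decide +kernel)
  refine ⟨s.x12, h.1, ?_⟩
  rw [s.r2_α.2.2.2.2.2.2, mem_zp s.z_sq]
  exact h.2 p hp

end HeF

end Cfsg.Agent.Wz
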