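import Mathlib
import Cfsg.Agent.Wz.EA

/-!
# The wreath configuration: the conjugates of the diagonal and the centraliser of `t`
-/

set_option autoImplicit false
set_option linter.unusedSectionVars false

namespace Cfsg.Agent.Wz

open Cfsg.Agent.Loc.Mss Cfsg.Agent.Gold Cfsg.Agent.Wr Subgroup
open scoped commutatorElement

universe u

variable {G : Type u} [Group G] [Finite G]

namespace E1

theorem mem_C1 {a g : G} : g ∈ C1 a ↔ g * a = a * g := by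
  rw [mem_centralizer_iff]
  exact ⟨fun h => (h a rfl).symm, fun h x hx => by rw [Set.mem_singleton_iff.1 hx, h]⟩

/-- The diagonal map `a ↦ a t a t`. -/
def dl (A : Subgroup G) (t : G) (tt : t * t = 1) (hc : ∀ a ∈ A, ∀ b ∈ A, a * (t * b * t) = t * b * t * a) :
    A →* G :=
  MonoidHom.mk' (fun a => a * (t * a * t)) fun a b => by
    have h := hc b b.2 a a.2
    have e1 : t * ((a : G) * b) * t = t * a * t * (t * b * t) := by
      calc _ = t * a * (t * t) * b * t := by rw [tt]; group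
        _ = _ := by group
    show (a : G) * b * (t * ((a : G) * b) * t) = a * (t * a * t) * (b * (t * b * t))
    rw [e1]
    calc _ = a * (b * (t * a * t)) * (t * b * t) := by group
      _ = _ := by rw [h]; group

variable {A : Subgroup G} {t : G} {tt : t * t = 1} {hc : ∀ a ∈ A, ∀ b ∈ A, a * (t * b * t) = t * b * t * a}

theorem dl_apply (a : A) : dl A t tt hc a = a * (t * a * t) := rfl

theorem dl_comm (a : A) : dl A t tt hc a * t = t * dl A t tt hc a := by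
  rw [dl_apply]
  calc _ = a * t * a * (t * t) := by group
    _ = (t * t) * a * t * a := by rw [tt]; group
    _ = t * (t * a * t * a) := by group
    _ = _ := by rw [← hc a a.2 a a.2]

theorem ker_le (a : A) (h : dl A t tt hc a = 1) : (a : G) ∈ 𝐂[A] := mem_cent.2 fun b hb => by
  have e1 : (a : G) = (t * a * t)⁻¹ := eq_inv_of_mul_eq_one_left h
  have e2 := hc b hb a a.2
  have e3 : b * (t * (a : G) * t)⁻¹ = (t * (a : G) * t)⁻¹ * b := ((Commute.inv_right e2 : Commute _ _) : _)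
  rw [← e1] at e3
  exact e3

theorem range_le_of_comm (hp : ⁅A, A⁆ = A) {N : Subgroup G}
    (h : ∀ a b : A, ⁅dl A t tt hc a, dl A t tt hc b⁆ ∈ N) (a : A) : dl A t tt hc a ∈ N := by
  have h1 : A ≤ (N.comap (dl A t tt hc)).map A.subtype := by
    refine hp.ge.trans (commutator_le.2 fun x hx y hy => ⟨⁅(⟨x, hx⟩ : A), ⟨y, hy⟩⁆, ?_, rfl⟩)
    show dl A t tt hc _ ∈ N
    rw [map_commutatorElement]
    exact h _ _
  obtain ⟨b, hb, e⟩ := h1 a.2
  rw [← Subtype.ext (show (b : G) = a from e)]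
  exact hb

theorem comm_mem {N : Subgroup G} {x y : G} (hx : x ∈ 𝐍[N]) (hy : y ∈ 𝐍[N]) (h : x ∈ N ∨ y ∈ N ∨ x * y ∈ N) :
    ⁅x, y⁆ ∈ N := by
  rw [commutatorElement_def]
  rcases h with h | h | h
  · have := mul_mem h (conj_mem_of_norm hy (inv_mem h))
    simpa [mul_assoc] using this
  · exact mul_mem (conj_mem_of_norm hx h) (inv_mem h)
  · have := mul_mem h (inv_mem (conj_mem_of_norm hy h))
    simpa [mul_assoc] using this

theorem card_split (f : A →* G) : Nat.card A = Nat.card f.range * Nat.card f.ker := by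
  rw [card_eq_card_quotient_mul_card_subgroup f.ker,
    Nat.card_congr (QuotientGroup.quotientKerEquivRange f).toEquiv]

variable (e : En G)

theorem range_eq : (dl e.A e.t e.tt e.comm).range = e.L := by
  ext x
  rw [e.diag]
  exact ⟨fun ⟨a, h⟩ => ⟨a, a.2, h.symm⟩, fun ⟨a, ha, h⟩ => ⟨⟨a, ha⟩, h.symm⟩⟩

theorem ker_ge (c : e.A) (h : (c : G) ∈ 𝐂[e.A]) : dl e.A e.t e.tt e.comm c = 1 := by
  refine e.zL _ ((range_eq e).le ⟨c, rfl⟩) (mem_cent.2 fun x hx => ?_)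
  obtain ⟨a, rfl⟩ := (range_eq e).ge hx
  rw [← map_mul, ← map_mul]
  exact congrArg _ (Subtype.ext (mem_cent.1 h a a.2))

theorem card_L : Nat.card e.L * Nat.card (e.A ⊓ 𝐂[e.A] : Subgroup G) ≤ Nat.card e.A := by
  rw [card_split (dl e.A e.t e.tt e.comm), range_eq]
  refine Nat.mul_le_mul_left _ (Nat.card_le_card_of_injective
    (fun x => ⟨⟨x.1, x.2.1⟩, ker_ge e _ x.2.2⟩) fun x y h => ?_)
  exact Subtype.ext (congrArg (fun v => v.1.1) h)

theorem card_range : Nat.card A ≤ Nat.card (dl A t tt hc).range * Nat.card (A ⊓ 𝐂[A] : Subgroup G) := by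
  rw [card_split (dl A t tt hc)]
  refine Nat.mul_le_mul_left _ (Nat.card_le_card_of_injective
    (fun x => ⟨x.1.1, x.1.2, ker_le _ x.2⟩) fun x y h => ?_)
  exact Subtype.ext (Subtype.ext (congrArg (fun v => v.1) h))

theorem comm_mem_L {x y : G} (hx : x ∈ e.L ⊔ zpowers e.t) (hy : y ∈ e.L ⊔ zpowers e.t) : ⁅x, y⁆ ∈ e.L := by
  have hz : zpowers e.t ≤ 𝐂[e.L] := zpowers_le.2 e.t_cent
  obtain ⟨l, hl, p, hp, rfl⟩ := (mem_sup_norm (norm_of_cent hz)).1 hx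
  obtain ⟨m, hm, q, hq, rfl⟩ := (mem_sup_norm (norm_of_cent hz)).1 hy
  have h1 : Commute m p := mem_cent.1 (hz hp) m hm
  have h2 : Commute l q := mem_cent.1 (hz hq) l hl
  have h3 : Commute p q := by
    obtain ⟨i, rfl⟩ := mem_zpowers_iff.1 hp
    obtain ⟨j, rfl⟩ := mem_zpowers_iff.1 hq
    exact Commute.zpow_zpow_self _ _ _
  have h4 : p * (m * q) * p⁻¹ = m * q := by
    rw [mul_inv_eq_iff_eq_mul]; exact (h1.symm.mul_right h3).eq
  have h5 : q * l⁻¹ * q⁻¹ = l⁻¹ := by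
    rw [mul_inv_eq_iff_eq_mul]; exact h2.inv_left.symm.eq
  have : ⁅l * p, m * q⁆ = l * m * l⁻¹ * m⁻¹ := by
    rw [commutatorElement_def]
    calc _ = l * (p * (m * q) * p⁻¹) * l⁻¹ * (m * q)⁻¹ := by group
      _ = l * m * (q * l⁻¹ * q⁻¹) * m⁻¹ := by rw [h4]; group
      _ = _ := by rw [h5]
  rw [this]
  exact mul_mem (mul_mem (mul_mem hl hm) (inv_mem hl)) (inv_mem hm)

theorem range_le {T P : Subgroup G} {z β : G} (lw : Lw A T P z β)
    (hc : ∀ a ∈ A, ∀ b ∈ A, a * (e.t * b * e.t) = e.t * b * e.t * a) : (dl A e.t e.tt hc).range ≤ e.L := by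
  have c1 : ∀ a, dl A e.t e.tt hc a ∈ C1 e.t := fun a => mem_C1.2 (dl_comm a)
  have n1 : C1 e.t ≤ 𝐍[e.L ⊔ 𝐂[e.L]] := norm_sup e.nL (norm_cent e.nL)
  have h1 : ∀ a, dl A e.t e.tt hc a ∈ e.L ⊔ 𝐂[e.L] :=
    range_le_of_comm lw.perf fun a b => comm_mem (n1 (c1 a)) (n1 (c1 b)) (e.idxL _ (c1 a) _ (c1 b))
  have zA : z ∈ A := lw.syl.le lw.zT
  have zn : z ∉ 𝐂[A] := fun h => lw.z1 (lw.two_eq zA ⟨1, by rw [pow_one, sq, lw.zz]⟩ h)
  have h2 : A ≤ ((e.L ⊔ zpowers e.t).comap (dl A e.t e.tt hc)).map A.subtype := by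
    refine lw.ncl zA zn fun l hl => ⟨⟨l * z * l⁻¹, mul_mem (mul_mem hl zA) (inv_mem hl)⟩, ?_, rfl⟩
    set a : A := ⟨l * z * l⁻¹, mul_mem (mul_mem hl zA) (inv_mem hl)⟩
    have ha : a * a = 1 := Subtype.ext (by
      show l * z * l⁻¹ * (l * z * l⁻¹) = 1
      calc _ = l * (z * z) * l⁻¹ := by group
        _ = 1 := by rw [lw.zz]; group)
    show dl A e.t e.tt hc a ∈ e.L ⊔ zpowers e.t
    rcases e.two_L (h1 a) (dl_comm a) ⟨1, by rw [pow_one, sq, ← map_mul, ha, map_one]⟩ with h | h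
    · exact mem_sup_left h
    · have := mul_mem (mem_sup_left h : _ ∈ e.L ⊔ zpowers e.t) (mem_sup_right (mem_zpowers e.t))
      rwa [mul_assoc, e.tt, mul_one] at this
  have h3 : ∀ a, dl A e.t e.tt hc a ∈ e.L ⊔ zpowers e.t := fun a => by
    obtain ⟨b, hb, e⟩ := h2 a.2
    rw [← Subtype.ext (show (b : G) = a from e)]
    exact hb
  rintro _ ⟨a, rfl⟩
  exact range_le_of_comm lw.perf (fun a b => comm_mem_L e (h3 a) (h3 b)) a

theorem tt' (g : G) : g * e.t * g⁻¹ * (g * e.t * g⁻¹) = 1 := by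
  calc _ = g * (e.t * e.t) * g⁻¹ := by group
    _ = 1 := by rw [e.tt]; group

theorem sw_mem {s a : G} (h : e.Sw s) (hs : s * s = 1) (ha : a ∈ e.A) : s * a * s ∈ e.B := by
  have := conj_mem_cj (g := s) ha
  rwa [h.1, inv_eq_of_mul_eq_one_right hs] at this

theorem hc_cj {g : G} (h : e.Sw (g * e.t * g⁻¹)) :
    ∀ a ∈ cj(g⁻¹, e.A), ∀ b ∈ cj(g⁻¹, e.A), a * (e.t * b * e.t) = e.t * b * e.t * a := fun a ha b hb => by
  rw [mem_cj, inv_inv] at ha hb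
  have h1 := mem_cent.1 (e.B_cent (sw_mem e h (tt' e g) hb)) _ ha
  calc _ = g⁻¹ * (g * a * g⁻¹ * (g * e.t * g⁻¹ * (g * b * g⁻¹) * (g * e.t * g⁻¹))) * g := by group
    _ = _ := by rw [h1]; group

theorem range_cj {g : G} (h : e.Sw (g * e.t * g⁻¹)) : (dl cj(g⁻¹, e.A) e.t e.tt (hc_cj e h)).range = e.L := by
  refine eq_of_le_of_card_ge (range_le e (e.lw.cj g⁻¹) _) ?_
  have h1 := card_range (A := cj(g⁻¹, e.A)) (t := e.t) (tt := e.tt) (hc := hc_cj e h)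
  rw [← cj_cent, ← cj_inf, card_cj, card_cj] at h1
  exact Nat.le_of_mul_le_mul_right ((card_L e).trans h1) Nat.card_pos

end E1

open E1

namespace En

variable (e : En G)

theorem delta {g : G} (h : e.Sw (g * e.t * g⁻¹)) (x : G) :
    x ∈ cj(g, e.L) ↔ ∃ a ∈ e.A, x = a * (g * e.t * g⁻¹ * a * (g * e.t * g⁻¹)) := by
  rw [mem_cj, ← range_cj e h]
  constructor
  · rintro ⟨a, ha⟩
    have h1 := a.2
    rw [mem_cj, inv_inv] at h1
    refine ⟨_, h1, ?_⟩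
    rw [dl_apply] at ha
    calc x = g * (g⁻¹ * x * g) * g⁻¹ := by group
      _ = _ := by rw [← ha]; group
  · rintro ⟨a, ha, rfl⟩
    refine ⟨⟨_, conj_mem_cj (g := g⁻¹) ha⟩, ?_⟩
    rw [dl_apply]
    show g⁻¹ * a * g⁻¹⁻¹ * (e.t * (g⁻¹ * a * g⁻¹⁻¹) * e.t) = _
    group

theorem mem_Ns_of_pure {g a : G} (h : e.Sw (g * e.t * g⁻¹)) (ha : a ∈ e.A) (hc : a ∉ 𝐂[e.A])
    (hp : e.Pure (g * a * g⁻¹)) : g ∈ e.Ns := by
  have k : ∀ H : Subgroup G, e.N0 ≤ 𝐍[H] → g * a * g⁻¹ ∈ H → cj(g, e.A) ≤ H := fun H hn hH => by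
    rw [cj_le_iff_le_inv]
    refine e.lw.ncl ha hc fun l hl => ?_
    have h1 : l * (e.t * l * e.t) ∈ e.L := (e.diag _).2 ⟨l, hl, rfl⟩
    obtain ⟨b, hb, h2⟩ := (e.delta h _).1 (conj_mem_cj (g := g) h1)
    have h3 : g * (l * (e.t * l * e.t)) * g⁻¹ ∈ e.N0 := by
      rw [h2]
      exact e.AB_le (mul_mem (mem_sup_left hb) (mem_sup_right (sw_mem e h (tt' e g) hb)))
    have h4 := conj_mem_of_norm (hn h3) hH
    have h5 := e.comm a ha l hl
    rw [mem_cj, inv_inv]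
    have : g * (l * a * l⁻¹) * g⁻¹ =
        g * (l * (e.t * l * e.t)) * g⁻¹ * (g * a * g⁻¹) * (g * (l * (e.t * l * e.t)) * g⁻¹)⁻¹ := by
      calc _ = g * l * (a * (e.t * l * e.t)) * (e.t * l * e.t)⁻¹ * l⁻¹ * g⁻¹ := by group
        _ = _ := by rw [h5]; group
    rw [this]
    exact h4
  have kB : cj(g, e.B) = cj(g * e.t * g⁻¹, cj(g, e.A)) := by
    show cj(g, cj(e.t, e.A)) = _
    rw [cj_cj, cj_cj, inv_mul_cancel_right]
  rw [e.mem_Ns]
  rcases hp with hp | hp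
  · have h1 := cj_eq_of_le (k e.A inf_le_left hp)
    exact Or.inl ⟨cj_eq_iff.1 h1, cj_eq_iff.1 (by rw [kB, h1, h.1])⟩
  · have h1 : cj(g, e.A) = e.B := eq_of_le_of_card_ge (k e.B inf_le_right hp) (by
      show Nat.card cj(e.t, e.A) ≤ _
      rw [card_cj, card_cj])
    exact Or.inr ⟨h1, by rw [kB, h1, h.2]⟩

end En

namespace E1

variable (e : En G)

theorem z_nc : e.z * e.t ≠ e.t * e.z := fun h => by
  have zA : e.z ∈ e.A := e.lw.syl.le e.lw.zT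
  refine e.lw.z1 (e.eq_one zA (e.mem_B.2 ?_) ⟨1, by rw [pow_one, sq, e.lw.zz]⟩)
  rwa [← h, mul_assoc, e.tt, mul_one]

theorem eq_z {w : G} (hw : w * w = 1) (hL : e.z * w ∈ 𝐂[e.L]) (ht : e.z * w ∈ C1 e.t) : w = e.z := by
  have zA : e.z ∈ e.A := e.lw.syl.le e.lw.zT
  have zi : e.z⁻¹ = e.z := inv_eq_of_mul_eq_one_right e.lw.zz
  have inv : e.z * (e.z * w) * e.z⁻¹ = (e.z * w)⁻¹ := by
    rw [← mul_assoc, e.lw.zz, one_mul, mul_inv_rev, inv_eq_of_mul_eq_one_right hw]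
  haveI : Fact (Nat.Prime 2) := ⟨Nat.prime_two⟩
  obtain ⟨k, hk⟩ := exists_pow_coprime (p := 2) (e.z * w)
  have ho := e.odd _ (pow_mem hL (2 ^ k)) (mem_C1.1 (pow_mem ht (2 ^ k))) (Nat.coprime_two_right.1 hk)
  have h1 : e.z * (e.z * w) ^ 2 ^ k * e.z⁻¹ = ((e.z * w) ^ 2 ^ k)⁻¹ := by rw [← conj_pow, inv, inv_pow]
  rw [mem_cent.1 ho _ zA, mul_inv_cancel_right] at h1
  have h2 : ((e.z * w) ^ 2 ^ k) ^ 2 = 1 := by
    rw [sq]; nth_rewrite 2 [h1]; exact mul_inv_cancel _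
  have h3 : (e.z * w) ^ 2 ^ k = 1 :=
    orderOf_eq_one_iff.1 (hk.eq_one_of_dvd (orderOf_dvd_of_pow_eq_one h2))
  rcases e.two _ hL (mem_C1.1 ht) ⟨k, h3⟩ with h | h
  · rw [← zi]; exact (eq_inv_of_mul_eq_one_right h)
  · rw [h, e.ti, mul_inv_eq_iff_eq_mul] at inv
    exact absurd inv (z_nc e)

/-- The Sylow 2-subgroup of the diagonal. -/
def TL : Subgroup G := (e.T.subgroupOf e.A).map (dl e.A e.t e.tt e.comm)

theorem syl_TL : Syl 2 (TL e) e.L := by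
  haveI : Fact (Nat.Prime 2) := ⟨Nat.prime_two⟩
  have h := (e.lw.syl.subgroupOf le_rfl).map (dl e.A e.t e.tt e.comm)
  rwa [subgroupOf_self, ← MonoidHom.range_eq_map, range_eq] at h

theorem mem_TL {a : G} (ha : a ∈ e.T) : a * (e.t * a * e.t) ∈ TL e := ⟨⟨a, e.lw.syl.le ha⟩, ha, rfl⟩

theorem z_cent : e.z ∈ 𝐂[TL e] := mem_cent.2 (by
  rintro _ ⟨a, ha, rfl⟩
  rw [dl_apply]
  have h1 := mem_cent.1 e.lw.zc _ (show (a : G) ∈ e.T from ha)
  have h2 := e.comm _ (e.lw.syl.le e.lw.zT) a a.2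
  rw [mul_assoc, ← h2, ← mul_assoc, h1, mul_assoc])

theorem cen' {g : G} (ht : g ∈ C1 e.t) (hg : g ∈ 𝐂[TL e]) :
    g ∈ 𝐂[e.L] ∨ g * (e.z * (e.t * e.z * e.t)) ∈ 𝐂[e.L] :=
  e.cenL g ht fun _ ha => (mem_cent.1 hg _ (mem_TL e ha)).symm

theorem fix_u {k : G} (hn : k ∈ 𝐍[TL e]) :
    k * (e.z * (e.t * e.z * e.t)) * k⁻¹ = e.z * (e.t * e.z * e.t) := by
  have zA : e.z ∈ e.A := e.lw.syl.le e.lw.zT
  have hu := mem_TL e e.lw.zT
  have uu : e.z * (e.t * e.z * e.t) * (e.z * (e.t * e.z * e.t)) = 1 := by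
    have : (⟨e.z, zA⟩ : e.A) * ⟨e.z, zA⟩ = 1 := Subtype.ext e.lw.zz
    exact (map_mul (dl e.A e.t e.tt e.comm) ⟨e.z, zA⟩ ⟨e.z, zA⟩).symm.trans (by rw [this, map_one])
  have uc : e.z * (e.t * e.z * e.t) ∈ 𝐂[TL e] := mem_cent.2 (by
    rintro _ ⟨a, ha, rfl⟩
    have : a * (⟨e.z, zA⟩ : e.A) = ⟨e.z, zA⟩ * a := Subtype.ext (mem_cent.1 e.lw.zc _ (show (a : G) ∈ e.T from ha))
    exact (map_mul (dl e.A e.t e.tt e.comm) a ⟨e.z, zA⟩).symm.trans
      (by rw [this]; exact map_mul (dl e.A e.t e.tt e.comm) _ _))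
  have h1 := (syl_TL e).le (conj_mem_of_norm hn hu)
  rcases cen' e (e.L_cent h1) (conj_mem_of_norm (norm_cent le_rfl hn) uc) with h | h
  · have h2 := e.zL _ h1 h
    rw [mul_inv_eq_one, mul_eq_left] at h2
    refine absurd ?_ (z_nc e)
    calc e.z * e.t = (e.z * (e.t * e.z * e.t)) * e.t⁻¹ * e.z⁻¹ := by group
      _ = _ := by rw [h2, one_mul, e.ti, inv_eq_of_mul_eq_one_right e.lw.zz]
  · have h2 := e.zL _ (mul_mem h1 ((syl_TL e).le hu)) h
    rw [eq_inv_of_mul_eq_one_left h2, inv_eq_of_mul_eq_one_right uu]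

theorem pure {k : G} (ht : k ∈ C1 e.t) (hn : k ∈ 𝐍[TL e]) : e.Pure (k * e.z * k⁻¹) := by
  have zA : e.z ∈ e.A := e.lw.syl.le e.lw.zT
  have kt : k * e.t * k⁻¹ = e.t := by rw [mem_C1.1 ht, mul_inv_cancel_right]
  have wc : k * e.z * k⁻¹ ∈ 𝐂[TL e] := conj_mem_of_norm (norm_cent le_rfl hn) (z_cent e)
  have ww : k * e.z * k⁻¹ * (k * e.z * k⁻¹) = 1 := by
    calc _ = k * (e.z * e.z) * k⁻¹ := by group
      _ = 1 := by rw [e.lw.zz]; group
  have hu : k * e.z * k⁻¹ * (e.t * (k * e.z * k⁻¹) * e.t) = e.z * (e.t * e.z * e.t) := by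
    rw [← fix_u e hn]
    nth_rewrite 1 [← kt]
    nth_rewrite 2 [← kt]
    group
  generalize k * e.z * k⁻¹ = w at wc ww hu
  have h1 : w * e.t * w = e.z * e.t * e.z := mul_right_cancel (b := e.t) (by simpa [mul_assoc] using hu)
  have ct : e.z * w ∈ C1 e.t := mem_C1.2 (by
    calc _ = e.z * (w * e.t * w) * w⁻¹ := by group
      _ = e.z * e.z * e.t * e.z * w⁻¹ := by rw [h1]; group
      _ = _ := by rw [e.lw.zz, inv_eq_of_mul_eq_one_right ww]; group)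
  rcases cen' e ct (mul_mem (z_cent e) wc) with h | h
  · exact Or.inl (eq_z e ww h ct ▸ zA)
  · have h2 : e.z * w * (e.z * (e.t * e.z * e.t)) = e.z * (e.t * w * e.t) := by
      rw [← hu, mul_assoc, ← mul_assoc w w, ww, one_mul]
    have h3 := mul_mem ct (e.L_cent ((e.diag _).2 ⟨_, zA, rfl⟩))
    rw [h2] at h h3
    refine Or.inr (e.mem_B.2 (eq_z e ?_ h h3 ▸ zA))
    calc _ = e.t * w * (e.t * e.t) * w * e.t := by group
      _ = e.t * (w * w) * e.t := by rw [e.tt]; group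
      _ = 1 := by rw [ww, mul_one, e.tt]

end E1

namespace En

variable (e : En G)

theorem cent_le : C1 e.t ≤ e.Ns := fun g hg => by
  haveI : Fact (Nat.Prime 2) := ⟨Nat.prime_two⟩
  have zA : e.z ∈ e.A := e.lw.syl.le e.lw.zT
  obtain ⟨m, hm, k, hk, rfl⟩ := (syl_TL e).frattini (e.nL hg)
  have hkt : k ∈ C1 e.t := by
    have := mul_mem (inv_mem (e.L_cent hm)) hg
    rwa [inv_mul_cancel_left] at this
  refine mul_mem (mem_sup_left (e.AB_le (e.L_le hm))) (e.mem_Ns_of_pure ?_ zA (fun h => ?_) (pure e hkt hk))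
  · rw [mem_C1.1 hkt, mul_inv_cancel_right]
    exact e.sw_t
  · exact e.lw.z1 (e.lw.two_eq zA ⟨1, by rw [pow_one, sq, e.lw.zz]⟩ h)

end En

end Cfsg.Agent.Wz
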