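import Mathlib
import Cfsg.Agent.Wz.E1

/-! The Sylow 2-subgroup of the stabiliser of the pair of factors is Sylow in the whole group. -/

set_option autoImplicit false
set_option linter.unusedSectionVars false

namespace Cfsg.Agent.Wz

open Cfsg.Agent.Loc.Mss Cfsg.Agent.Gold Cfsg.Agent.Wr Subgroup

universe u

variable {G : Type u} [Group G] [Finite G]

namespace E3

variable {e : En G} {S : Subgroup G}

theorem nT (h : e.Sy S) {s : G} (hs : s ∈ S) (h0 : s ∈ e.N0) : s ∈ 𝐍[e.T] :=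
  h.infA ▸ norm_inf (X := zpowers s) (zpowers_le.2 (le_normalizer hs)) (zpowers_le.2 h0.1) (mem_zpowers s)

theorem two_z (e : En G) : Two e.z := ⟨1, by rw [pow_one, sq, e.lw.zz]⟩

theorem zA (e : En G) : e.z ∈ e.A := e.lw.syl.le e.lw.zT

theorem comm_z (h : e.Sy S) {s : G} (hs : s ∈ S) : s * e.z = e.z * s ↔ s ∈ e.N0 := by
  rw [← mul_inv_eq_iff_eq_mul]
  refine ⟨fun k => by_contra fun h0 => e.lw.z1 (e.eq_one (zA e) ?_ (two_z e)), fun h0 => ?_⟩
  · rw [← k, ← (e.sw_of (h.syl.le hs) h0).1]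
    exact conj_mem_cj (zA e)
  · have hn := nT h hs h0
    refine (e.lw.eq_z (conj_mem_of_norm hn e.lw.zT)
      (conj_mem_of_norm (norm_cent le_rfl hn) e.lw.zc)).resolve_left fun k => e.lw.z1 ?_
    rwa [mul_inv_eq_one, mul_eq_left] at k

theorem comm_mem (h : e.Sy S) {s r : G} (hs : s ∈ S) (hr : r ∈ S) : s * r * s⁻¹ * r⁻¹ ∈ e.N0 := by
  by_cases h1 : s ∈ e.N0
  · rw [mul_assoc, mul_assoc, ← mul_assoc r]
    exact mul_mem h1 (conj_mem_of_norm (e.Ns_norm (h.syl.le hr)) (inv_mem h1))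
  by_cases h2 : r ∈ e.N0
  · exact mul_mem (conj_mem_of_norm (e.Ns_norm (h.syl.le hs)) h2) (inv_mem h2)
  rw [mul_assoc (s * r)]
  exact mul_mem (e.mul_mem_N0 (e.sw_of (h.syl.le hs) h1) (e.sw_of (h.syl.le hr) h2))
    (e.mul_mem_N0 (e.sw_of (h.syl.le (inv_mem hs)) (mt inv_mem_iff.1 h1))
      (e.sw_of (h.syl.le (inv_mem hr)) (mt inv_mem_iff.1 h2)))

theorem norm_le (h : e.Sy S) {y : G} (hy : y ∈ 𝐍[S]) : y ∈ e.Ns := by
  have hz : e.z ∈ S := h.le0 (mem_sup_left e.lw.zT)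
  have cj : ∀ s, y * s * y⁻¹ * (y * e.z * y⁻¹) = y * e.z * y⁻¹ * (y * s * y⁻¹) ↔ s * e.z = e.z * s := fun s => by
    rw [conj_mul, conj_mul, mul_left_inj, mul_right_inj]
  have hw := conj_mem_of_norm hy hz
  have ht := conj_mem_of_norm hy h.tS
  have nt := mt (cj e.t).1 (mt (comm_z h h.tS).1 e.sw_t.notMem)
  have cm : ∀ s ∈ S, ∀ r ∈ S, s * r * s⁻¹ * r⁻¹ * (y * e.z * y⁻¹) = y * e.z * y⁻¹ * (s * r * s⁻¹ * r⁻¹) :=
    fun s hs r hr => by
      have hs' := conj_mem_of_norm' hy hs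
      have hr' := conj_mem_of_norm' hy hr
      have := (cj _).2 ((comm_z h (mul_mem (mul_mem (mul_mem hs' hr') (inv_mem hs')) (inv_mem hr'))).2
        (comm_mem h hs' hr'))
      rwa [show y * (y⁻¹ * s * y * (y⁻¹ * r * y) * (y⁻¹ * s * y)⁻¹ * (y⁻¹ * r * y)⁻¹) * y⁻¹ =
        s * r * s⁻¹ * r⁻¹ by group] at this
  have h0 : y * e.z * y⁻¹ ∈ e.N0 := by
    by_contra h0
    have h1 := h.sw _ hw h0
    have h2 : cj(y, e.S0) ≤ S ⊓ C1 (y * e.z * y⁻¹) := cj_le_iff.2 fun a ha =>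
      ⟨conj_mem_of_norm hy (h.le0 ha), mem_centralizer_singleton_iff.2 ((cj a).2 ((comm_z h (h.le0 ha)).2
        (e.AB_le (sup_le_sup e.lw.syl.le e.lwB.syl.le ha))))⟩
    have h3 := card_le_of_le h2
    rw [card_cj, En.S0, e.card_sup le_rfl le_rfl, e.card_T2] at h3
    have h4 := e.lw.four_lt.trans_le (card_le_of_le e.lw.PT)
    nlinarith
  have pure : y * e.z * y⁻¹ = e.z ∨ y * e.z * y⁻¹ = e.z2 := by
    generalize y * e.z * y⁻¹ = w at hw nt cm h0
    have k : ∀ a ∈ e.T, w * a⁻¹ * w⁻¹ = a⁻¹ ∧ w * (e.t * a * e.t) * w⁻¹ = e.t * a * e.t := fun a ha => by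
      have hb : e.t * a * e.t ∈ e.T2 := e.mem_T2.2 (by
        rwa [show e.t * (e.t * a * e.t) * e.t = e.t * e.t * a * (e.t * e.t) by group, e.tt, one_mul, mul_one])
      refine e.uniq (conj_mem_of_norm (nT h hw h0) (inv_mem ha)) (inv_mem ha)
        (conj_mem_of_norm (nT h.flip hw (e.flip_N0 ▸ h0)) hb) hb ?_
      have := cm _ (h.le0 (mem_sup_left (inv_mem ha))) _ h.tS
      rw [inv_inv, e.ti] at this
      rw [conj_mul, mul_inv_eq_iff_eq_mul, ← mul_assoc a⁻¹, ← mul_assoc a⁻¹, this]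
    have hc : w ∈ 𝐂[e.S0] := by
      rw [En.S0, cent_sup]
      refine ⟨mem_cent.2 fun a ha => ?_, mem_cent.2 fun b hb => ?_⟩
      · have := (k _ (inv_mem ha)).1
        rw [inv_inv, mul_inv_eq_iff_eq_mul] at this
        exact this.symm
      · have := (k _ (e.mem_T2.1 hb)).2
        rw [show e.t * (e.t * b * e.t) * e.t = e.t * e.t * b * (e.t * e.t) by group, e.tt, one_mul, mul_one,
          mul_inv_eq_iff_eq_mul] at this
        exact this.symm
    have c0 : ∀ s ∈ S, s ∈ e.N0 → Commute s (e.z * e.z2) := fun s hs h0 =>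
      Commute.mul_right ((comm_z h hs).2 h0) ((comm_z h.flip hs).2 (e.flip_N0 ▸ h0))
    have ct : Commute e.t (e.z * e.z2) := by
      have := e.comm _ (zA e) _ (zA e)
      rw [Commute, SemiconjBy, En.z2, e.ti]
      calc _ = e.t * e.z * e.t * e.z * e.t := by group
        _ = _ := by rw [this]
    rcases h.cen0 w hw hc with rfl | k1 | k1 | rfl
    · exact absurd (by simp) nt
    · exact .inl k1
    · exact .inr k1
    · refine absurd ?_ nt
      by_cases h1 : y * e.t * y⁻¹ ∈ e.N0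
      · exact c0 _ ht h1
      · have := (c0 _ (mul_mem ht h.tS) (e.mul_mem_N0 (e.sw_of (h.syl.le ht) h1) e.sw_t)).mul_left ct
        rwa [mul_assoc, e.tt, mul_one] at this
  refine e.mem_Ns_of_pure (e.sw_of (h.syl.le ht) fun h1 => nt ?_) (zA e)
    (fun k => e.lw.z1 (e.lw.two_eq (zA e) (two_z e) k)) ?_
  · rcases pure with k | k <;> rw [k]
    exacts [(comm_z h ht).2 h1, (comm_z h.flip ht).2 (e.flip_N0 ▸ h1)]
  · rcases pure with k | k <;> rw [k]
    exacts [.inl (zA e), .inr (zA e.flip)]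

end E3

theorem En.Sy.sylG {e : En G} {S : Subgroup G} (h : e.Sy S) : Syl 2 S ⊤ :=
  Syl.of_norm h.syl.pg le_top fun _ hP h1 _ h2 => h.syl.ge_of_le hP h1 fun _ hy => E3.norm_le h (h2 hy)

end Cfsg.Agent.Wz
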