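import Mathlib
import Cfsg.Agent.Wz.F1

/-! A Sylow 2-subgroup of the centraliser of the mixed involution `β β'`. -/

set_option autoImplicit false
set_option linter.unusedSectionVars false

namespace Cfsg.Agent.Wz

open Cfsg.Agent.Loc.Mss Cfsg.Agent.Gold Cfsg.Agent.Wr Subgroup
open scoped commutatorElement

universe u

variable {G : Type u} [Group G] [Finite G]

namespace FQ

omit [Finite G] in
theorem c1 {a g : G} : g ∈ C1 a ↔ g * a * g⁻¹ = a := by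
  rw [mem_centralizer_singleton_iff, mul_inv_eq_iff_eq_mul]

omit [Finite G] in
theorem two_inv {a : G} (h : a * a = 1) : Two a := ⟨1, by rw [pow_one, pow_two, h]⟩

omit [Finite G] in
theorem sq_conj {a : G} (h : a * a = 1) (g : G) : g * a * g⁻¹ * (g * a * g⁻¹) = 1 := by
  calc g * a * g⁻¹ * (g * a * g⁻¹) = g * (a * a) * g⁻¹ := by group
    _ = 1 := by rw [h]; group

omit [Finite G] in
theorem conj_ne {a : G} (h : a ≠ 1) (g : G) : g * a * g⁻¹ ≠ 1 := fun e => h (by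
  calc a = g⁻¹ * (g * a * g⁻¹) * g := by group
    _ = 1 := by rw [e]; group)

theorem comm (e : En G) {a b : G} (ha : a ∈ e.A) (hb : b ∈ e.B) : a * b = b * a :=
  mem_cent.1 (e.B_cent hb) a ha

/-- A 2-element centralising both factors is trivial. -/
theorem core {e : En G} {S : Subgroup G} (h : e.Sy S) {s : G} (h2 : Two s) (hA : s ∈ 𝐂[e.A])
    (hB : s ∈ 𝐂[e.B]) : s = 1 := by
  have hs : s ∈ e.Ns := e.mem_Ns.2 (Or.inl ⟨cent_le_norm _ hA, cent_le_norm _ hB⟩)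
  obtain ⟨k, hk⟩ := h2
  have hp : IsPGroup 2 (zpowers s) := pg_iff.2 (by
    rintro _ ⟨n, rfl⟩
    refine ⟨k, ?_⟩
    show (s ^ n) ^ 2 ^ k = 1
    rw [← zpow_natCast, ← zpow_mul, mul_comm, zpow_mul, zpow_natCast, hk, one_zpow])
  obtain ⟨n, hn, hle⟩ := h.syl.conj_le hp (zpowers_le.2 hs)
  have h1 : n * s * n⁻¹ ∈ 𝐂[cj(n, e.A)] := cj_cent e.A n ▸ conj_mem_cj hA
  have h3 : n * s * n⁻¹ ∈ 𝐂[cj(n, e.B)] := cj_cent e.B n ▸ conj_mem_cj hB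
  by_contra hne
  refine conj_ne hne n (h.cen _ (hle (conj_mem_cj (mem_zpowers s))) ?_ ?_)
  · rcases e.mem_Ns.1 hn with a | a
    · rwa [cj_of_norm a.1] at h1
    · rwa [a.2] at h3
  · rcases e.mem_Ns.1 hn with a | a
    · rwa [cj_of_norm a.2] at h3
    · rwa [a.1] at h1

theorem comm_N0 (e : En G) {r s : G} (hr : r ∈ e.Ns) (hs : s ∈ e.Ns) :
    r * s * r⁻¹ * s⁻¹ ∈ e.N0 := by
  rcases e.mem_Ns.1 hs with a | a
  · exact mul_mem (conj_mem_of_norm (e.Ns_norm hr) a) (inv_mem a)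
  · rcases e.mem_Ns.1 hr with b | b
    · have := mul_mem b (conj_mem_of_norm (e.Ns_norm hs) (inv_mem b))
      rwa [← mul_assoc, ← mul_assoc] at this
    · have := mul_mem (e.mul_mem_N0 b a) (inv_mem (e.mul_mem_N0 a b))
      rwa [_root_.mul_inv_rev, ← mul_assoc] at this

/-- A swap does not commute with a pure involution. -/
theorem sw_pure (e : En G) {s w : G} (hs : e.Sw s) (hw : e.Pure w) (h2 : w * w = 1) (h1 : w ≠ 1) :
    s ∉ C1 w := fun hc => by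
  have h3 := c1.1 hc
  rcases hw with a | a
  · exact h1 (e.eq_one a (by rw [← hs.1, ← h3]; exact conj_mem_cj a) (two_inv h2))
  · exact h1 (e.eq_one (by rw [← hs.2, ← h3]; exact conj_mem_cj a) a (two_inv h2))

theorem not_cent {A T P : Subgroup G} {z β : G} (h : Lw A T P z β) : β ∉ 𝐂[A] := fun hc =>
  h.b1 (h.two_eq (h.syl.le (h.PT h.bP)) (two_inv h.bb) hc)

/-- `cenP` with the inverse on the other side. -/
theorem cenP' {A T P : Subgroup G} {z β g : G} (h : Lw A T P z β) (hg : g ∈ 𝐍[A]) (hc : g ∈ 𝐂[P]) :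
    ∃ p ∈ P, p * p = 1 ∧ (p = 1 ∨ p = z ∨ p * β = 1 ∨ p * β = z) ∧ g * p ∈ 𝐂[A] := by
  have hz : β * z = z * β := mem_cent.1 h.zc β (h.PT h.bP)
  rcases h.cenP g hg hc with a | a | a | a
  · exact ⟨1, one_mem _, one_mul _, Or.inl rfl, by rwa [mul_one]⟩
  · exact ⟨z, h.zP, h.zz, Or.inr (Or.inl rfl), a⟩
  · exact ⟨β, h.bP, h.bb, Or.inr (Or.inr (Or.inl h.bb)), a⟩
  · refine ⟨β * z, mul_mem h.bP h.zP, ?_, Or.inr (Or.inr (Or.inr ?_)), a⟩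
    · calc β * z * (β * z) = β * (z * β) * z := by group
        _ = β * β * (z * z) := by rw [← hz]; group
        _ = 1 := by rw [h.bb, h.zz, one_mul]
    · rw [hz, mul_assoc, h.bb, mul_one]

/-- A 2-subgroup of `Ns ⊓ C(β β')` containing `P`, `P2` and `t`. -/
structure Qd (e : En G) (Q : Subgroup G) : Prop where
  pg : IsPGroup 2 Q
  le : Q ≤ e.Ns
  cu : Q ≤ C1 (e.β * e.β2)
  P1 : e.P ≤ Q
  P2 : e.P2 ≤ Q
  tQ : e.t ∈ Q

theorem bA (e : En G) : e.β ∈ e.A := e.lw.syl.le (e.lw.PT e.lw.bP)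
theorem bB (e : En G) : e.β2 ∈ e.B := e.lwB.syl.le (e.lwB.PT e.lwB.bP)

namespace Qd

variable {e : En G} {Q : Subgroup G} (q : Qd e Q)
include q

theorem flip : Qd e.flip Q where
  pg := q.pg
  le := e.flip_Ns ▸ q.le
  cu := by
    rw [e.flip_β2]
    show Q ≤ C1 (e.β2 * e.β)
    rw [← comm e (bA e) (bB e)]
    exact q.cu
  P1 := q.P2
  P2 := e.flip_P2 ▸ q.P1
  tQ := q.tQ

omit [Finite G] in
theorem two {s : G} (hs : s ∈ Q) : Two s := pg_iff.1 q.pg s hs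

theorem fix {s : G} (hs : s ∈ Q) (h0 : s ∈ e.N0) : s ∈ C1 e.β := by
  have h1 := c1.1 (q.cu hs)
  refine c1.2 (e.uniq2 (conj_mem_of_norm h0.1 (bA e)) (bA e) (conj_mem_of_norm h0.2 (bB e)) (bB e)
    (sq_conj e.lw.bb s) e.lw.bb ?_).1
  rw [← h1]; group

theorem fix_iff {s : G} (hs : s ∈ Q) : s ∈ C1 e.β ↔ s ∈ e.N0 :=
  ⟨fun hc => by_contra fun hn =>
    sw_pure e (e.sw_of (q.le hs) hn) (Or.inl (bA e)) e.lw.bb e.lw.b1 hc, q.fix hs⟩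

theorem infA : Q ⊓ e.A = e.P :=
  e.lw.sylP.eq_of_le (q.pg.to_le inf_le_left) (le_inf q.P1 (e.lw.PT.trans e.lw.syl.le))
    fun _ hs => ⟨hs.2, q.fix hs.1 (e.AB_le (mem_sup_left hs.2))⟩

theorem nP {s : G} (hs : s ∈ Q) (h0 : s ∈ e.N0) : s ∈ 𝐍[e.P] := by
  rw [← q.infA]
  exact norm_inf (X := zpowers s) (norm_of_le (zpowers_le.2 hs)) (zpowers_le.2 h0.1) (mem_zpowers s)

theorem nP2 {s : G} (hs : s ∈ Q) (h0 : s ∈ e.N0) : s ∈ 𝐍[e.P2] :=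
  q.flip.nP hs (e.flip_N0 ▸ h0)

theorem inner {s : G} (hs : s ∈ Q) (h0 : s ∈ e.N0) (hA : s ∈ e.A ⊔ 𝐂[e.A]) :
    ∃ a ∈ e.P, a⁻¹ * s ∈ 𝐂[e.A] :=
  e.lw.inner_P hA (q.two hs) (q.nP hs h0) (q.fix hs h0)

theorem infAB {S : Subgroup G} (h : e.Sy S) : Q ⊓ (e.A ⊔ e.B) = e.P ⊔ e.P2 := by
  have hA : e.P ≤ e.A := e.lw.PT.trans e.lw.syl.le
  have hB : e.P2 ≤ e.B := e.lwB.PT.trans e.lwB.syl.le
  refine le_antisymm ?_ (le_inf (sup_le q.P1 q.P2) (sup_le_sup hA hB))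
  rintro s ⟨hs, h1⟩
  have h0 := e.AB_le h1
  obtain ⟨a, ha, h2⟩ := q.inner hs h0 (sup_le_sup_left e.B_cent _ h1)
  obtain ⟨b, hb, h3⟩ : ∃ b ∈ e.P2, b⁻¹ * s ∈ 𝐂[e.B] := q.flip.inner hs (e.flip_N0 ▸ h0)
    (sup_le (e.A_cent.trans le_sup_right) le_sup_left h1)
  have h4 : b⁻¹ * (a⁻¹ * s) = 1 := by
    refine core h (q.two (mul_mem (inv_mem (q.P2 hb)) (mul_mem (inv_mem (q.P1 ha)) hs)))
      (mul_mem (inv_mem (e.B_cent (hB hb))) h2) ?_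
    rw [← mul_assoc, ← comm e (inv_mem (hA ha)) (inv_mem (hB hb)), mul_assoc]
    exact mul_mem (inv_mem (e.A_cent (hA ha))) h3
  have h5 : s = a * b := by
    calc s = a * b * (b⁻¹ * (a⁻¹ * s)) := by group
      _ = a * b := by rw [h4, mul_one]
  rw [h5]
  exact mul_mem (mem_sup_left ha) (mem_sup_right hb)

/-- An element of `Q` commuting with all commutators centralises `P`. -/
theorem cenP {w : G} (hw : w ∈ Q) (hc : ∀ r ∈ Q, ∀ s ∈ Q, r * s * r⁻¹ * s⁻¹ ∈ C1 w) :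
    w ∈ e.N0 ∧ w ∈ 𝐂[e.P] := by
  have h1 : ⁅e.P, e.P⁆ ≤ C1 w := commutator_le.2 fun r hr s hs => hc r (q.P1 hr) s (q.P1 hs)
  have h0 : w ∈ e.N0 := (q.fix_iff hw).1
    (mem_centralizer_singleton_iff.2 (mem_centralizer_singleton_iff.1 (h1 e.lw.bD)).symm)
  refine ⟨h0, mem_cent.2 fun a ha => ?_⟩
  have h2 := mem_centralizer_singleton_iff.1 (hc a (q.P1 ha) e.t q.tQ)
  have hb : e.t * a⁻¹ * e.t⁻¹ ∈ e.P2 := conj_mem_cj (inv_mem ha)
  have h3 := (e.uniq (e.lw.PT (conj_mem_of_norm (q.nP hw h0) ha)) (e.lw.PT ha)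
    (e.lwB.PT (conj_mem_of_norm (q.nP2 hw h0) hb)) (e.lwB.PT hb) (by
      calc w * a * w⁻¹ * (w * (e.t * a⁻¹ * e.t⁻¹) * w⁻¹) = w * (a * e.t * a⁻¹ * e.t⁻¹) * w⁻¹ := by
            group
        _ = a * (e.t * a⁻¹ * e.t⁻¹) := by rw [← h2]; group)).1
  rw [mul_inv_eq_iff_eq_mul] at h3
  exact h3.symm

variable {y : G}

omit [Finite G] in
theorem pull (hy : y ∈ 𝐍[Q]) {s : G} (hs : s ∈ Q) : y⁻¹ * s * y ∈ Q := conj_mem_of_norm' hy hs

theorem push (hy : y ∈ 𝐍[Q]) {s : G} (hs : s ∈ Q) :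
    s ∈ C1 (y * e.β * y⁻¹) ↔ y⁻¹ * s * y ∈ e.N0 := by
  rw [← q.fix_iff (q.pull hy hs), c1, c1]
  constructor
  · intro h
    calc y⁻¹ * s * y * e.β * (y⁻¹ * s * y)⁻¹ = y⁻¹ * (s * (y * e.β * y⁻¹) * s⁻¹) * y := by group
      _ = e.β := by rw [h]; group
  · intro h
    calc s * (y * e.β * y⁻¹) * s⁻¹ = y * (y⁻¹ * s * y * e.β * (y⁻¹ * s * y)⁻¹) * y⁻¹ := by group
      _ = y * e.β * y⁻¹ := by rw [h]

theorem commW (hy : y ∈ 𝐍[Q]) {r s : G} (hr : r ∈ Q) (hs : s ∈ Q) :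
    r * s * r⁻¹ * s⁻¹ ∈ C1 (y * e.β * y⁻¹) := by
  rw [q.push hy (mul_mem (mul_mem (mul_mem hr hs) (inv_mem hr)) (inv_mem hs))]
  have := comm_N0 e (q.le (q.pull hy hr)) (q.le (q.pull hy hs))
  convert this using 1
  group

/-- If the conjugate of `β` is pure then `y` permutes the factors. -/
theorem of_pure (hy : y ∈ 𝐍[Q]) (hp : e.Pure (y * e.β * y⁻¹)) : y ∈ e.Ns := by
  have ht : y * e.t * y⁻¹ ∈ Q := conj_mem_of_norm hy q.tQ
  have w2 := sq_conj e.lw.bb y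
  have w1 := conj_ne e.lw.b1 y
  refine e.mem_Ns_of_pure (e.sw_of (q.le ht) fun h0 => ?_) (bA e) (not_cent e.lw) hp
  have h1 : y⁻¹ * e.t * y ∉ e.N0 := fun a =>
    sw_pure e e.sw_t hp w2 w1 ((q.push hy q.tQ).2 a)
  have h2 := e.mul_mem_N0 (e.sw_of (q.le (q.pull hy q.tQ)) h1) e.sw_t
  have h3 : e.t * (y * e.t * y⁻¹) ∈ C1 (y * e.β * y⁻¹) := by
    rw [q.push hy (mul_mem q.tQ ht)]
    convert h2 using 1
    group
  refine sw_pure e (e.sw_of (q.le (mul_mem q.tQ ht)) fun a => ?_) hp w2 w1 h3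
  exact e.sw_t.notMem ((mul_mem_cancel_right h0).1 a)

theorem pure {S : Subgroup G} (h : e.Sy S) (hy : y ∈ 𝐍[Q]) (hu : y ∈ C1 (e.β * e.β2)) :
    e.Pure (y * e.β * y⁻¹) ∨ e.Pure (y * e.β2 * y⁻¹) := by
  have hA : e.P ≤ e.A := e.lw.PT.trans e.lw.syl.le
  have hB : e.P2 ≤ e.B := e.lwB.PT.trans e.lwB.syl.le
  have hw : y * e.β * y⁻¹ ∈ Q := conj_mem_of_norm hy (q.P1 e.lw.bP)
  have hc : ∀ r ∈ Q, ∀ s ∈ Q, r * s * r⁻¹ * s⁻¹ ∈ C1 (y * e.β * y⁻¹) := fun r hr s hs =>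
    q.commW hy hr hs
  obtain ⟨h0, c1'⟩ := q.cenP hw hc
  have c2 : y * e.β * y⁻¹ ∈ 𝐂[e.P2] := (q.flip.cenP hw hc).2
  have w2 := sq_conj e.lw.bb y
  have hw2 : y * e.β2 * y⁻¹ = y * e.β * y⁻¹ * (e.β * e.β2) := by
    conv_rhs => rw [← c1.1 hu]
    calc y * e.β2 * y⁻¹ = y * (e.β * e.β) * e.β2 * y⁻¹ := by rw [e.lw.bb]; group
      _ = _ := by group
  generalize hwe : y * e.β * y⁻¹ = w at hw h0 c1' c2 w2 hw2
  obtain ⟨p, hp, p2, hp', h1⟩ := cenP' e.lw h0.1 c1'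
  obtain ⟨r, hr, r2, hr', h2⟩ := cenP' e.lwB h0.2 c2
  have pr : p * r = r * p := comm e (hA hp) (hB hr)
  have h3 : w * p * r = 1 := by
    refine core h (q.two (mul_mem (mul_mem hw (q.P1 hp)) (q.P2 hr)))
      (mul_mem h1 (e.B_cent (hB hr))) ?_
    rw [mul_assoc, pr, ← mul_assoc]
    exact mul_mem h2 (e.A_cent (hA hp))
  have h4 : w = p * r := by
    calc w = w * (p * (r * r) * p) := by rw [r2, mul_one, p2, mul_one]
      _ = w * p * r * (r * p) := by group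
      _ = p * r := by rw [h3, one_mul, pr]
  have h5 : y * e.β2 * y⁻¹ = p * e.β * (r * e.β2) := by
    rw [hw2, h4]
    calc p * r * (e.β * e.β2) = p * (r * e.β) * e.β2 := by group
      _ = p * e.β * (r * e.β2) := by rw [← comm e (bA e) (hB hr)]; group
  by_cases p1 : p = 1
  · left; right; rw [h4, p1, one_mul]; exact hB hr
  by_cases r1 : r = 1
  · left; left; rw [h4, r1, mul_one]; exact hA hp
  have pz : p ≠ e.z := fun a =>
    h.not_conj1 (Or.inl (bA e)) e.lw.bb (hB hr) r2 r1 y (by rw [hwe, h4, a])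
  have rz : r ≠ e.z2 := fun a =>
    h.flip.not_conj1 (e.flip_Pure.2 (Or.inl (bA e))) e.lw.bb (e.flip_B ▸ hA hp) p2 p1 y
      (by rw [hwe, h4, pr, a]; rfl)
  right
  rcases (hp'.resolve_left p1).resolve_left pz with a | a
  · right; rw [h5, a, one_mul]; exact mul_mem (hB hr) (bB e)
  rcases (hr'.resolve_left r1).resolve_left rz with b | b
  · left; rw [h5, b, mul_one]; exact mul_mem (hA hp) (bA e)
  exact absurd (by rw [h5, a, b]) (h.not_conj1 (Or.inr (bB e)) e.lwB.bb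
    (e.lwB.syl.le e.lwB.zT) e.lwB.zz e.lwB.z1 y)

theorem mem_Ns {S : Subgroup G} (h : e.Sy S) (hy : y ∈ 𝐍[Q]) (hu : y ∈ C1 (e.β * e.β2)) :
    y ∈ e.Ns := by
  rcases q.pure h hy hu with a | a
  · exact q.of_pure hy a
  · exact e.flip_Ns ▸ q.flip.of_pure hy (e.flip_Pure.2 a)

end Qd

end FQ

theorem En.Sy.sylQ {e : En G} {S : Subgroup G} (h : e.Sy S) {Q : Subgroup G}
    (hQ : Syl 2 Q (e.Ns ⊓ C1 (e.β * e.β2))) (hP : e.P ⊔ e.P2 ≤ Q) (ht : e.t ∈ Q) :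
    Syl 2 Q (C1 (e.β * e.β2)) ∧ Q ⊓ (e.A ⊔ e.B) = e.P ⊔ e.P2 := by
  have q : FQ.Qd e Q := ⟨hQ.pg, hQ.le.trans inf_le_left, hQ.le.trans inf_le_right,
    le_sup_left.trans hP, le_sup_right.trans hP, ht⟩
  exact ⟨Syl.of_norm hQ.pg q.cu fun R hR h1 h2 h3 => hQ.ge_of_le hR h1
    fun y hy => ⟨q.mem_Ns h (h3 hy) (h2 hy), h2 hy⟩, q.infAB h⟩

end Cfsg.Agent.Wz
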