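import Mathlib
import Cfsg.Agent.Wz.F2
import Cfsg.Agent.Wz.E2
import Cfsg.Agent.StdB.Gen

/-! The conjugates of `t` in `S` and outer involutions centralising `t`. -/

set_option autoImplicit false

namespace Cfsg.Agent.Wz

open Cfsg.Agent.Loc.Mss Cfsg.Agent.Gold Cfsg.Agent.Wr Subgroup

universe u

variable {G : Type u} [Group G] [Finite G]

namespace E6

theorem exists_invol {V : Subgroup G} (hV : IsPGroup 2 V) (hc : 2 ≤ Nat.card V) :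
    ∃ v ∈ V, v * v = 1 ∧ v ≠ 1 := by
  obtain ⟨k, hk⟩ := IsPGroup.iff_card.1 hV
  have h1 : 2 ∣ Nat.card V := hk ▸ dvd_pow_self 2 (by rintro rfl; omega)
  obtain ⟨v, hv⟩ := exists_prime_orderOf_dvd_card' 2 h1
  rw [orderOf_eq_prime_iff, sq] at hv
  exact ⟨v, v.2, congrArg Subtype.val hv.1, fun h => hv.2 (Subtype.ext h)⟩

theorem tB (e : En G) {a : G} (ha : a ∈ e.A) : e.t * a * e.t ∈ e.B :=
  e.mem_B.2 (by rwa [← mul_assoc, ← mul_assoc, e.tt, one_mul, mul_assoc, e.tt, mul_one])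

theorem tT2 (e : En G) {a : G} (ha : a ∈ e.T) : e.t * a * e.t ∈ e.T2 :=
  e.mem_T2.2 (by rwa [← mul_assoc, ← mul_assoc, e.tt, one_mul, mul_assoc, e.tt, mul_one])

theorem cAB (e : En G) {a b : G} (ha : a ∈ e.A) (hb : b ∈ e.B) : a * b = b * a := mem_cent.1 (e.B_cent hb) a ha

theorem sq_inner {A T P : Subgroup G} {z β : G} (h : Lw A T P z β) {d : G} (hd : d ∈ 𝐍[A]) : d * d ∈ A ⊔ 𝐂[A] := by
  rcases h.idx d hd d hd with k | k | k
  exacts [mul_mem k k, mul_mem k k, k]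

end E6

open E6

namespace En.Sy

variable {e : En G} {S : Subgroup G} (h : e.Sy S)
include h

theorem conj_t {g : G} (hg : g * e.t * g⁻¹ ∈ S) : g * e.t * g⁻¹ ∉ e.N0 := fun hn => by
  have t2 : g * e.t * g⁻¹ * (g * e.t * g⁻¹) = 1 := by
    calc _ = g * (e.t * e.t) * g⁻¹ := by group
      _ = 1 := by rw [e.tt]; group
  have nT : g * e.t * g⁻¹ ∉ e.T := fun k => h.pure_ne_t (.inl (E2.T_le e k)) g⁻¹ (by group)
  have h4 := e.lw.four t2 (E2.normT h.syl h.le0 ⟨hg, hn⟩) nT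
  have hV : cj(g⁻¹, e.T ⊓ C1 (g * e.t * g⁻¹)) ≤ C1 e.t := cj_le_iff.2 fun v hv => StdB.mem_C1.2 (by
    have k := StdB.mem_C1.1 (mem_inf.1 hv).2
    calc _ = g⁻¹ * (v * (g * e.t * g⁻¹)) * g := by group
      _ = _ := by rw [k]; group)
  have h5 := E2.card_le_two_mul fun a ha b hb => e.idxL a (hV ha) b (hV hb)
  rw [card_cj] at h5
  obtain ⟨v, hv, v2, v1⟩ := exists_invol (pg_cj e.lw.syl.pg.to_inf_left g⁻¹).to_inf_left
    (V := cj(g⁻¹, e.T ⊓ C1 (g * e.t * g⁻¹)) ⊓ (e.L ⊔ 𝐂[e.L])) (by omega)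
  have vt : v * e.t = e.t * v := StdB.mem_C1.1 (hV (mem_inf.1 hv).1)
  have vA : e.Pure (g⁻¹⁻¹ * v * g⁻¹) := .inl (E2.T_le e (mem_inf.1 (mem_cj.1 (mem_inf.1 hv).1)).1)
  rcases e.two_L (mem_inf.1 hv).2 vt ⟨1, by rw [pow_one, sq, v2]⟩ with k | k
  · obtain ⟨a, ha, a2, ea⟩ := e.inv_L k v2
    have a1 : a ≠ 1 := fun r => v1 (by rw [ea, r, one_mul, mul_one, e.tt])
    refine h.pure_ne_mix vA ?_ ha a2 a1 (tB e ha) ?_ (fun r => a1 ?_) g⁻¹ (by rw [← ea]; group)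
    · calc _ = g * (v * v) * g⁻¹ := by group
        _ = 1 := by rw [v2]; group
    · calc _ = e.t * (a * (e.t * e.t) * a) * e.t := by group
        _ = 1 := by rw [e.tt, mul_one, a2, mul_one, e.tt]
    · rw [← e.ti, mul_inv_eq_one, e.ti, mul_eq_left] at r
      exact r
  · obtain ⟨a, ha, a2, ea⟩ := e.inv_L k (by
      calc _ = v * (e.t * v) * e.t := by group
        _ = v * v * (e.t * e.t) := by rw [← vt]; group
        _ = 1 := by rw [v2, e.tt, mul_one])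
    rw [← mul_assoc, mul_left_inj] at ea
    refine h.pure_ne_t vA (a⁻¹ * g⁻¹) ?_
    calc _ = a⁻¹ * v * a := by group
      _ = e.t * (a * a) := by rw [ea]; group
      _ = _ := by rw [a2, mul_one]

theorem tX : e.t ∉ e.X := fun tX => by
  have hi : (S ⊓ e.N0).relIndex S = 2 := by
    rw [inf_relIndex_left]
    refine relIndex_eq_two_iff.2 ⟨e.t, h.tS, fun b hb => ?_⟩
    by_cases k : b ∈ e.N0
    · exact .inr ⟨k, fun k' => e.sw_t.notMem ((mul_mem_cancel_left k).1 k')⟩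
    · exact .inl ⟨e.mul_mem_N0 (e.sw_of (h.syl.le hb) k) e.sw_t, k⟩
  obtain ⟨Y, -, h1, h2, h3⟩ := StdB.transfer_two h.sylG hi (mem_top _) e.tt fun g _ k => h.conj_t k.1 k.2
  have := e.sX
  rcases ((normal_of_top h1).subgroupOf e.X).eq_bot_or_eq_top with k | k
  · rw [relIndex_top_right] at h2
    have h4 : ⁅e.T, e.T⁆ ≤ Y := commutator_le.2 fun a _ b _ => by
      rw [commutatorElement_def, mul_mem_iff_of_index_two h2, mul_mem_iff_of_index_two h2,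
        mul_mem_iff_of_index_two h2, inv_mem_iff, inv_mem_iff]
      tauto
    have h5 : (⟨e.z, e.AX (E2.T_le e e.lw.zT)⟩ : e.X) ∈ Y.subgroupOf e.X := h4 e.lw.zD
    exact e.lw.z1 (congrArg Subtype.val (mem_bot.1 (k.le h5)))
  · exact h3 (subgroupOf_eq_top.1 k tX)

theorem not_fused {σ : G} (ht : σ ∈ C1 e.t) (h2 : σ * σ = 1) (ho : σ ∉ e.L ⊔ 𝐂[e.L]) (g : G) :
    g * σ * g⁻¹ ∉ e.S0 := fun hg => by
  have c2 : ∀ g : G, g * σ * g⁻¹ * (g * σ * g⁻¹) = 1 := fun g => by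
    calc _ = g * (σ * σ) * g⁻¹ := by group
      _ = 1 := by rw [h2]; group
  obtain ⟨g', h0, hx⟩ := h.ext0 hg (c2 g) fun r => ho (by
    rw [mul_inv_eq_one, mul_eq_left] at r
    exact r ▸ one_mem _)
  rw [show g' * (g * σ * g⁻¹) * g'⁻¹ = g' * g * σ * (g' * g)⁻¹ by group] at h0 hx
  obtain ⟨m, -, em, hm⟩ := hx.conj (mem_top _) (E2.pg_t e)
    (zpowers_le.2 (mem_inf.2 ⟨trivial, StdB.mem_C1.2 (StdB.mem_C1.1 ht).symm⟩))
  rw [← em] at h0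
  have tS : m * e.t * m⁻¹ ∈ S := hm (conj_mem_cj (mem_zpowers _))
  have sw := e.sw_of (h.syl.le tS) (h.conj_t tS)
  obtain ⟨a, ha, b, hb, eab⟩ := e.mem_S0.1 h0
  have s2 : m * e.t * m⁻¹ * (m * e.t * m⁻¹) = 1 := by
    calc _ = m * (e.t * e.t) * m⁻¹ := by group
      _ = 1 := by rw [e.tt]; group
  have sc : m * e.t * m⁻¹ * (a * b) * (m * e.t * m⁻¹)⁻¹ = a * b := by
    rw [← eab]
    calc _ = m * (e.t * σ) * e.t⁻¹ * m⁻¹ := by group
      _ = _ := by rw [← StdB.mem_C1.1 ht]; group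
  have ab2 : a * a * (b * b) = 1 * 1 := by
    rw [mul_one, ← c2 m, eab, mul_assoc a b, ← mul_assoc b, ← cAB e (E2.T_le e ha) (E2.T2_le e hb)]; group
  obtain ⟨a2, b2⟩ := e.uniq (mul_mem ha ha) (one_mem _) (mul_mem hb hb) (one_mem _) ab2
  have key : m * σ * m⁻¹ ∈ cj(m, e.L) := by
    refine (e.delta sw _).2 ⟨a, E2.T_le e ha, ?_⟩
    generalize m * e.t * m⁻¹ = s at sw s2 sc
    have k1 : s * a * s⁻¹ ∈ e.B := sw.1 ▸ conj_mem_cj (E2.T_le e ha)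
    have k2 : s * b * s⁻¹ ∈ e.A := sw.2 ▸ conj_mem_cj (E2.T2_le e hb)
    have k3 := e.uniq2 (E2.T_le e ha) k2 (E2.T2_le e hb) k1 a2 (by
      calc _ = s * (b * b) * s⁻¹ := by group
        _ = 1 := by rw [b2]; group) (by rw [cAB e k2 k1, ← sc]; group)
    rw [eab, k3.2, inv_eq_of_mul_eq_one_right s2]
  rw [mem_cj] at key
  exact ho (mem_sup_left (by convert key using 1; group))

theorem exists_sigma (hX : ¬ S ⊓ e.X ≤ e.S0) : ∃ σ ∈ e.X, σ ∈ C1 e.t ∧ σ * σ = 1 ∧ σ ∉ e.L ⊔ 𝐂[e.L] := by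
  have tX : ∀ c ∈ e.X, e.t * c * e.t ∈ e.X := fun c hc => by simpa only [e.ti] using e.nX.conj_mem c hc e.t
  have mem : ∀ c ∈ S ⊓ e.X, c⁻¹ * (e.t * c * e.t) ∈ S ⊓ e.X := fun c hc =>
    mul_mem (inv_mem hc) (mem_inf.2 ⟨mul_mem (mul_mem h.tS hc.1) h.tS, tX c hc.2⟩)
  have h1 : ∃ c ∈ S ⊓ e.X, c ∉ e.S0 ∧ c⁻¹ * (e.t * c * e.t) ∈ e.S0 := by
    obtain ⟨c, hc, c0⟩ := SetLike.not_le_iff_exists.1 hX
    by_cases k : c⁻¹ * (e.t * c * e.t) ∈ e.S0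
    · exact ⟨c, hc, c0, k⟩
    refine ⟨_, mem c hc, k, ?_⟩
    have k1 : c⁻¹ * e.t * c⁻¹⁻¹ ∈ S := mul_mem (mul_mem (inv_mem hc.1) h.tS) (inv_mem (inv_mem hc.1))
    have k2 : c⁻¹ * (e.t * c * e.t) ∈ e.N0 := by
      have := e.mul_mem_N0 (e.sw_of (h.syl.le k1) (h.conj_t k1)) e.sw_t
      convert this using 1
      group
    have k3 := h.in0 _ (mul_mem (mem c hc).1 (mem c hc).1) (sq_inner e.lw k2.1) (sq_inner e.lwB k2.2)
    convert inv_mem k3 using 1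
    simp only [mul_inv_rev, inv_inv, e.ti, mul_assoc, e.tt, mul_one]
  obtain ⟨c, hc, c0, hs⟩ := h1
  obtain ⟨a, ha, b, hb, eab⟩ := e.mem_S0.1 hs
  have h2 : e.t * b * e.t * (e.t * a * e.t) = a⁻¹ * b⁻¹ := by
    rw [cAB e (E2.T_le e (e.mem_T2.1 hb)) (tB e (E2.T_le e ha)), ← mul_inv_rev,
      ← cAB e (E2.T_le e ha) (E2.T2_le e hb), ← eab]
    calc _ = e.t * (a * (e.t * e.t) * b) * e.t := by group
      _ = e.t * (c⁻¹ * (e.t * c * e.t)) * e.t := by rw [e.tt, mul_one, eab]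
      _ = _ := by simp only [mul_inv_rev, inv_inv, e.ti, mul_assoc, e.tt, mul_one]
  have h3 := (e.uniq (e.mem_T2.1 hb) (inv_mem ha) (tT2 e ha) (inv_mem hb) h2).2
  have aS : a ∈ e.S0 := mem_sup_left ha
  have ct : c * a * e.t = e.t * (c * a) := by
    rw [← inv_inv b, ← h3, inv_mul_eq_iff_eq_mul, mul_inv_rev, mul_inv_rev, e.ti, ← mul_assoc, ← mul_assoc,
      ← mul_assoc, mul_left_inj, eq_mul_inv_iff_mul_eq] at eab
    rw [← eab, mul_assoc]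
  have cX : c * a ∈ e.X := mul_mem hc.2 (e.AX (E2.T_le e ha))
  have cS : c * a ∈ S := mul_mem hc.1 (h.le0 aS)
  have LX : e.L ≤ e.X := e.L_le.trans (sup_le e.AX e.BX)
  have cI : c * a ∉ e.L ⊔ 𝐂[e.L] := fun k => by
    rcases e.two_L k ct (E2.two h.syl cS) with r | r
    · exact c0 ((mul_mem_cancel_right aS).1 (h.infAB.le (mem_inf.2 ⟨cS, e.L_le r⟩)))
    · exact h.tX ((mul_mem_cancel_left cX).1 (LX r))
  obtain ⟨l, hl, x2⟩ := e.invL _ (StdB.mem_C1.2 ct) cI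
  have xX : c * a * l ∈ e.X := mul_mem cX (LX hl)
  have xt : c * a * l ∈ C1 e.t := mul_mem (StdB.mem_C1.2 ct) (e.L_cent hl)
  have xI : c * a * l ∉ e.L ⊔ 𝐂[e.L] := fun k => cI ((mul_mem_cancel_right (mem_sup_left hl)).1 k)
  generalize c * a * l = x at x2 xX xt xI
  obtain ⟨n, m, ⟨j, hj⟩, hm⟩ := Nat.exists_eq_two_pow_mul_odd (orderOf_pos x).ne'
  refine ⟨x ^ m, pow_mem xX m, pow_mem xt m, ?_, fun k => xI ?_⟩
  · have k1 : x ^ m * x ^ m = (x * x) ^ m := ((Commute.refl x).mul_pow m).symm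
    refine (e.two _ (k1 ▸ pow_mem x2 m) (StdB.mem_C1.1 (mul_mem (pow_mem xt m) (pow_mem xt m))) ⟨n, ?_⟩).resolve_right
      fun r => h.tX (r ▸ mul_mem (pow_mem xX m) (pow_mem xX m))
    rw [(Commute.refl _).mul_pow, ← pow_mul, mul_comm m, ← hm, pow_orderOf_eq_one, mul_one]
  · rw [hj, pow_succ, pow_mul, sq] at k
    exact (mul_mem_cancel_left (mem_sup_right (pow_mem x2 j))).1 k

end En.Sy

end Cfsg.Agent.Wz
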