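import Mathlib
import Cfsg.Agent.Wz.TB0
import Cfsg.Agent.Wz.TB
import Cfsg.Agent.S1910
import Cfsg.Agent.ABG.Tools

/-!
# The shape of the Sylow 2-subgroups of `C(L)` when `L` meets a conjugate of `C(L)` in an involution
-/

set_option autoImplicit false
set_option linter.unusedSectionVars false

namespace Cfsg.Agent.Wz

open Cfsg.Agent.Loc.Mss Cfsg.Agent.Gold Cfsg.Agent.Wr Subgroup

universe u

namespace TC

open TB hiding mem_C1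

theorem mem_C1 {G : Type*} [Group G] {a g : G} : g ∈ C1 a ↔ g * a = a * g := mem_centralizer_singleton_iff

section gen

variable {G : Type*} [Group G] [Finite G]

theorem exists_norm_syl {X H Q : Subgroup G} (hX : IsPGroup 2 X) (hn : X ≤ 𝐍[H]) (hQ : Syl 2 Q H) :
    ∃ l ∈ H, X ≤ 𝐍[cj(l, Q)] := by
  have : Fact (Nat.Prime 2) := ⟨Nat.prime_two⟩
  obtain ⟨T, hXT, hT⟩ := Syl.exists_ge hX (le_sup_right : X ≤ H ⊔ X)
  have h1 := hT.inf (le_sup_left : H ≤ H ⊔ X) (hT.le.trans (sup_le le_normalizer hn))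
  obtain ⟨l, hl, e⟩ := hQ.conj_eq h1
  exact ⟨l, hl, e ▸ norm_inf (norm_of_le hXT) hn⟩

theorem cj_C1 (c a : G) : cj(c, C1 a) = C1 (c * a * c⁻¹) := by
  ext x
  rw [mem_cj, mem_C1, mem_C1]
  constructor
  · intro h
    calc x * (c * a * c⁻¹) = c * (c⁻¹ * x * c * a) * c⁻¹ := by group
      _ = _ := by rw [h]; group
  · intro h
    calc c⁻¹ * x * c * a = c⁻¹ * (x * (c * a * c⁻¹)) * c := by group
      _ = _ := by rw [h]; group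

theorem two_conj {r : G} (h : Two r) (l : G) : Two (l * r * l⁻¹) := by
  obtain ⟨n, hn⟩ := h
  exact ⟨n, by rw [conj_pow, hn]; group⟩

theorem comm_conj {x y l : G} (h : x * y = y * x) : l * x * l⁻¹ * (l * y * l⁻¹) = l * y * l⁻¹ * (l * x * l⁻¹) := by
  calc _ = l * (x * y) * l⁻¹ := by group
    _ = _ := by rw [h]; group

theorem norm_C1 {X : Subgroup G} {a : G} (h : X ≤ C1 a) : X ≤ 𝐍[C1 a] := norm_of_le h

end gen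

section main

variable {A : Type} [Group A] {m : Md A} {G : Type u} [Group G] [Finite G] {b : Bas m G} {g u : G}

theorem exists_e {x : G} (hx : x ∈ b.L) : ∃ a, b.e a = x := by
  rw [← b.range] at hx
  exact hx

theorem μ_mem {x : G} (hx : x ∈ b.L) : b.μ x ∈ inn A := by
  obtain ⟨a, rfl⟩ := exists_e hx
  rw [b.μ_e]
  exact ⟨a, rfl⟩

theorem exists_L {c : MulAut A} (hc : c ∈ inn A) : ∃ l ∈ b.L, b.μ l = c := by
  obtain ⟨a, rfl⟩ := hc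
  exact ⟨b.e a, b.e_mem a, b.μ_e a⟩

theorem μ_z : b.μ b.z = MulAut.conj m.z₀ := b.μ_e _

theorem μ_conj {x y : G} (hx : x ∈ 𝐍[b.L]) (hy : y ∈ 𝐍[b.L]) : b.μ (x * y * x⁻¹) = b.μ x * b.μ y * (b.μ x)⁻¹ := by
  rw [b.μ_mul (mul_mem hx hy) (inv_mem hx), b.μ_mul hx hy, b.μ_inv hx]

theorem two_μ {r : G} (hr : r ∈ 𝐍[b.L]) (h : Two r) : Two (b.μ r) := by
  obtain ⟨n, hn⟩ := h
  refine ⟨n, ?_⟩
  have e1 : (⟨r, hr⟩ : 𝐍[b.L]) ^ 2 ^ n = 1 := Subtype.ext hn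
  have := congrArg b.hom e1
  rwa [map_pow, map_one] at this

theorem μ_comm {x y : G} (hx : x ∈ 𝐍[b.L]) (hy : y ∈ 𝐍[b.L]) (h : x * y = y * x) :
    b.μ x * b.μ y = b.μ y * b.μ x := by
  rw [← b.μ_mul hx hy, h, b.μ_mul hy hx]

theorem sq_of_μ (hu : u ∈ b.L) (h : b.μ u * b.μ u = 1) : u * u = 1 :=
  b.eq_of_μ (mul_mem hu hu) (one_mem _) (by rw [b.μ_mul (le_normalizer hu) (le_normalizer hu), h, b.μ_one])

theorem ne_of_μ (h : b.μ u ≠ 1) : u ≠ 1 := fun e => h (by rw [e, b.μ_one])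

theorem mem_Y {H : Subgroup G} {φ : MulAut A} : φ ∈ b.img (b.L ⊓ H) ↔ ∃ q ∈ b.L, q ∈ H ∧ b.μ q = φ := by
  rw [b.mem_img (inf_le_left.trans le_normalizer)]
  exact ⟨fun ⟨q, hq, e⟩ => ⟨q, hq.1, hq.2, e⟩, fun ⟨q, h1, h2, e⟩ => ⟨q, ⟨h1, h2⟩, e⟩⟩

theorem Y_le {H : Subgroup G} : b.img (b.L ⊓ H) ≤ inn A := fun φ hφ => by
  obtain ⟨q, hq, -, rfl⟩ := mem_Y.1 hφ
  exact μ_mem hq

theorem lift (hu : u ∈ b.L) {φ : MulAut A} (hφ : φ ∈ inn A ⊓ C1 (b.μ u)) :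
    ∃ l ∈ b.L, b.μ l = φ ∧ l * u = u * l := by
  obtain ⟨l, hl, rfl⟩ := exists_L (b := b) hφ.1
  exact ⟨l, hl, rfl, comm_of_μ hl hu (mem_C1.1 hφ.2)⟩

theorem normK {w x : G} (hK : w ∈ cj(g, 𝐂[b.L])) (h2 : w * w = 1) (h1 : w ≠ 1) (hx : x * w = w * x) :
    x ∈ 𝐍[cj(g, 𝐂[b.L])] := by
  rw [← b.cj_cent] at hK ⊢
  exact norm_cent le_rfl ((b.cj g).cent_le h2 h1 hK (mem_C1.2 hx))

theorem normY (hu : u ∈ b.L) (hK : u ∈ cj(g, 𝐂[b.L])) (h2 : u * u = 1) (h1 : u ≠ 1) :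
    inn A ⊓ C1 (b.μ u) ≤ 𝐍[b.img (b.L ⊓ cj(g, 𝐂[b.L]))] := by
  refine norm_of_forall_cj_le fun φ hφ => cj_le_iff.2 fun ψ hψ => ?_
  obtain ⟨l, hl, rfl, c⟩ := lift hu hφ
  obtain ⟨q, hq, hq', rfl⟩ := mem_Y.1 hψ
  exact mem_Y.2 ⟨l * q * l⁻¹, mul_mem (mul_mem hl hq) (inv_mem hl), conj_mem_of_norm (normK hK h2 h1 c) hq',
    μ_conj (le_normalizer hl) (le_normalizer hq)⟩

theorem commY (hu : u ∈ b.L) (hK : u ∈ cj(g, 𝐂[b.L])) (h2 : u * u = 1) (h1 : u ≠ 1) {r : G}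
    (hr : r ∈ cj(g, 𝐂[b.L])) (hn : r ∈ 𝐍[b.L]) {φ : MulAut A} (hφ : φ ∈ inn A ⊓ C1 (b.μ u)) :
    φ⁻¹ * (b.μ r * φ * (b.μ r)⁻¹) ∈ b.img (b.L ⊓ cj(g, 𝐂[b.L])) := by
  obtain ⟨l, hl, rfl, c⟩ := lift hu hφ
  refine mem_Y.2 ⟨l⁻¹ * (r * l * r⁻¹), mul_mem (inv_mem hl) (conj_mem_of_norm hn hl), ?_, ?_⟩
  · have := mul_mem (conj_mem_of_norm' (normK hK h2 h1 c) hr) (inv_mem hr)
    simpa only [mul_assoc] using this
  · rw [b.μ_mul (inv_mem (le_normalizer hl)) (le_normalizer (conj_mem_of_norm hn hl)), b.μ_inv (le_normalizer hl),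
      μ_conj hn (le_normalizer hl)]

theorem card_img_eq (hg : g ∉ 𝐍[b.L]) {R : Subgroup G} (hR : R ≤ cj(g, 𝐂[b.L]) ⊓ 𝐍[b.L]) (p : IsPGroup 2 R) :
    Nat.card (b.img R) = Nat.card R := by
  have h1 := b.card_img (hR.trans inf_le_right)
  have h2 : R ⊓ 𝐂[b.L] = ⊥ :=
    eq_bot_iff.2 fun x hx => mem_bot.2 (b.ti hg (pg_iff.1 p x hx.1) hx.2 (hR hx.1).1)
  rwa [h2, card_bot, mul_one] at h1

theorem four_le (h4 : 4 ∣ Nat.card 𝐂[b.L]) {R : Subgroup G} (hR : Syl 2 R 𝐂[b.L]) : 4 ≤ Nat.card R := by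
  have : Fact (Nat.Prime 2) := ⟨Nat.prime_two⟩
  obtain ⟨R0, h0, c0⟩ := exists_four (one_mem 𝐂[b.L]) (one_mul 1) h4
  obtain ⟨T, h1, hT⟩ := Syl.exists_ge (pg_four c0) (h0.trans inf_le_left)
  rw [hR.card_eq hT, ← c0]
  exact card_le_of_le h1

/-- A Sylow 2-subgroup of the conjugate normalising `L`. -/
theorem exists_R (hg : g ∉ 𝐍[b.L]) (h4 : 4 ∣ Nat.card 𝐂[b.L]) {w : G} (hw : w ∈ b.L) (h2 : w * w = 1)
    (h1 : w ≠ 1) (hK : w ∈ cj(g, 𝐂[b.L])) :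
    ∃ R₁ ≤ cj(g, 𝐂[b.L]) ⊓ 𝐍[b.L], IsPGroup 2 R₁ ∧ 4 ≤ Nat.card R₁ ∧
      (∀ R, Syl 2 R 𝐂[b.L] → Nat.card R = Nat.card R₁) ∧ w ∈ R₁ ∧
      ∃ u ∈ R₁, u ∈ b.L ∧ u * u = 1 ∧ u ≠ 1 ∧ ∀ x ∈ R₁, x * u = u * x := by
  have : Fact (Nat.Prime 2) := ⟨Nat.prime_two⟩
  obtain ⟨R, hR⟩ := Syl.exists 2 𝐂[b.L]
  have c4 := four_le h4 hR
  have n0 : R ≠ ⊥ := fun e => by rw [e, card_bot] at c4; omega
  have te : IsTightlyEmbedded cj(g, 𝐂[b.L]) := by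
    rw [← b.cj_cent]
    exact (b.cj g).std.2.1
  have hg' : g⁻¹ ∉ 𝐍[cj(g, 𝐂[b.L])] := by
    rw [← cj_norm, b.nn, mem_cj]
    intro h
    exact hg (by simpa using h)
  have wR : zpowers w ≤ 𝐂[R] := zpowers_le.2 (mem_cent.2 fun a ha => (mem_cent.1 (hR.le ha) w hw).symm)
  have hT : Syl 2 R (cj(g⁻¹, cj(g, 𝐂[b.L])) ⊓ 𝐍[cj(g, 𝐂[b.L])]) := by
    rw [cj_inv_cj]
    exact hR.mono (le_inf hR.le fun a ha => normK hK h2 h1 (mem_cent.1 (hR.le ha) w hw).symm) inf_le_left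
  have pw : IsPGroup 2 (zpowers w) := by
    refine pg_iff.2 ?_
    rintro _ ⟨i, rfl⟩
    exact ⟨1, by rw [pow_one, ← zpow_natCast, ← zpow_mul, mul_comm, zpow_mul, zpow_natCast, sq, h2, one_zpow]⟩
  obtain ⟨S, l1, hS⟩ := Syl.exists_ge (pg_sup pw hR.pg (norm_of_cent wR))
    (sup_le_sup_right (zpowers_le.2 hK) R)
  obtain ⟨-, -, k1, -, ⟨k2⟩⟩ := S1910.result _ te g⁻¹ hg' R n0 hT.le ⟨hT.pg, hT.nd⟩ S (le_sup_right.trans l1) hS.le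
    ⟨hS.pg, hS.nd⟩
  obtain ⟨t0, ht0, t01⟩ := (R.bot_or_exists_ne_one).resolve_left n0
  obtain ⟨t, ht, t2, t1⟩ := inv_of_two ht0 (pg_iff.1 hR.pg t0 ht0) t01
  have hN : S ⊓ 𝐍[R] ⊓ cj(g, 𝐂[b.L]) ≤ 𝐍[b.L] := fun y hy =>
    b.cent_le t2 t1 (hR.le ht) (mem_C1.2 (mem_cent.1 (comm_eq_bot_iff'.1 k1 hy) t ht).symm)
  have pR : IsPGroup 2 (S ⊓ 𝐍[R] ⊓ cj(g, 𝐂[b.L]) : Subgroup G) := hS.pg.to_inf_left.to_inf_left
  have wm : w ∈ S ⊓ 𝐍[R] ⊓ cj(g, 𝐂[b.L]) :=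
    ⟨⟨l1 (mem_sup_left (mem_zpowers w)), norm_of_cent wR (mem_zpowers w)⟩, hK⟩
  have ce := Nat.card_congr k2.toEquiv
  refine ⟨_, le_inf inf_le_right hN, pR, ce ▸ c4, fun R' hR' => (hR'.card_eq hR).trans ce.symm, wm, ?_⟩
  obtain ⟨z, hz, z2, z1, cz⟩ := ABG.exists_inv_of_even (K := S ⊓ 𝐍[R] ⊓ cj(g, 𝐂[b.L]) ⊓ b.L) pR
    (norm_inf le_normalizer hN) fun o => h1 (mem_bot.1 (eq_bot_of_coprime pR.to_inf_left le_rfl
      (Nat.coprime_two_right.2 o) ▸ (⟨wm, hw⟩ : w ∈ S ⊓ 𝐍[R] ⊓ cj(g, 𝐂[b.L]) ⊓ b.L)))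
  exact ⟨z, hz.1, hz.2, z2, z1, cz⟩

theorem starZ0 (hg : g ∉ 𝐍[b.L]) (hK : b.z ∈ cj(g, 𝐂[b.L])) :
    (∀ w ∈ b.L, w ∈ cj(g, 𝐂[b.L]) → w * b.z = b.z * w → w * w = 1 → w = 1 ∨ w = b.z) ∧
      ∀ r ∈ cj(g, 𝐂[b.L]), r ∈ 𝐍[b.L] → Two r → r * b.z = b.z * r → b.μ r ∈ zpowers m.y := by
  obtain ⟨β, hβ, hμ⟩ := b.exists_β
  have lw := b.lw hβ hμ
  have hn := normY (z_mem b) hK lw.zz lw.z1
  rw [μ_z] at hn
  rcases m.tg.nz _ Y_le hn (mem_Y.2 ⟨b.z, z_mem b, hK, μ_z⟩) with h | ⟨h, h'⟩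
  · exfalso
    have h1 := h (b.img (b.L ⊓ 𝐍[cj(g, 𝐂[b.L])])) fun w hw w2 w1 φ hφ => by
      obtain ⟨q, hq, hq', rfl⟩ := mem_Y.1 hw
      obtain ⟨l, hl, rfl, c⟩ := lift hq hφ
      exact mem_Y.2 ⟨l, hl, normK hq' (sq_of_μ hq w2) (ne_of_μ w1) c, rfl⟩
    refine b.not_le hg (lw.ncl (z_mem b) (fun hc => lw.z1 (b.zL (z_mem b) hc)) fun l hl => ?_)
    obtain ⟨q, hq, hq', e⟩ := mem_Y.1 (h1 (μ_mem hl))
    exact conj_mem_of_norm (b.eq_of_μ hq hl e ▸ hq') hK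
  · refine ⟨fun w hw hw' c w2 => ?_, fun r hr hN h2 c => ?_⟩
    · have nw := le_normalizer hw
      have nz := le_normalizer (z_mem b)
      rcases h (b.μ w) (mem_Y.2 ⟨w, hw, hw', rfl⟩) (by rw [← μ_z (b := b)]; exact μ_comm nw nz c)
        (by rw [← b.μ_mul nw nw, w2, b.μ_one]) with e | e
      · exact Or.inl (b.eq_of_μ hw (one_mem _) (e.trans b.μ_one.symm))
      · exact Or.inr (b.eq_of_μ hw (z_mem b) (e.trans μ_z.symm))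
    · refine h' _ (two_μ hN h2) (mem_C1.2 ?_) fun φ hφ => commY (z_mem b) hK lw.zz lw.z1 hr hN (by rwa [μ_z])
      rw [← μ_z (b := b)]
      exact μ_comm hN (le_normalizer (z_mem b)) c

theorem starB0 (hu : u ∈ b.L) (hK : u ∈ cj(g, 𝐂[b.L])) (e : b.μ u = m.β)
    (d : Bd (inn A) m.P m.B (MulAut.conj m.z₀) m.β)
    (hno : ∀ w ∈ b.L, w ∈ cj(g, 𝐂[b.L]) → ¬ Cj (inn A) (MulAut.conj m.z₀) (b.μ w)) {r : G}
    (hr : r ∈ cj(g, 𝐂[b.L])) (hN : r ∈ 𝐍[b.L]) (h2 : Two r) (c : r * u = u * r) (hP : b.μ r ∈ 𝐍[m.P]) :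
    b.μ r ∈ m.B := by
  have lw := b.lw hu e
  have hn := normY hu hK lw.bb lw.b1
  have hno' : ∀ φ ∈ b.img (b.L ⊓ cj(g, 𝐂[b.L])), ¬ Cj (inn A) (MulAut.conj m.z₀) φ := fun φ hφ => by
    obtain ⟨q, hq, hq', rfl⟩ := mem_Y.1 hφ
    exact hno q hq hq'
  have hc := fun φ => commY (φ := φ) hu hK lw.bb lw.b1 hr hN
  rw [e] at hn hc
  have h1 := (d.nb _ Y_le hn (mem_Y.2 ⟨u, hu, hK, e⟩)).resolve_right fun ⟨w, hw, h⟩ => hno' w hw h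
  have cβ : b.μ r ∈ C1 m.β := mem_C1.2 (by rw [← e]; exact μ_comm hN (le_normalizer hu) c)
  refine (d.cb _ (two_μ hN h2) cβ hP fun x hx => h1 (mem_inf.2 ⟨hc x (m.lw.sylP.le hx),
    mul_mem (inv_mem hx) (conj_mem_of_norm hP hx)⟩)).resolve_right fun hz => ?_
  obtain ⟨k, hk, hkB, hcj⟩ := d.mz
  have hkβ : k ∈ inn A ⊓ C1 m.β := ⟨hk, mem_C1.2 (mem_cent.1 hkB _ d.mem).symm⟩
  have h4 := inv_mem (conj_mem_of_norm' (hn (m.lw.sylP.le (d.le hz))) (hc k⁻¹ (inv_mem hkβ)))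
  have h5 := mem_cent.1 hkB _ hz
  have zi : (MulAut.conj m.z₀ : MulAut A)⁻¹ = MulAut.conj m.z₀ := inv_eq_of_mul_eq_one_right m.lw.zz
  refine hno' _ h4 ?_
  convert hcj using 1
  generalize (MulAut.conj m.z₀ : MulAut A) = z at h5 zi ⊢
  generalize b.μ r = φ at h5 ⊢
  calc _ = z⁻¹ * k * z * (φ * z)⁻¹ * k⁻¹ * (φ * z) := by group
    _ = z⁻¹ * k * z * (k * (φ * z))⁻¹ * (φ * z) := by group
    _ = z⁻¹ * (k * z * k⁻¹) := by rw [← h5]; group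
    _ = _ := by rw [zi]

theorem shift_g (hg : g ∉ 𝐍[b.L]) {l : G} (hl : l ∈ b.L) : l⁻¹ * g ∉ 𝐍[b.L] := fun h =>
  hg (by simpa using mul_mem (le_normalizer hl) h)

theorem shift_K {l x : G} : x ∈ cj(l⁻¹ * g, 𝐂[b.L]) ↔ l * x * l⁻¹ ∈ cj(g, 𝐂[b.L]) := by
  rw [← cj_cj, mem_cj, inv_inv]

theorem shift_K' {l x : G} (h : x ∈ cj(g, 𝐂[b.L])) : l⁻¹ * x * l⁻¹⁻¹ ∈ cj(l⁻¹ * g, 𝐂[b.L]) :=
  shift_K.2 (by simpa [mul_assoc] using h)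

theorem μ_conj' {l x : G} (hl : l ∈ b.L) (hx : x ∈ 𝐍[b.L]) :
    b.μ (l⁻¹ * x * l⁻¹⁻¹) = (b.μ l)⁻¹ * b.μ x * b.μ l := by
  rw [μ_conj (inv_mem (le_normalizer hl)) hx, b.μ_inv (le_normalizer hl), inv_inv]

theorem starZ (hg : g ∉ 𝐍[b.L]) (hu : u ∈ b.L) (hK : u ∈ cj(g, 𝐂[b.L])) {c : MulAut A} (hc : c ∈ inn A)
    (e : b.μ u = c * MulAut.conj m.z₀ * c⁻¹) :
    (∀ w ∈ b.L, w ∈ cj(g, 𝐂[b.L]) → w * u = u * w → w * w = 1 → w = 1 ∨ w = u) ∧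
      ∀ r ∈ cj(g, 𝐂[b.L]), r ∈ 𝐍[b.L] → Two r → r * u = u * r → b.μ r ∈ cj(c, zpowers m.y) := by
  obtain ⟨l, hl, rfl⟩ := exists_L (b := b) hc
  have ez : l⁻¹ * u * l⁻¹⁻¹ = b.z := b.eq_of_μ (mul_mem (mul_mem (inv_mem hl) hu) (inv_mem (inv_mem hl))) (z_mem b)
    (by rw [μ_conj' hl (le_normalizer hu), e, μ_z]; group)
  obtain ⟨h, h'⟩ := starZ0 (shift_g hg hl) (ez ▸ shift_K' hK)
  refine ⟨fun w hw hw' cw w2 => ?_, fun r hr hN h2 cr => ?_⟩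
  · rcases h _ (mul_mem (mul_mem (inv_mem hl) hw) (inv_mem (inv_mem hl))) (shift_K' hw') (ez ▸ comm_conj cw)
      (by rw [conj_mul, w2]; group) with k | k
    · exact Or.inl (conj_eq_one_iff.1 k)
    · exact Or.inr (by simpa using k.trans ez.symm)
  · have nl := inv_mem (le_normalizer hl)
    have := h' _ (shift_K' hr) (mul_mem (mul_mem nl hN) (inv_mem nl)) (two_conj h2 _) (ez ▸ comm_conj cr)
    rwa [μ_conj' hl hN, ← mem_cj] at this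

theorem starB (hu : u ∈ b.L) (hK : u ∈ cj(g, 𝐂[b.L])) {c : MulAut A} (hc : c ∈ inn A)
    (e : b.μ u = c * m.β * c⁻¹) (d : Bd (inn A) m.P m.B (MulAut.conj m.z₀) m.β)
    (hno : ∀ w ∈ b.L, w ∈ cj(g, 𝐂[b.L]) → ¬ Cj (inn A) (MulAut.conj m.z₀) (b.μ w)) {r : G}
    (hr : r ∈ cj(g, 𝐂[b.L])) (hN : r ∈ 𝐍[b.L]) (h2 : Two r) (cr : r * u = u * r) (hP : b.μ r ∈ 𝐍[cj(c, m.P)]) :
    b.μ r ∈ cj(c, m.B) := by
  obtain ⟨l, hl, rfl⟩ := exists_L (b := b) hc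
  have nl := inv_mem (le_normalizer hl)
  have := starB0 (g := l⁻¹ * g) (mul_mem (mul_mem (inv_mem hl) hu) (inv_mem (inv_mem hl))) (shift_K' hK)
    (by rw [μ_conj' hl (le_normalizer hu), e]; group) d
    (fun w hw hw' ⟨k, hk, ek⟩ => hno _ (mul_mem (mul_mem hl hw) (inv_mem hl)) (shift_K.1 hw')
      ⟨b.μ l * k, mul_mem hc hk, by rw [μ_conj (le_normalizer hl) (le_normalizer hw), ← ek]; group⟩)
    (shift_K' hr) (mul_mem (mul_mem nl hN) (inv_mem nl)) (two_conj h2 _) (comm_conj cr)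
    (by rwa [μ_conj' hl hN, ← mem_cj, cj_norm])
  rwa [μ_conj' hl hN, ← mem_cj] at this

theorem shift_c {l c a : MulAut A} (hl : l ∈ inn A ⊓ C1 (b.μ u)) (e : b.μ u = c * a * c⁻¹) :
    b.μ u = l * c * a * (l * c)⁻¹ := by
  have h := mem_C1.1 hl.2
  calc b.μ u = l * b.μ u * l⁻¹ := by rw [h]; group
    _ = _ := by rw [e]; group

theorem syl_cj {Q : Subgroup (MulAut A)} {c a : MulAut A} (hQ : Syl 2 Q (inn A ⊓ C1 a))
    (e : b.μ u = c * a * c⁻¹) : Syl 2 cj(c, Q) (inn A ⊓ C1 (b.μ u)) := by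
  have := b.finite
  have : Fact (Nat.Prime 2) := ⟨Nat.prime_two⟩
  have h := hQ.cj c
  rwa [cj_inf, cj_C1, cj_normal (inn A), ← e] at h

theorem syl_T [Finite A] : Syl 2 m.T (inn A ⊓ C1 (MulAut.conj m.z₀)) := by
  have : Fact (Nat.Prime 2) := ⟨Nat.prime_two⟩
  exact m.lw.syl.mono (le_inf m.lw.syl.le fun x hx => mem_C1.2 (mem_cent.1 m.lw.zc x hx)) inf_le_left

theorem exists_l (hu : u ∈ b.L) {Q : Subgroup (MulAut A)} {c a : MulAut A} (hQ : Syl 2 Q (inn A ⊓ C1 a))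
    (e : b.μ u = c * a * c⁻¹) {R : Subgroup G} (hR : R ≤ 𝐍[b.L]) (p : IsPGroup 2 R) (cu : ∀ x ∈ R, x * u = u * x) :
    ∃ l ∈ inn A ⊓ C1 (b.μ u), b.img R ≤ 𝐍[cj(l * c, Q)] := by
  have := b.finite
  obtain ⟨l, hl, h⟩ := exists_norm_syl (b.pg_img p) (norm_inf (norm_normal _ _) (norm_C1 fun φ hφ => by
    obtain ⟨q, hq, rfl⟩ := (b.mem_img hR).1 hφ
    exact mem_C1.2 (μ_comm (hR hq) (le_normalizer hu) (cu q hq)))) (syl_cj hQ e)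
  exact ⟨l, hl, by rwa [cj_cj] at h⟩

theorem card_y [Finite A] : Nat.card (zpowers m.y) ≤ 4 ∧ (m.y = MulAut.conj m.z₀ → Nat.card (zpowers m.y) ≤ 2) := by
  have h2 : m.y = MulAut.conj m.z₀ → Nat.card (zpowers m.y) ≤ 2 := fun e => by
    rw [Nat.card_zpowers]
    exact orderOf_le_of_pow_eq_one (by norm_num) (by rw [e, sq, m.lw.zz])
  refine ⟨?_, h2⟩
  rcases m.tg.yz with e | ⟨-, -, e, -⟩
  · exact (h2 e).trans (by norm_num)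
  · rw [Nat.card_zpowers]
    refine orderOf_le_of_pow_eq_one (by norm_num) ?_
    calc m.y ^ 4 = m.y * m.y * (m.y * m.y) := by simp only [pow_succ, pow_zero, one_mul, mul_assoc]
      _ = 1 := by rw [e, m.lw.zz]

theorem img_le {R : Subgroup G} (hR : R ≤ 𝐍[b.L]) {W : Subgroup (MulAut A)} (h : ∀ r ∈ R, b.μ r ∈ W) :
    b.img R ≤ W := fun φ hφ => by
  obtain ⟨q, hq, rfl⟩ := (b.mem_img hR).1 hφ
  exact h q hq

end main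

end TC

open TC

variable {A : Type} [Group A] {m : Md A} {G : Type u} [Group G] [Finite G]


namespace Bas

variable (b : Bas m G)

/-- The Sylow 2-subgroups of `C(L)` have order four and act on the conjugate as `⟨y⟩` or `B`. -/
structure Shp (g u : G) (c : MulAut A) (V Q : Subgroup (MulAut A)) : Prop where
  uL : u ∈ b.L
  mem : u ∈ cj(g, 𝐂[b.L])
  hc : c ∈ inn A
  typ : (b.μ u = c * MulAut.conj m.z₀ * c⁻¹ ∧ V = zpowers m.y ∧ Q = m.T ∧ m.y ≠ MulAut.conj m.z₀) ∨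
    (b.μ u = c * m.β * c⁻¹ ∧ V = m.B ∧ Q = m.P ∧ m.β ≠ MulAut.conj m.z₀)
  four : ∀ R, Syl 2 R 𝐂[b.L] → Nat.card R = 4
  act : ∀ l ∈ inn A ⊓ C1 (b.μ u), ∀ R ≤ cj(g, 𝐂[b.L]) ⊓ 𝐍[b.L], u ∈ R → Nat.card R = 4 →
    b.img R ≤ 𝐍[cj(l * c, Q)] → b.img R = cj(l * c, V)

theorem Shp.act1 {b : Bas m G} {g u : G} {c : MulAut A} {V Q : Subgroup (MulAut A)} (h : b.Shp g u c V Q)
    {R : Subgroup G} (hR : R ≤ cj(g, 𝐂[b.L]) ⊓ 𝐍[b.L]) (hu : u ∈ R) (h4 : Nat.card R = 4)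
    (hn : b.img R ≤ 𝐍[cj(c, Q)]) : b.img R = cj(c, V) := by
  have := h.act 1 (one_mem _) R hR hu h4 (by rwa [one_mul])
  rwa [one_mul] at this

theorem Shp.move {b : Bas m G} {g u : G} {c : MulAut A} {V Q : Subgroup (MulAut A)} (h : b.Shp g u c V Q)
    {R : Subgroup G} (hR : R ≤ cj(g, 𝐂[b.L]) ⊓ 𝐍[b.L]) (hu : u ∈ R) (h4 : Nat.card R = 4) :
    ∃ c', b.Shp g u c' V Q ∧ b.img R = cj(c', V) := by
  have := b.finite
  have cu : ∀ x ∈ R, x * u = u * x := fun x hx => mem_cent.1 (TB.comm_four h4 hu) x hx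
  obtain ⟨l, hl, hn⟩ : ∃ l ∈ inn A ⊓ C1 (b.μ u), b.img R ≤ 𝐍[cj(l * c, Q)] := by
    rcases h.typ with ⟨e, -, rfl, -⟩ | ⟨e, -, rfl, -⟩
    · exact exists_l h.uL syl_T e (hR.trans inf_le_right) (TB.pg_four h4) cu
    · exact exists_l h.uL m.lw.sylP e (hR.trans inf_le_right) (TB.pg_four h4) cu
  refine ⟨l * c, ⟨h.uL, h.mem, mul_mem hl.1 h.hc, ?_, h.four, fun l' hl' R' hR' hu' h4' hn' => ?_⟩,
    h.act l hl R hR hu h4 hn⟩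
  · exact h.typ.imp (fun ⟨e, k⟩ => ⟨shift_c hl e, k⟩) fun ⟨e, k⟩ => ⟨shift_c hl e, k⟩
  · rw [← mul_assoc] at hn' ⊢
    exact h.act _ (mul_mem hl' hl) R' hR' hu' h4' hn'

theorem exists_shp {g w : G} (hg : g ∉ 𝐍[b.L]) (h4 : 4 ∣ Nat.card 𝐂[b.L]) (hw : w ∈ b.L) (h2 : w * w = 1)
    (h1 : w ≠ 1) (hK : w ∈ cj(g, 𝐂[b.L])) : ∃ u c V Q, b.Shp g u c V Q := by
  have := b.finite
  by_cases hz : ∃ u ∈ b.L, u ∈ cj(g, 𝐂[b.L]) ∧ Cj (inn A) (MulAut.conj m.z₀) (b.μ u)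
  · obtain ⟨u, hu, huK, c, hc, e⟩ := hz
    have u2 : u * u = 1 := sq_of_μ hu (by rw [← e, conj_mul, m.lw.zz]; group)
    have u1 : u ≠ 1 := ne_of_μ (b := b) (by rw [← e]; exact fun k => m.lw.z1 (by simpa using k))
    obtain ⟨R₁, hR, p, c4, hs, uR, v, vR, vL, v2, v1, cv⟩ := exists_R hg h4 hu u2 u1 huK
    obtain rfl : v = u := ((starZ hg hu huK hc e.symm).1 v vL (hR vR).1 (cv u uR).symm v2).resolve_left v1
    have hle : Nat.card R₁ ≤ Nat.card (zpowers m.y) := by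
      rw [← card_img_eq hg hR p, ← card_cj (zpowers m.y) c]
      exact card_le_of_le (img_le (hR.trans inf_le_right) fun r hr =>
        (starZ hg hu huK hc e.symm).2 r (hR hr).1 (hR hr).2 (pg_iff.1 p r hr) (cv r hr))
    have cy := card_y (m := m)
    refine ⟨v, c, _, _, hu, huK, hc, Or.inl ⟨e.symm, rfl, rfl, fun k => ?_⟩, fun R h => ?_,
      fun l hl R hR' hu' h4' _ => ?_⟩
    · have := cy.2 k
      omega
    · have := hs R h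
      omega
    · have p' := TB.pg_four h4'
      refine eq_of_le_of_card_ge (img_le (hR'.trans inf_le_right) fun r hr =>
        (starZ hg hu huK (mul_mem hl.1 hc) (shift_c hl e.symm)).2 r (hR' hr).1 (hR' hr).2 (pg_iff.1 p' r hr)
          (mem_cent.1 (TB.comm_four h4' hu') r hr)) ?_
      rw [card_img_eq hg hR' p', card_cj, h4']
      exact cy.1
  · have hno : ∀ w ∈ b.L, w ∈ cj(g, 𝐂[b.L]) → ¬ Cj (inn A) (MulAut.conj m.z₀) (b.μ w) :=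
      fun w a a' a'' => hz ⟨w, a, a', a''⟩
    obtain ⟨R₁, hR, p, c4, hs, -, u, uR, hu, u2, u1, cu⟩ := exists_R hg h4 hw h2 h1 hK
    have huK := (hR uR).1
    have nu := le_normalizer hu
    have hcj := (m.lw.cls (b.μ u) (μ_mem hu) (by rw [← b.μ_mul nu nu, u2, b.μ_one])
      fun k => u1 (b.zL hu ((b.μ_eq_one nu).1 k))).resolve_left (hno u hu huK)
    have hb : m.β ≠ MulAut.conj m.z₀ := fun k => hno u hu huK (k ▸ hcj)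
    have d := m.tg.bd.resolve_left hb
    obtain ⟨c, hc, e⟩ := hcj
    have key : ∀ l ∈ inn A ⊓ C1 (b.μ u), ∀ R ≤ cj(g, 𝐂[b.L]) ⊓ 𝐍[b.L], IsPGroup 2 R → (∀ x ∈ R, x * u = u * x) →
        b.img R ≤ 𝐍[cj(l * c, m.P)] → b.img R ≤ cj(l * c, m.B) := fun l hl R hR' p' cu' hn =>
      img_le (hR'.trans inf_le_right) fun r hr =>
        starB hu huK (mul_mem hl.1 hc) (shift_c hl e.symm) d hno (hR' hr).1 (hR' hr).2 (pg_iff.1 p' r hr)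
          (cu' r hr) (hn ((b.mem_img (hR'.trans inf_le_right)).2 ⟨r, hr, rfl⟩))
    refine ⟨u, c, _, _, hu, huK, hc, Or.inr ⟨e.symm, rfl, rfl, hb⟩, fun R h => ?_, fun l hl R hR' hu' h4' hn => ?_⟩
    · obtain ⟨l, hl, hn⟩ := exists_l hu m.lw.sylP e.symm (hR.trans inf_le_right) p cu
      have h5 := card_le_of_le (key l hl R₁ hR p cu hn)
      rw [card_img_eq hg hR p, card_cj, d.card] at h5
      have := hs R h
      omega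
    · have p' := TB.pg_four h4'
      refine eq_of_le_of_card_ge (key l hl R hR' p' (fun x hx => mem_cent.1 (TB.comm_four h4' hu') x hx) hn) ?_
      rw [card_img_eq hg hR' p', card_cj, h4', d.card]

end Bas

end Cfsg.Agent.Wz
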