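import Mathlib
import Cfsg.Agent.Wz.TC
import Cfsg.Agent.Wz.TB
import Cfsg.Agent.Wz.TZ

/-!
# The centraliser of the standard subgroup does not have Sylow 2-subgroups of order four
-/

set_option autoImplicit false
set_option linter.unusedSectionVars false

namespace Cfsg.Agent.Wz

open Cfsg.Agent.Loc.Mss Cfsg.Agent.Gold Cfsg.Agent.Wr Subgroup

universe u

variable {A : Type} [Group A] {m : Md A} {G : Type u} [Group G] [Finite G]

namespace TD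

open TZ

theorem two_mul_le {H K : Subgroup G} (h : H ≤ K) (hn : ¬ K ≤ H) : 2 * Nat.card H ≤ Nat.card K := by
  obtain ⟨n, hn'⟩ := card_dvd_of_le h
  have h0 : 0 < Nat.card K := Nat.card_pos
  rcases n with _ | _ | n
  · omega
  · exact absurd (eq_of_le_of_card_ge h (by omega)).ge hn
  · rw [hn']; nlinarith [Nat.zero_le (Nat.card H * n)]

theorem card_zp {β : G} (h2 : β * β = 1) (h1 : β ≠ 1) : Nat.card (zpowers β) = 2 := by
  rw [Nat.card_zpowers]; exact orderOf_eq_prime (by rw [sq, h2]) h1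

theorem exists_v {V : Subgroup G} (hV : Nat.card V = 4) {β : G} (h2 : β * β = 1) (h1 : β ≠ 1) :
    ∃ v ∈ V, v ∉ zpowers β := by
  refine SetLike.not_le_iff_exists.1 fun h => ?_
  have := card_le_of_le h
  rw [card_zp h2 h1] at this
  omega

theorem cent_four {V : Subgroup G} (hV : Nat.card V = 4) {β v s : G} (hβ : β ∈ V) (h2 : β * β = 1) (h1 : β ≠ 1)
    (hv : v ∈ V) (v1 : v ∉ zpowers β) (e1 : s * β = β * s) (e2 : s * v = v * s) : s ∈ 𝐂[V] := by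
  have k : ∀ w ∈ zpowers β, Commute w s := by
    rintro _ ⟨n, rfl⟩
    exact Commute.zpow_left e1.symm n
  refine mem_cent.2 fun w hw => ?_
  by_cases e : w ∈ zpowers β
  · exact k w e
  · rw [show w = w * v * v⁻¹ by group]
    exact ((k _ (four hV hβ h2 h1 hw hv e v1)).mul_left (Commute.inv_left e2.symm) : Commute _ _)

theorem idx_J {Q V : Subgroup G} (hV : Nat.card V = 4) {β : G} (hβ : β ∈ V) (h2 : β * β = 1) (h1 : β ≠ 1)
    (hn : Q ≤ 𝐍[V]) (hc : Q ≤ C1 β) : Nat.card Q ≤ 2 * Nat.card (Q ⊓ 𝐂[V] : Subgroup G) := by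
  obtain ⟨v, hv, v1⟩ := exists_v hV h2 h1
  have k : ∀ s ∈ Q, s ∈ 𝐂[V] ∨ s⁻¹ * v * s = β * v := fun s hs =>
    (four_act hV hβ h2 h1 hv (hn hs) (mC.1 (hc hs))).imp (fun e => cent_four hV hβ h2 h1 hv v1 (mC.1 (hc hs)) (by
      calc s * v = s * (s⁻¹ * v * s * v⁻¹) * v := by rw [e]; group
        _ = _ := by group)) fun e => by rw [← e]; group
  refine TB.card_le_two_mul fun x hx y hy => ?_
  refine (k x hx).imp_right fun e => (k y hy).imp_right fun e' => ?_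
  refine cent_four hV hβ h2 h1 hv v1 (mC.1 (hc (mul_mem hx hy))) ?_
  calc x * y * v = x * y * (β * β * v) := by rw [h2, one_mul]
    _ = x * (y * β) * (β * v) := by group
    _ = x * (β * y) * (y⁻¹ * v * y) := by rw [mC.1 (hc hy), e']
    _ = x * (β * v) * y := by group
    _ = _ := by rw [← e]; group

theorem syl_J {L H Q V : Subgroup G} (hQ : Syl 2 Q H) (QL : Q ≤ L) (hH : L ⊓ 𝐂[V] ≤ H) (VQ : V ≤ Q)
    (hV : Nat.card V = 4) (hi : Nat.card Q ≤ 2 * Nat.card (Q ⊓ 𝐂[V] : Subgroup G))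
    (hno : ∀ d ∈ H, V ≤ cj(d, Q) → ¬ cj(d, Q) ≤ 𝐂[V]) : Syl 2 (Q ⊓ 𝐂[V]) (L ⊓ 𝐂[V]) := by
  refine Syl.of_maximal (hQ.pg.to_le inf_le_left) (inf_le_inf_right _ QL) fun J hJ h1 h2 => ?_
  by_contra hn
  obtain ⟨d, hd, rfl⟩ := hQ.conj_eq (hQ.of_card_le hJ (h2.trans hH) (hi.trans (two_mul_le h1 hn)))
  exact hno d hd ((le_inf VQ (TB.comm_four hV)).trans h1) (h2.trans inf_le_right)

theorem card_W {L J V W : Subgroup G} (idx : ∀ φ ψ : G, φ ∈ L ∨ ψ ∈ L ∨ φ * ψ ∈ L) {c : G} (hL : c ∈ 𝐍[L])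
    (hs : Syl 2 J (L ⊓ 𝐂[V])) (hW : IsPGroup 2 W) (hc : W ≤ 𝐂[cj(c, V)]) :
    Nat.card W ≤ 2 * Nat.card J ∧ (2 * Nat.card J ≤ Nat.card W → ∃ d, cj(d, V) = cj(c, V) ∧ W ⊓ L = cj(d, J)) := by
  have h1 := hs.cj c
  rw [cj_inf, cj_of_norm hL, cj_cent] at h1
  obtain ⟨e, he, h2⟩ := h1.le_conj (hW.to_le (inf_le_left : W ⊓ L ≤ W)) (le_inf inf_le_right (inf_le_left.trans hc))
  rw [cj_cj] at h2
  have h3 := card_le_of_le h2
  have h4 := TB.card_le_two_mul (W := W) (I := L) fun x _ y _ => idx x y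
  rw [card_cj] at h3
  exact ⟨by omega, fun h5 => ⟨e * c, by rw [← cj_cj, cj_of_cent he.2],
    eq_of_le_of_card_ge h2 (by rw [card_cj]; omega)⟩⟩

section lw

variable {L T P B : Subgroup G} {z β y : G}

theorem card_y (h : Lw L T P z β) (e : y * y = z) : Nat.card (zpowers y) = 4 := by
  rw [Nat.card_zpowers]
  exact orderOf_eq_prime_pow (p := 2) (n := 1) (by rw [pow_one, sq, e]; exact h.z1) (by
    rw [show y ^ 2 ^ (1 + 1) = y * y * (y * y) by rw [show 2 ^ (1 + 1) = 2 * 2 from rfl, pow_mul, sq, sq], e, h.zz])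

theorem syl_y (h : Lw L T P z β) (hy : y ∈ T) (e : y * y = z) (hn : T ≤ 𝐍[zpowers y]) :
    Syl 2 (T ⊓ 𝐂[zpowers y]) (L ⊓ 𝐂[zpowers y]) := by
  have hz : z ∈ zpowers y := e ▸ mul_mem (mem_zpowers y) (mem_zpowers y)
  refine syl_J h.syl h.syl.le inf_le_left ((zpowers_le (G := G)).2 hy) (card_y h e)
    (idx_J (card_y h e) hz h.zz h.z1 hn fun x hx => mC.2 (mem_cent.1 h.zc x hx)) fun d _ h1 h2 => ?_
  have h3 : d⁻¹ * y * d ∈ 𝐂[T] := by rw [← mem_cj, cj_cent]; exact cent_comm h2 (mem_zpowers y)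
  have h4 : d⁻¹ * y * d * (d⁻¹ * y * d) = 1 := by
    rcases h.eq_z (mem_cj.1 (h1 (mem_zpowers y))) h3 with e' | e'
    · rw [e', one_mul]
    · rw [e', h.zz]
  refine h.z1 ?_
  calc z = d * (d⁻¹ * y * d * (d⁻¹ * y * d)) * d⁻¹ := by rw [← e]; group
    _ = 1 := by rw [h4]; group

theorem norm_B (h : Lw L T P z β) (hd : Bd L P B z β) : P ≤ 𝐍[B] := fun x hx =>
  hd.nB x (pg_iff.1 h.sylP.pg x hx) (h.PC hx) (le_normalizer hx)

theorem syl_B (h : Lw L T P z β) (hb : β ≠ z) (hd : Bd L P B z β) : Syl 2 (P ⊓ 𝐂[B]) (L ⊓ 𝐂[B]) := by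
  have PL : P ≤ L := h.sylP.le.trans inf_le_left
  refine syl_J h.sylP PL (inf_le_inf_left _ fun x hx => mC.2 (mem_cent.1 hx β hd.mem).symm) hd.le hd.card
    (idx_J hd.card hd.mem h.bb h.b1 (norm_B h hd) h.PC) fun d hd' h1 h2 => ?_
  have dβ : d * β * d⁻¹ = β := by rw [mC.1 hd'.2]; group
  have h3 : d * z * d⁻¹ ∈ B := by
    obtain ⟨v, hv, v1⟩ := exists_v hd.card h.bb h.b1
    have h4 : d⁻¹ * v * d ∈ 𝐂[P] := by rw [← mem_cj, cj_cent]; exact cent_comm h2 hv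
    have h5 : v = d * (d⁻¹ * v * d) * d⁻¹ := by group
    rcases h.eq_zP (mem_cj.1 (h1 hv)) h4 with e | e | e | e <;> rw [e] at h5
    · exact absurd (by rw [h5]; simp) v1
    · rwa [← h5]
    · exact absurd (by rw [h5, dβ]; exact mem_zpowers β) v1
    · rw [show d * z * d⁻¹ = (d * β * d⁻¹)⁻¹ * (d * (β * z) * d⁻¹) by group, dβ, ← h5]
      exact mul_mem (inv_mem hd.mem) hv
  have h4 : d * z * d⁻¹ ∉ zpowers β := fun e => by
    rcases (mem_zp h.bb).1 e with e | e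
    · exact h.z1 (by rw [show z = d⁻¹ * (d * z * d⁻¹) * d by group, e]; group)
    · exact h.not_conj hb (le_normalizer hd'.1) e
  obtain ⟨p, hp, p1⟩ := SetLike.not_le_iff_exists.1 hd.nc
  obtain ⟨l, hl, e⟩ := hd.bz
  rcases four_act hd.card hd.mem h.bb h.b1 h3 (norm_B h hd hp) (mC.1 (h.PC hp)) with e' | e'
  · refine p1 (cent_four hd.card hd.mem h.bb h.b1 h3 h4 (mC.1 (h.PC hp)) ?_)
    calc _ = p * (p⁻¹ * (d * z * d⁻¹) * p * (d * z * d⁻¹)⁻¹) * (d * z * d⁻¹) := by rw [e']; group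
      _ = _ := by group
  · refine h.not_conj hb (le_normalizer (mul_mem (mul_mem (mul_mem (inv_mem hl) (inv_mem hd'.1)) (inv_mem (PL hp)))
      hd'.1)) ?_
    calc _ = l⁻¹ * d⁻¹ * (p⁻¹ * (d * z * d⁻¹) * p * (d * z * d⁻¹)⁻¹) * (d * z) * l := by group
      _ = l⁻¹ * d⁻¹ * (d * β * d⁻¹) * (d * z) * l := by rw [e', dβ]
      _ = l⁻¹ * (β * z) * l := by group
      _ = β := by rw [← e]; group

theorem card_eight (h : Lw L T P z β) (hd : Bd L P B z β) {X : Subgroup G} (hX : X ≤ P)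
    (hc : ∀ φ ∈ X, ∀ x ∈ P, x⁻¹ * (φ * x * φ⁻¹) ∈ B) : Nat.card X ≤ 8 := by
  have k : ∀ φ ∈ X, φ ∈ B ∨ φ * z ∈ B := fun φ hφ =>
    hd.cb φ (pg_iff.1 h.sylP.pg φ (hX hφ)) (h.PC (hX hφ)) (le_normalizer (hX hφ)) (hc φ hφ)
  have h1 := TB.card_le_two_mul (W := X) (I := B) fun x hx y hy =>
    (k x hx).imp_right fun e => (k y hy).imp_right fun e' => by
      rw [show x * y = x * z * (y * z) by
        rw [mem_cent.1 h.zc y (h.PT (hX hy)), mul_assoc, ← mul_assoc z, h.zz, one_mul]]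
      exact mul_mem e e'
  have h2 := card_le_of_le (inf_le_right : X ⊓ B ≤ B)
  rw [hd.card] at h2
  omega

end lw

variable {b : Bas m G} {g u u₁ : G} {c c' : MulAut A} {V Q : Subgroup (MulAut A)}

theorem img_mono {X Y : Subgroup G} (h : X ≤ Y) : b.img X ≤ b.img Y := map_mono (comap_mono h)

theorem inv_of {v : MulAut A} (hu : u ∈ b.L) (e : b.μ u = c * v * c⁻¹) (v2 : v * v = 1) (v1 : v ≠ 1) :
    u * u = 1 ∧ u ≠ 1 := by
  refine ⟨b.eq_of_μ (mul_mem hu hu) (one_mem _) ?_, fun e' => v1 ?_⟩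
  · rw [b.μ_mul (le_normalizer hu) (le_normalizer hu), e, b.μ_one]
    calc _ = c * (v * v) * c⁻¹ := by group
      _ = 1 := by rw [v2]; group
  · rw [e', b.μ_one] at e
    rw [show v = c⁻¹ * (c * v * c⁻¹) * c by group, ← e]; group

theorem shp_inv (h : b.Shp g u c V Q) : u * u = 1 ∧ u ≠ 1 :=
  h.typ.elim (fun e => inv_of h.uL e.1 m.lw.zz m.lw.z1) fun e => inv_of h.uL e.1 m.lw.bb m.lw.b1

theorem le_four (h : b.Shp g u c V Q) {Y : Subgroup G} (hY : IsPGroup 2 Y) (hle : Y ≤ 𝐂[b.L]) : Nat.card Y ≤ 4 := by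
  obtain ⟨R, h1, hR⟩ := Syl.exists_ge hY hle
  exact h.four R hR ▸ card_le_of_le h1

theorem core (h : b.Shp g u c V Q) (h' : b.Shp g⁻¹ u₁ c' V Q) {v : MulAut A} (hu : b.μ u = c * v * c⁻¹) (vQ : v ∈ Q)
    (Qv : Q ≤ C1 v) (Qi : Q ≤ inn A) (pQ : IsPGroup 2 Q) (hs : Syl 2 (Q ⊓ 𝐂[V]) (inn A ⊓ 𝐂[V])) (nc : ¬ Q ≤ 𝐂[V])
    (td : V ≤ ⁅Q ⊓ 𝐂[V], Q ⊓ 𝐂[V]⁆ ∨ ∃ U ≤ Q ⊓ 𝐂[V], 16 ≤ Nat.card U ∧
      (∀ φ, Two φ → φ ∈ 𝐂[V] → φ ∈ 𝐍[Q ⊓ 𝐂[V]] → φ ∈ 𝐂[U]) ∧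
      ∀ X ≤ Q, (∀ φ ∈ X, ∀ x ∈ Q, x⁻¹ * (φ * x * φ⁻¹) ∈ V) → Nat.card X ≤ 8) : False := by
  have := b.finite
  have : Finite (MulAut A) := MulEquiv.finite_left
  obtain ⟨u2, u1⟩ := shp_inv h
  obtain ⟨w2, -⟩ := shp_inv h'
  have nI : ∀ φ, φ ∈ 𝐍[inn A] := fun φ => by rw [normalizer_eq_top]; exact mem_top _
  have eK := b.cj_cent g
  have uN : C1 u ≤ 𝐍[(b.cj g).L] := (b.cj g).cent_le u2 u1 (eK ▸ h.mem)
  obtain ⟨R, r1, hR⟩ := Syl.exists_ge (p := 2) (P := zpowers (g * u₁ * g⁻¹)) (L := 𝐂[b.L])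
    (IsPGroup.of_card_dvd_pow (n := 1) (by
      rw [Nat.card_zpowers]
      refine orderOf_dvd_of_pow_eq_one ?_
      rw [pow_one, sq]
      calc _ = g * (u₁ * u₁) * g⁻¹ := by group
        _ = 1 := by rw [w2]; group)) ((zpowers_le (G := G)).2 (by simpa using mem_cj.1 h'.mem))
  have r4 := h.four R hR
  have Ru : R ≤ C1 u := fun x hx => mC.2 (mem_cent.1 (hR.le hx) u h.uL).symm
  have RN : cj(g⁻¹, R) ≤ 𝐍[b.L] := by
    rw [← le_cj_iff_inv_le, cj_norm]; exact Ru.trans uN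
  obtain ⟨c₂, -, e₂⟩ := h'.move (le_inf (cj_mono _ hR.le) RN) (mem_cj.2 (by simpa using r1 (mem_zpowers _)))
    (by rw [card_cj, r4])
  have e₃ : (b.cj g).img R = cj(c₂, V) := by
    rw [← e₂]
    ext φ
    rw [(b.cj g).mem_img (Ru.trans uN), b.mem_img RN]
    exact ⟨fun ⟨q, hq, e⟩ => ⟨g⁻¹ * q * g, by simpa using conj_mem_cj (g := g⁻¹) hq, e⟩, fun ⟨q, hq, e⟩ =>
      ⟨_, mem_cj.1 hq, by rw [← e]; show b.μ _ = _; congr 1; group⟩⟩
  clear e₂ RN r1 w2 h'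
  have ci : cj(c, Q) ≤ inn A := cj_le_of_norm Qi (nI c)
  have q4 : Nat.card (b.pre cj(c, Q)) = Nat.card Q := by rw [b.card_pre ci, card_cj]
  have qi := b.img_pre ci
  have mq : ∀ {x}, x ∈ b.pre cj(c, Q) ↔ x ∈ b.L ∧ b.μ x ∈ cj(c, Q) := b.mem_pre
  generalize b.pre cj(c, Q) = X at q4 qi mq
  have XL : X ≤ b.L := fun x hx => (mq.1 hx).1
  have uX : u ∈ X := mq.2 ⟨h.uL, hu ▸ conj_mem_cj vQ⟩
  have Xu : X ≤ C1 u := fun x hx => mC.2 (TB.comm_of_μ (XL hx) h.uL (by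
    have e := mC.1 (Qv (mem_cj.1 (mq.1 hx).2))
    rw [hu]
    calc _ = c * (c⁻¹ * b.μ x * c * v) * c⁻¹ := by group
      _ = _ := by rw [e]; group))
  have pX : IsPGroup 2 X := by
    obtain ⟨n, hn⟩ := pQ.exists_card_eq
    exact IsPGroup.of_card (q4.trans hn)
  have XR : X ≤ 𝐂[R] := XL.trans (cent_comm hR.le)
  have pW : IsPGroup 2 (X ⊔ R : Subgroup G) := pg_sup pX hR.pg (norm_of_cent XR)
  have WR : X ⊔ R ≤ 𝐂[R] := sup_le XR (TB.comm_four r4)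
  have WN : X ⊔ R ≤ 𝐍[b.L] := sup_le (XL.trans le_normalizer) (hR.le.trans (cent_le_norm _))
  have WN' : X ⊔ R ≤ 𝐍[(b.cj g).L] := (sup_le Xu Ru).trans uN
  have WX : ⁅X ⊔ R, X ⊔ R⁆ ≤ X := by
    have n : R ≤ 𝐍[X] := norm_of_cent (cent_comm XR)
    rw [sup_cent_comm n (cent_comm WR)]
    exact Loc.Mss.comm_le_left (sup_le le_normalizer n)
  have mW : ∀ x ∈ X ⊔ R, ∃ q ∈ X, ∃ r ∈ R, q * r = x := fun x hx => (mem_sup_norm' (norm_of_cent XR)).1 hx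
  have μW : ∀ q ∈ X, ∀ r ∈ R, b.μ (q * r) = b.μ q := fun q hq r hr => by
    rw [b.μ_mul (le_normalizer (XL hq)) (cent_le_norm _ (hR.le hr)),
      (b.μ_eq_one (cent_le_norm _ (hR.le hr))).2 (hR.le hr), mul_one]
  have XW : X ≤ X ⊔ R := le_sup_left
  have RW : R ≤ X ⊔ R := le_sup_right
  generalize X ⊔ R = W at pW WR WN WN' WX mW XW RW
  have k1 : 4 * Nat.card Q ≤ Nat.card W := by
    rw [← b.card_img WN, mul_comm]
    refine Nat.mul_le_mul ?_ (r4 ▸ card_le_of_le (le_inf RW hR.le))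
    rw [← card_cj Q c, ← qi]
    exact card_le_of_le (img_mono XW)
  have k2 := (b.cj g).card_img WN'
  rw [eK] at k2
  have k3 : Nat.card (W ⊓ cj(g, 𝐂[b.L]) : Subgroup G) ≤ 4 := by
    rw [← card_cj _ g⁻¹]
    exact le_four h (pg_cj (pW.to_le inf_le_left) _) (le_cj_iff_inv_le.1 inf_le_right)
  have WV : (b.cj g).img W ≤ 𝐂[cj(c₂, V)] := by
    rw [← e₃]
    exact map_cent_le _ (by
      rw [cent_subgroupOf (RW.trans WN')]
      exact comap_mono WR)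
  obtain ⟨k4, k5⟩ := card_W m.idx (nI c₂) hs ((b.cj g).pg_img pW) WV
  have k6 := two_mul_le (inf_le_left : Q ⊓ 𝐂[V] ≤ Q) fun e => nc (e.trans inf_le_right)
  have q0 : 0 < Nat.card Q := Nat.card_pos
  have k7 : Nat.card Q ≤ Nat.card ((b.cj g).img W) := by nlinarith
  have k8 : Nat.card (W ⊓ cj(g, 𝐂[b.L]) : Subgroup G) = 4 := by
    refine le_antisymm k3 (Nat.le_of_mul_le_mul_left ?_ q0)
    nlinarith [Nat.mul_le_mul_right (Nat.card (W ⊓ cj(g, 𝐂[b.L]) : Subgroup G)) (k4.trans k6)]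
  obtain ⟨d, d1, d2⟩ := k5 (k6.trans k7)
  have JW : cj(d, Q ⊓ 𝐂[V]) ≤ (b.cj g).img W := d2 ▸ inf_le_left
  rcases td with td | ⟨U, U1, U2, U3, U4⟩
  · have h1 : (b.cj g).img R ≤ (b.cj g).img X := by
      rw [e₃, ← d1]
      refine (cj_mono d td).trans ?_
      rw [cj_comm]
      refine (commutator_mono JW JW).trans ?_
      rw [← (b.cj g).img_comm WN' WN']
      exact img_mono WX
    have h2 : (b.cj g).img W ≤ (b.cj g).img X := fun φ hφ => by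
      obtain ⟨x, hx, rfl⟩ := ((b.cj g).mem_img WN').1 hφ
      obtain ⟨q, hq, r, hr, rfl⟩ := mW x hx
      rw [(b.cj g).μ_mul (WN' (XW hq)) (WN' (RW hr))]
      exact mul_mem (((b.cj g).mem_img (XW.trans WN')).2 ⟨q, hq, rfl⟩)
        (h1 (((b.cj g).mem_img (RW.trans WN')).2 ⟨r, hr, rfl⟩))
    have h3 := (b.cj g).card_img (XW.trans WN')
    have h4 : 2 ≤ Nat.card (X ⊓ 𝐂[(b.cj g).L] : Subgroup G) :=
      card_zp u2 u1 ▸ card_le_of_le ((zpowers_le (G := G)).2 ⟨uX, eK ▸ h.mem⟩)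
    have h5 := card_le_of_le h2
    nlinarith
  have WU : (b.cj g).img W ≤ 𝐂[cj(d, U)] := fun φ hφ => by
    rw [← cj_cent, mem_cj]
    refine U3 _ ((pg_iff.1 ((b.cj g).pg_img pW) φ hφ).imp fun n hn => ?_) ?_ ?_
    · rw [show d⁻¹ * φ * d = d⁻¹ * φ * d⁻¹⁻¹ by rw [inv_inv], conj_pow, hn]; group
    · rw [← mem_cj, cj_cent, d1]; exact WV hφ
    · rw [← mem_cj, cj_norm, ← d2]
      exact norm_inf le_normalizer (fun x _ => nI x) hφ
  obtain ⟨Y, hY⟩ : ∃ Y : Subgroup G, ∀ x, x ∈ Y ↔ x ∈ W ∧ (b.cj g).μ x ∈ cj(d, U) :=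
    ⟨{ carrier := {x | x ∈ W ∧ (b.cj g).μ x ∈ cj(d, U)}
       mul_mem' := fun hx hy => ⟨mul_mem hx.1 hy.1, by
        rw [(b.cj g).μ_mul (WN' hx.1) (WN' hy.1)]; exact mul_mem hx.2 hy.2⟩
       one_mem' := ⟨one_mem _, by rw [(b.cj g).μ_one]; exact one_mem _⟩
       inv_mem' := fun hx => ⟨inv_mem hx.1, by rw [(b.cj g).μ_inv (WN' hx.1)]; exact inv_mem hx.2⟩ },
      fun _ => Iff.rfl⟩
  have YW : Y ≤ W := fun x hx => ((hY x).1 hx).1
  have y1 : 64 ≤ Nat.card Y := by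
    rw [← (b.cj g).card_img (YW.trans WN')]
    refine (show 64 = 16 * 4 from rfl).le.trans (Nat.mul_le_mul (U2.trans ?_) ?_)
    · rw [← card_cj U d]
      refine card_le_of_le fun φ hφ => ?_
      obtain ⟨x, hx, rfl⟩ := ((b.cj g).mem_img WN').1 (JW (cj_mono d U1 hφ))
      exact ((b.cj g).mem_img (YW.trans WN')).2 ⟨x, (hY x).2 ⟨hx, hφ⟩, rfl⟩
    · rw [← k8, ← eK]
      refine card_le_of_le fun x hx => ⟨(hY x).2 ⟨hx.1, ?_⟩, hx.2⟩
      rw [((b.cj g).μ_eq_one (WN' hx.1)).2 hx.2]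
      exact one_mem _
  have iW : b.img W ≤ cj(c, Q) := fun φ hφ => by
    obtain ⟨x, hx, rfl⟩ := (b.mem_img WN).1 hφ
    obtain ⟨q, hq, r, hr, rfl⟩ := mW x hx
    rw [μW q hq r hr]
    exact (mq.1 hq).2
  have e₄ : b.img (W ⊓ cj(g, 𝐂[b.L])) = cj(c, V) :=
    h.act1 (le_inf inf_le_right (inf_le_left.trans WN)) ⟨XW uX, h.mem⟩ k8
      (norm_of_le ((img_mono inf_le_left).trans iW))
  have y2 : Nat.card (b.img Y) ≤ 8 := by
    rw [← card_cj _ c⁻¹]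
    refine U4 _ (le_cj_iff_inv_le.1 ((img_mono YW).trans iW)) fun φ hφ x hx => ?_
    obtain ⟨y, hy, e⟩ := (b.mem_img (YW.trans WN)).1 (mem_cj.1 hφ)
    obtain ⟨p, hp, e'⟩ := (b.mem_img (XW.trans WN)).1 (qi.ge (conj_mem_cj (g := c) hx))
    have yW := YW hy
    have pW' := XW hp
    have h1 : p⁻¹ * (y * p * y⁻¹) ∈ W := mul_mem (inv_mem pW') (mul_mem (mul_mem yW pW') (inv_mem yW))
    have h2 : p⁻¹ * (y * p * y⁻¹) ∈ cj(g, 𝐂[b.L]) := by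
      rw [← eK, ← (b.cj g).μ_eq_one (WN' h1), (b.cj g).μ_mul (inv_mem (WN' pW'))
        (WN' (mul_mem (mul_mem yW pW') (inv_mem yW))), μ_conj (WN' yW) (WN' pW'), (b.cj g).μ_inv (WN' pW'),
        mem_cent.1 (WU (((b.cj g).mem_img WN').2 ⟨p, pW', rfl⟩)) _ ((hY y).1 hy).2]
      group
    have h3 := e₄.le ((b.mem_img (inf_le_left.trans WN)).2 ⟨_, ⟨h1, h2⟩, rfl⟩)
    rw [b.μ_mul (inv_mem (WN pW')) (WN (mul_mem (mul_mem yW pW') (inv_mem yW))), μ_conj (WN yW) (WN pW'),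
      b.μ_inv (WN pW'), e, e', mem_cj] at h3
    convert h3 using 1
    group
  have y3 := le_four h (pW.to_le ((inf_le_left : Y ⊓ 𝐂[b.L] ≤ Y).trans YW)) inf_le_right
  have y4 := b.card_img (YW.trans WN)
  nlinarith [Nat.mul_le_mul y2 y3]

end TD

open TD TZ

theorem Bas.Pair.not_four {b : Bas m G} {g t k u : G} (h : b.Pair g t k u) : ¬ 4 ∣ Nat.card 𝐂[b.L] := by
  intro h4
  have := b.finite
  have : Finite (MulAut A) := MulEquiv.finite_left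
  obtain ⟨w, w1, w2, w3, w4⟩ := h.exists_inv h4
  obtain ⟨w', w1', w2', w3', w4'⟩ := Bas.exists_inv_symm h.nn h4 w1 w2 w3 w4
  obtain ⟨u, c, V, Q, s⟩ := b.exists_shp h.nn h4 w1 w2 w3 w4
  obtain ⟨u', c', V', Q', s'⟩ := b.exists_shp (fun e => h.nn (inv_mem_iff.1 e)) h4 w1' w2' w3' w4'
  rcases s.typ with ⟨e, rfl, rfl, y1⟩ | ⟨e, rfl, rfl, b1⟩
  · obtain ⟨y2, y3, y4, y5, y6, y7⟩ := m.tg.yz.resolve_left y1
    obtain ⟨-, rfl, rfl, -⟩ := s'.typ.resolve_right fun e => e.2.2.2 y2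
    have e1 : C1 m.y = 𝐂[zpowers m.y] := by
      refine le_antisymm (fun x hx => mem_cent.2 ?_) fun x hx => mC.2 (mem_cent.1 hx _ (mem_zpowers _)).symm
      rintro _ ⟨n, rfl⟩
      exact (Commute.zpow_left (mC.1 hx).symm n : Commute _ _)
    refine core s s' e m.lw.zT (fun x hx => mC.2 (mem_cent.1 m.lw.zc x hx)) m.lw.syl.le m.lw.syl.pg
      (syl_y m.lw y3 y4 y6) (fun e => y5 (cent_comm e (mem_zpowers _))) (.inl ?_)
    rw [← e1]
    exact (zpowers_le (G := MulAut A)).2 y7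
  · have hd := m.tg.bd.resolve_left b1
    obtain ⟨-, rfl, rfl, -⟩ := s'.typ.resolve_left fun e => b1 (m.tg.yz.resolve_left e.2.2.2).1
    exact core s s' e m.lw.bP m.lw.PC (m.lw.sylP.le.trans inf_le_left) m.lw.sylP.pg (syl_B m.lw b1 hd) hd.nc
      (hd.td.imp_right fun ⟨U, U1, U2, U3⟩ => ⟨U, U1, U2, U3, fun X hX hc => card_eight m.lw hd hX hc⟩)

end Cfsg.Agent.Wz
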