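import Mathlib
import Cfsg.Agent.Wz.TZ
import Cfsg.Agent.Wz.TD

/-!
# The centraliser of the standard subgroup has a Sylow 2-subgroup `⟨t⟩`, and `t` is conjugate to `t z`
-/

set_option autoImplicit false
set_option linter.unusedSectionVars false

namespace Cfsg.Agent.Wz

open Cfsg.Agent.Loc.Mss Cfsg.Agent.Gold Cfsg.Agent.Wr Subgroup

universe u

variable {A : Type} [Group A] {m : Md A} {G : Type u} [Group G] [Finite G]

namespace TE

open TZ

theorem pg_zp {g : G} (h : Two g) : IsPGroup 2 (zpowers g) := by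
  obtain ⟨n, h⟩ := h
  exact IsPGroup.of_card_dvd_pow (n := n) (by rw [Nat.card_zpowers]; exact orderOf_dvd_of_pow_eq_one h)

theorem two_invol {g : G} (h : g * g = 1) : Two g := ⟨1, by rw [pow_one, sq, h]⟩

/-- A 2-subgroup containing an involution `t` of a group of order not divisible by four is `⟨t⟩`. -/
theorem eq_of_pg {K R : Subgroup G} (h4 : ¬ 4 ∣ Nat.card K) (hR : IsPGroup 2 R) (hle : R ≤ K) {t : G} (ht : t ∈ R)
    (tt : t * t = 1) (t1 : t ≠ 1) : R ≤ zpowers t := by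
  have h3 : Nat.card (zpowers t) = 2 := by
    rw [Nat.card_zpowers]; exact orderOf_eq_prime (by rw [sq, tt]) t1
  obtain ⟨n, hn⟩ := hR.exists_card_eq
  have h5 : Nat.card R ≤ 2 := by
    rcases n with _ | _ | n
    · omega
    · omega
    · exact absurd ((Dvd.intro_left (2 ^ n) (by rw [hn]; ring)).trans (card_dvd_of_le hle)) h4
  exact (eq_of_le_of_card_ge ((zpowers_le (G := G)).2 ht) (by omega)).ge

end TE

open TE TZ

theorem Bas.Pair.tw {b : Bas m G} {g t k u : G} (h : b.Pair g t k u) : b.Tw t := by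
  have h4 := h.not_four
  have tR : zpowers t ≤ 𝐂[b.L] := (zpowers_le (G := G)).2 h.tK
  have two : ∀ k ∈ 𝐂[b.L], k * t = t * k → Two k → k = 1 ∨ k = t := fun c hc e c2 => by
    have h1 : zpowers c ≤ 𝐂[zpowers t] := (zpowers_le (G := G)).2 (mem_cent.2 fun a ha => by
      obtain ⟨n, rfl⟩ := ha
      exact (Commute.zpow_left e.symm n : Commute _ _))
    exact (mem_zp h.tt).1 (eq_of_pg h4 (pg_sup (pg_zp c2) (pg_zp (two_invol h.tt)) (norm_of_cent h1))
      (sup_le ((zpowers_le (G := G)).2 hc) tR) (mem_sup_right (mem_zpowers t)) h.tt h.t1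
      (mem_sup_left (mem_zpowers c)))
  refine ⟨h.tt, h.t1, h.tK, two, ?_⟩
  obtain ⟨β, hβ, hμ⟩ := b.exists_β
  have lw := b.lw hβ hμ
  have hu : u = b.z ∨ u = β := h.uu.imp_right fun e => b.eq_of_μ h.uL hβ (e.trans hμ.symm)
  have u2 : u * u = 1 := hu.elim (fun e => e ▸ lw.zz) fun e => e ▸ lw.bb
  have u1 : u ≠ 1 := hu.elim (fun e => e ▸ lw.z1) fun e => e ▸ lw.b1
  have uk : u * k = k * u := mem_cent.1 h.kK u h.uL
  have v2 : u * k * (u * k) = 1 := by
    calc u * k * (u * k) = u * (k * u) * k := by group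
      _ = u * u * (k * k) := by rw [← uk]; group
      _ = 1 := by rw [u2, h.kk, one_mul]
  have v1 : u * k ≠ 1 := fun e => u1 (b.zL h.uL (by rw [eq_inv_of_mul_eq_one_left e]; exact inv_mem h.kK))
  have hS : Syl 2 (zpowers t) 𝐂[b.L] := Syl.of_maximal (pg_zp (two_invol h.tt)) tR fun R hR h1 h2 =>
    eq_of_pg h4 hR h2 (h1 (mem_zpowers t)) h.tt h.t1
  obtain ⟨x, hx⟩ : ∃ x, x * t * x⁻¹ = u * k := by
    obtain ⟨c, -, hc⟩ := hS.conj_le (pg_zp (two_invol (g := g⁻¹ * (u * k) * g) (by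
      calc _ = g⁻¹ * (u * k * (u * k)) * g := by group
        _ = 1 := by rw [v2]; group))) ((zpowers_le (G := G)).2 (mem_cj.1 h.mem))
    rcases (mem_zp h.tt).1 (cj_le_iff.1 hc _ (mem_zpowers _)) with e | e
    · refine absurd ?_ v1
      calc u * k = g * c⁻¹ * (c * (g⁻¹ * (u * k) * g) * c⁻¹) * c * g⁻¹ := by group
        _ = 1 := by rw [e]; group
    · exact ⟨g * c⁻¹, by rw [← e]; group⟩
  rcases two k h.kK h.kt (two_invol h.kk) with rfl | rfl
  · exfalso
    rw [mul_one] at hx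
    obtain ⟨Q, q1, q2, q3⟩ : ∃ Q : Subgroup G, IsPGroup 2 Q ∧ Q ≤ C1 u ∧ u ∈ ⁅Q, Q⁆ := by
      rcases hu with rfl | rfl
      · exact ⟨_, lw.syl.pg, fun a ha => mC.2 (mem_cent.1 lw.zc a ha), lw.zD⟩
      · exact ⟨_, lw.sylP.pg, lw.PC, lw.bD⟩
    have h1 : cj(x⁻¹, Q) ≤ C1 t := cj_le_iff.2 fun a ha => mC.2 (by
      have e := mC.1 (q2 ha)
      rw [← hx] at e
      calc x⁻¹ * a * x⁻¹⁻¹ * t = x⁻¹ * (a * (x * t * x⁻¹)) * x := by group
        _ = _ := by rw [e]; group)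
    refine h.t1 (b.zL (Bas.comm_le_L h.tt h.t1 h.tK two (pg_cj q1 _) h1 ?_) h.tK)
    rw [← cj_comm, mem_cj, inv_inv, hx]
    exact q3
  · rw [uk] at hx
    rcases hu with rfl | rfl
    · exact ⟨x, hx⟩
    · exact Bas.fus_of_β h.tt h.t1 h.tK two hβ hμ hx

end Cfsg.Agent.Wz
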